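import Cfsg.Agent.Lib.KnownA.Suzuki.Facts
import Cfsg.Agent.Lib.KnownB.PSLAut.Out
import Cfsg.Prelude.Def_KGroupFacts

/-!
Automorphisms of the Suzuki groups: every one is an inner automorphism times a field automorphism.
-/

set_option autoImplicit false

namespace CfsgLib.KnownA.Suzuki

open Matrix Cfsg.Lie

variable {F : Type*} [Field F] {e : ℕ} (H : TitsField F e)
include H

theorem eq_of_moves_all {g k : Sz F e} (h : ∀ p, ∃ p', Moves H g p p' ∧ Moves H k p p') : g = k := by
  have hfix : ∀ p, Moves H (k⁻¹ * g) p p := fun p => by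
    obtain ⟨p', h1, h2⟩ := h p
    exact Moves.trans H h1 (Moves.symm H h2)
  exact (inv_mul_eq_one.1 (eq_one_of_three H (p := none) (q := some (0, 0)) (r := some (1, 0))
    (by simp) (by simp) (by simp) (hfix _) (hfix _) (hfix _))).symm

theorem map_rep (φ : F ≃+* F) (p : Option (F × F)) :
    (mat (rep H p)).map φ = mat (rep H (p.map fun x => (φ x.1, φ x.2))) := by
  rcases p with _ | ⟨a, b⟩
  · simp [rep, mat_one]
  · simp only [rep, Option.map_some, mat_mul]
    ext i j
    fin_cases i <;> fin_cases j <;>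
      simp [mat, su, sw, uGL, wGL, uMat, wMat, fv, Matrix.mul_apply, Fin.sum_univ_four]

theorem map_normalForm (φ : F ≃+* F) (g : Sz F e) :
    ∃ g' : Sz F e, mat g' = (mat g).map φ := by
  obtain ⟨⟨p, ⟨a, b⟩, t⟩, rfl⟩ := normalForm_surjective H g
  refine ⟨normalForm H (p.map fun x => (φ x.1, φ x.2), (φ a, φ b), Units.map φ.toRingHom.toMonoidHom t), ?_⟩
  simp only [normalForm, mat_mul]
  rw [Matrix.map_mul, Matrix.map_mul, map_rep H]
  congr 1
  congr 1
  · ext i j
    fin_cases i <;> fin_cases j <;> simp [mat, su, uGL, uMat, fv]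
  · ext i j
    fin_cases i <;> fin_cases j <;> simp [mat, sh, hGL, hMat]

/-- Entrywise action of a field automorphism. -/
noncomputable def fieldEnd (φ : F ≃+* F) (g : Sz F e) : Sz F e := Classical.choose (map_normalForm H φ g)

theorem mat_fieldEnd (φ : F ≃+* F) (g : Sz F e) : mat (fieldEnd H φ g) = (mat g).map φ :=
  Classical.choose_spec (map_normalForm H φ g)

/-- The field automorphisms. -/
noncomputable def fieldAut : (F ≃+* F) →* MulAut (Sz F e) where
  toFun φ :=
    { toFun := fieldEnd H φ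
      invFun := fieldEnd H φ.symm
      left_inv := fun g => mat_ext (by
        rw [mat_fieldEnd, mat_fieldEnd, Matrix.map_map]
        ext i j; simp)
      right_inv := fun g => mat_ext (by
        rw [mat_fieldEnd, mat_fieldEnd, Matrix.map_map]
        ext i j; simp)
      map_mul' := fun g k => mat_ext (by
        rw [mat_fieldEnd, mat_mul, mat_mul, mat_fieldEnd, mat_fieldEnd, Matrix.map_mul]) }
  map_one' := MulEquiv.ext fun g => mat_ext (by
    show mat (fieldEnd H 1 g) = mat g
    rw [mat_fieldEnd]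
    ext i j; rfl)
  map_mul' φ ψ := MulEquiv.ext fun g => mat_ext (by
    show mat (fieldEnd H (φ * ψ) g) = mat (fieldEnd H φ (fieldEnd H ψ g))
    rw [mat_fieldEnd, mat_fieldEnd, mat_fieldEnd, Matrix.map_map]
    rfl)

theorem fieldAut_su (φ : F ≃+* F) (a b : F) : fieldAut H φ (su H a b) = su H (φ a) (φ b) := by
  apply mat_ext
  show mat (fieldEnd H φ (su H a b)) = _
  rw [mat_fieldEnd]
  ext i j
  fin_cases i <;> fin_cases j <;> simp [mat, su, uGL, uMat, fv]

theorem fieldAut_sh (φ : F ≃+* F) (t : Fˣ) :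
    fieldAut H φ (sh H t) = sh H (Units.map φ.toRingHom.toMonoidHom t) := by
  apply mat_ext
  show mat (fieldEnd H φ (sh H t)) = _
  rw [mat_fieldEnd]
  ext i j
  fin_cases i <;> fin_cases j <;> simp [mat, sh, hGL, hMat]

theorem fieldAut_sw (φ : F ≃+* F) : fieldAut H φ (sw H) = sw H := by
  apply mat_ext
  show mat (fieldEnd H φ (sw H)) = _
  rw [mat_fieldEnd]
  ext i j
  fin_cases i <;> fin_cases j <;> simp [mat, sw, wGL, wMat]

theorem sw_moves_none : Moves H (sw H) none (some (0, 0)) := by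
  unfold Moves
  simpa [rep, su_zero] using toSL_rep H (some ((0 : F), (0 : F)))

theorem sh_moves_zero (t : Fˣ) : Moves H (sh H t) (some (0, 0)) (some (0, 0)) := by
  have := toSL_sh_some H t 0 0
  simpa [Moves] using this

/-- An automorphism fixing the Borel subgroup pointwise is trivial. -/
theorem eq_one_of_fix_borel {α : MulAut (Sz F e)} (hu : ∀ a b, α (su H a b) = su H a b)
    (hh : ∀ t, α (sh H t) = sh H t) {t : Fˣ} (ht : t ≠ 1) : α = 1 := by
  have hB : ∀ g ∈ borel H, α g = g := by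
    rintro _ ⟨a, b, s, rfl⟩
    rw [map_mul, hu, hh]
  obtain ⟨q, hq⟩ := exists_moves H (α (sw H)) none
  have hfixq : Moves H (sh H t) q q := by
    have h1 : sh H t * α (sw H) = α (sw H) * sh H t⁻¹ := by
      rw [← hh t, ← hh t⁻¹, ← map_mul, ← map_mul, sw_conj]
    have h2 : Moves H (sh H t * α (sw H)) none q := by
      rw [h1]
      exact Moves.trans H (toSL_sh_none H _) hq
    simpa using Moves.trans H (Moves.symm H hq) h2
  have hq0 : q = some (0, 0) := by
    rcases q with _ | ⟨a, b⟩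
    · exfalso
      have hb := mem_borel_of_moves H hq
      have := hB _ hb
      exact sw_notMem_borel H (α.injective this ▸ hb)
    · by_contra hne
      have h1 : sh H t = 1 := eq_one_of_three H (p := none) (q := some (0, 0)) (r := some (a, b))
        (by simp) (fun e => hne e.symm) (by simp) (toSL_sh_none H t) (sh_moves_zero H t) hfixq
      exact ht (sh_inj H (h1.trans (sh_one H).symm))
  subst hq0
  have hrep : ∀ p, Moves H (α (rep H p)) none p := by
    rintro (_ | ⟨a, b⟩)
    · simp only [rep, map_one]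
      simpa using (borel_moves H (borel H).one_mem)
    · have : α (rep H (some (a, b))) = su H a b * α (sw H) := by simp [rep, hu]
      rw [this]
      refine Moves.trans H hq ?_
      simpa using su_moves H a b 0 0
  have hnone : ∀ g, ∀ p, Moves H g none p → Moves H (α g) none p := by
    intro g p hg
    obtain ⟨⟨p', ⟨a, b⟩, s⟩, rfl⟩ := normalForm_surjective H g
    have hb : su H a b * sh H s ∈ borel H := ⟨a, b, s, rfl⟩
    obtain rfl : p' = p := Moves.unique H (Moves.trans H (borel_moves H hb) (toSL_rep H p')) hg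
    simp only [normalForm, map_mul, hu, hh]
    exact Moves.trans H (borel_moves H hb) (hrep p')
  refine MulEquiv.ext fun g => eq_of_moves_all H fun p => ?_
  obtain ⟨p', hp'⟩ := exists_moves H g p
  refine ⟨p', ?_, hp'⟩
  have h1 := hnone _ p' (Moves.trans H (toSL_rep H p) hp')
  rw [map_mul] at h1
  simpa using Moves.trans H (Moves.symm H (hrep p)) h1

theorem exists_conj_uni [Fintype F] {m : ℕ} (hF : Fintype.card F = 2 ^ (2 * m + 1))
    (α : MulAut (Sz F e)) :
    ∃ k, ∀ g ∈ uni H, (MulAut.conj k * α : MulAut (Sz F e)) g ∈ uni H := by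
  haveI := Fact.mk Nat.prime_two
  let Q : Sylow 2 (Sz F e) := (uniSylow H hF).mapSurjective (f := α.toMonoidHom) α.surjective
  obtain ⟨k, hk⟩ := MulAction.exists_smul_eq (Sz F e) Q (uniSylow H hF)
  refine ⟨k, fun g hg => ?_⟩
  rw [← coe_uniSylow H hF, ← hk]
  exact ⟨α g, ⟨g, hg, rfl⟩, rfl⟩

/-- Every automorphism is inner times field. -/
theorem exists_conj_field [Fintype F] {m : ℕ} (hm : 1 ≤ m) (hF : Fintype.card F = 2 ^ (2 * m + 1))
    (α₀ : MulAut (Sz F e)) : ∃ (k : Sz F e) (φ : F ≃+* F), α₀ = MulAut.conj k * fieldAut H φ := by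
  classical
  have h4 : 4 ≤ Nat.card F := by
    rw [Nat.card_eq_fintype_card, hF]
    calc 4 = 2 ^ 2 := rfl
      _ ≤ _ := Nat.pow_le_pow_right two_pos (by omega)
  obtain ⟨t₁, ht₁⟩ := exists_unit_ne_one H h4
  obtain ⟨t₀, ht₀⟩ := IsCyclic.exists_generator (α := Fˣ)
  have ht₀1 : t₀ ≠ 1 := by
    rintro rfl
    exact ht₁ (by simpa using ht₀ t₁)
  obtain ⟨k₁, hk₁⟩ := exists_conj_uni H hF α₀
  set α₁ := MulAut.conj k₁ * α₀ with hα₁
  have hN : ∀ g ∈ borel H, α₁ g ∈ borel H := by
    intro g hg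
    rw [← normalizer_uni H] at hg ⊢
    have hsurj : ∀ x ∈ uni H, ∃ y ∈ uni H, α₁ y = x := by
      have h : (uni H).map α₁.toMonoidHom = uni H :=
        Subgroup.eq_of_le_of_card_ge (Subgroup.map_le_iff_le_comap.2 hk₁)
          (Subgroup.card_map_of_injective (f := α₁.toMonoidHom) α₁.injective).ge
      intro x hx
      rw [← h] at hx
      obtain ⟨y, hy, hyx⟩ := hx
      exact ⟨y, hy, hyx⟩
    rw [Subgroup.mem_normalizer_iff] at hg ⊢
    intro x
    constructor
    · intro hx
      obtain ⟨y, hy, rfl⟩ := hsurj x hx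
      rw [← map_inv, ← map_mul, ← map_mul]
      exact hk₁ _ ((hg y).1 hy)
    · intro hx
      obtain ⟨y, hy, hxy⟩ := hsurj _ hx
      have : x = α₁ (g⁻¹ * y * g) := by
        rw [map_mul, map_mul, hxy, map_inv]
        group
      rw [this]
      refine hk₁ _ ((hg _).2 ?_)
      simpa [mul_assoc] using hy
  -- torus
  obtain ⟨a, b, s, hs⟩ := hN _ (sh_mem_borel H t₀)
  have hs1 : s ≠ 1 := by
    rintro rfl
    rw [sh_one, mul_one] at hs
    have hmem : α₁ (sh H t₀) ∈ (uni H).map α₁.toMonoidHom := by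
      rw [show (uni H).map α₁.toMonoidHom = uni H from
        Subgroup.eq_of_le_of_card_ge (Subgroup.map_le_iff_le_comap.2 hk₁)
          (Subgroup.card_map_of_injective (f := α₁.toMonoidHom) α₁.injective).ge]
      exact ⟨a, b, hs⟩
    obtain ⟨y, ⟨c, d, rfl⟩, hy⟩ := hmem
    have h' : su H c d = sh H t₀ := α₁.injective hy
    exact ht₀1 (Units.ext (by
      simpa [mat, su, sh, uGL, hGL, uMat, hMat] using (congrArg (fun g => mat g 1 1) h').symm))
  set r : F := ((s⁻¹ : Fˣ) : F) with hr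
  have hr1 : r ≠ 1 := fun e1 => hs1 (inv_eq_one.1 (Units.ext e1))
  have hd1 : r ^ e + 1 ≠ 0 := fun e1 => hr1 (H.pow_inj (by rw [H.eq_of_add e1, one_pow]))
  have hd2 : r ^ (e + 2) + 1 ≠ 0 := fun e1 => hr1 (H.eq_one_of_pow_add_two (H.eq_of_add e1))
  set c := a / (r ^ e + 1) with hc
  have hca : c + a + r ^ e * c = 0 := by
    have : c * (r ^ e + 1) = a := div_mul_cancel₀ a hd1
    linear_combination this + a * H.two
  obtain ⟨b', hb'⟩ : ∃ b', su H c 0 * (su H a b * sh H s) = su H 0 b' * sh H s * su H c 0 := by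
    obtain ⟨x, hx⟩ : ∃ x, su H c 0 * su H a b * (su H (r ^ e * c) (r ^ (e + 2) * 0))⁻¹ = su H 0 x := by
      refine ⟨b + c ^ e * a + (r ^ e * c) ^ e * (r ^ e * c) + (c + a) ^ e * (r ^ e * c), ?_⟩
      rw [su_inv, su_mul, su_mul]
      rw [show c + a + r ^ e * c = 0 from hca]
      congr 1
      ring
    refine ⟨x, ?_⟩
    rw [mul_assoc (su H 0 x), sh_mul_su, ← hr, ← hx, ← mul_assoc, ← mul_assoc, inv_mul_cancel_right]
  set d := b' / (r ^ (e + 2) + 1) with hd
  have hdb : d + b' + r ^ (e + 2) * d = 0 := by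
    have : d * (r ^ (e + 2) + 1) = b' := div_mul_cancel₀ b' hd2
    linear_combination this + b' * H.two
  have hz : sz H d * (su H 0 b' * sh H s) = sh H s * sz H d := by
    rw [← mul_assoc, sz_mul, sh_mul_su, mul_zero, ← hr]
    congr 2
    linear_combination hdb - (r ^ (e + 2) * d) * H.two
  set k₂ := sz H d * su H c 0 with hk₂
  set α₂ := MulAut.conj k₂ * α₁ with hα₂
  have hgen : α₂ (sh H t₀) = sh H s := by
    rw [hα₂, MulAut.mul_apply, MulAut.conj_apply, hs, hk₂, mul_assoc (sz H d), hb',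
      ← mul_assoc, hz, mul_assoc (sh H s), ← hk₂, mul_inv_cancel_right]
  have hu₂ : ∀ g ∈ uni H, α₂ g ∈ uni H := by
    intro g hg
    rw [hα₂, MulAut.mul_apply, MulAut.conj_apply]
    have hk : k₂ ∈ uni H := (uni H).mul_mem ⟨_, _, rfl⟩ ⟨_, _, rfl⟩
    exact (uni H).mul_mem ((uni H).mul_mem hk (hk₁ g hg)) ((uni H).inv_mem hk)
  let hom : Fˣ →* Sz F e := MonoidHom.mk' (fun t => sh H t) fun t u => (sh_mul H t u).symm
  have hτex : ∀ t : Fˣ, ∃ t' : Fˣ, α₂ (sh H t) = sh H t' := by
    intro t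
    obtain ⟨n, rfl⟩ := Subgroup.mem_zpowers_iff.1 (ht₀ t)
    refine ⟨s ^ n, ?_⟩
    show α₂ (hom (t₀ ^ n)) = hom (s ^ n)
    rw [map_zpow, map_zpow, map_zpow]
    congr 1
  choose τ hτ using hτex
  have hex : ∀ a b, ∃ a' b', α₂ (su H a b) = su H a' b' := fun a b => hu₂ _ ⟨a, b, rfl⟩
  choose ψ2 χ2 hψχ using hex
  have hz0 : ∀ b, ψ2 0 b = 0 := by
    intro b
    have h1 : α₂ (sz H b) * α₂ (sz H b) = 1 := by
      rw [← map_mul, sz_mul, H.add_self, show sz H (0 : F) = 1 from su_zero H, map_one]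
    rw [hψχ, su_mul, ← su_zero H] at h1
    have h2 := (su_inj H h1).2
    rw [H.add_self, zero_add] at h2
    rcases mul_eq_zero.1 h2 with h | h
    · exact pow_eq_zero_iff H.e_ne |>.1 h
    · exact h
  set φ₀ : F → F := fun b => χ2 0 b with hφ₀
  have hφz : ∀ b, α₂ (sz H b) = sz H (φ₀ b) := fun b => by rw [hψχ, hz0]
  have hφadd : ∀ x y, φ₀ (x + y) = φ₀ x + φ₀ y := fun x y => by
    have := congrArg α₂ (sz_mul H x y).symm
    rw [map_mul, hφz, hφz, hφz, sz_mul] at this
    exact (su_inj H this).2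
  have hφinj : Function.Injective φ₀ := fun x y h =>
    (su_inj H (α₂.injective (by rw [hφz, hφz, h]) : sz H x = sz H y)).2
  have hφsh : ∀ (t : Fˣ) x, φ₀ ((t : F) ^ (e + 2) * x) = (τ t : F) ^ (e + 2) * φ₀ x := by
    intro t x
    have := congrArg α₂ (sz_mul_sh H t x)
    rw [map_mul, map_mul, hφz, hτ, hφz, sz_mul_sh] at this
    exact ((su_inj H (mul_left_cancel this)).2).symm
  have hφ00 : φ₀ 0 = 0 := by
    have := hφadd 0 0
    rw [add_zero] at this
    exact left_eq_add.1 this
  have hsur2 : Function.Surjective fun t : Fˣ => t ^ (e + 2) :=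
    Finite.surjective_of_injective fun u u' h => by
      have h1 : (u : F) ^ (e + 2) = (u' : F) ^ (e + 2) := by simpa using congrArg Units.val h
      have h2 := H.eq_one_of_pow_add_two (t := (u : F) / u')
        (by rw [div_pow, h1, div_self (pow_ne_zero _ u'.ne_zero)])
      exact Units.ext (eq_of_div_eq_one h2)
  have hroot : ∀ x : F, x ≠ 0 → ∃ t : Fˣ, (t : F) ^ (e + 2) = x := fun x hx => by
    obtain ⟨t, ht⟩ := hsur2 (Units.mk0 x hx)
    exact ⟨t, by simpa using congrArg Units.val ht⟩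
  set f := φ₀ 1 with hf
  have hf0 : f ≠ 0 := fun h => one_ne_zero (hφinj (h.trans hφ00.symm))
  have hmul : ∀ x y, φ₀ (x * y) * f = φ₀ x * φ₀ y := by
    intro x y
    by_cases hx : x = 0
    · simp [hx, hφ00]
    · obtain ⟨t, rfl⟩ := hroot x hx
      have h1 := hφsh t 1
      rw [mul_one] at h1
      rw [hφsh, h1, ← hf]
      ring
  let φ : F ≃+* F := RingEquiv.ofBijective
    ({ toFun := fun x => φ₀ x / f
       map_one' := div_self hf0
       map_mul' := fun x y => by
        field_simp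
        linear_combination hmul x y
       map_zero' := by rw [hφ00, zero_div]
       map_add' := fun x y => by rw [hφadd, add_div] } : F →+* F)
    (Finite.injective_iff_bijective.1 (RingHom.injective _))
  have hφval : ∀ x, φ x * f = φ₀ x := fun x => div_mul_cancel₀ _ hf0
  obtain ⟨u, hu⟩ := hroot f hf0
  set α₃ := (fieldAut H φ)⁻¹ * (MulAut.conj (sh H u) * α₂) with hα₃
  have hz₃ : ∀ x, α₃ (sz H x) = sz H x := by
    intro x
    rw [hα₃, MulAut.mul_apply, MulAut.mul_apply, MulAut.conj_apply, hφz, sh_mul_su, mul_zero,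
      mul_inv_cancel_right, MulAut.inv_apply, MulEquiv.symm_apply_eq, fieldAut_su, map_zero]
    congr 1
    rw [← hφval x, ← hu, mul_comm (φ x), ← mul_assoc, ← mul_pow, Units.inv_mul, one_pow, one_mul]
  have hh₃ : ∀ t, α₃ (sh H t) = sh H t := by
    intro t
    have h1 : φ ((t : F) ^ (e + 2)) = (τ t : F) ^ (e + 2) := by
      refine mul_right_cancel₀ hf0 ?_
      rw [hφval, ← mul_one ((t : F) ^ (e + 2)), hφsh]
    rw [hα₃, MulAut.mul_apply, MulAut.mul_apply, MulAut.conj_apply, hτ, sh_inv, sh_mul, sh_mul,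
      MulAut.inv_apply, MulEquiv.symm_apply_eq, fieldAut_sh]
    congr 1
    rw [mul_comm u, mul_inv_cancel_right]
    refine Units.ext ?_
    have h2 : ((τ t : F) / φ (t : F)) ^ (e + 2) = 1 := by
      rw [div_pow, ← h1, map_pow, div_self]
      exact pow_ne_zero _ ((map_ne_zero φ).2 t.ne_zero)
    simpa using eq_of_div_eq_one (H.eq_one_of_pow_add_two h2)
  have hu₃ : ∀ a b, α₃ (su H a b) = su H a b := by
    have hex₃ : ∀ a, ∃ a' b', α₃ (su H a 0) = su H a' b' := by
      intro a
      obtain ⟨a', b', h⟩ := hu₂ _ ⟨a, 0, rfl⟩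
      refine ⟨φ.symm ((((u⁻¹ : Fˣ) : F)) ^ e * a'), φ.symm ((((u⁻¹ : Fˣ) : F)) ^ (e + 2) * b'), ?_⟩
      rw [hα₃, MulAut.mul_apply, MulAut.mul_apply, MulAut.conj_apply, h, sh_mul_su,
        mul_inv_cancel_right, MulAut.inv_apply, MulEquiv.symm_apply_eq, fieldAut_su,
        φ.apply_symm_apply, φ.apply_symm_apply]
    choose ψ χ hψ using hex₃
    have hgen3 : ∀ a b, α₃ (su H a b) = su H (ψ a) (b + χ a) := by
      intro a b
      have : su H a b = sz H b * su H a 0 := by
        rw [su_mul, zero_pow H.e_ne, zero_mul, zero_add, add_zero, add_zero]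
      rw [this, map_mul, hz₃, hψ, su_mul, zero_pow H.e_ne, zero_mul, zero_add, add_zero]
    have hsc : ∀ (t : Fˣ) a, ψ ((t : F) ^ e * a) = (t : F) ^ e * ψ a ∧
        χ ((t : F) ^ e * a) = (t : F) ^ (e + 2) * χ a := by
      intro t a
      have := congrArg α₃ (sh_conj H t a 0)
      rw [map_mul, map_mul, hψ, hh₃, sh_conj, mul_zero, hψ] at this
      obtain ⟨e1, e2⟩ := su_inj H (mul_left_cancel this)
      exact ⟨e1.symm, e2.symm⟩
    have h0 : ψ 0 = 0 ∧ χ 0 = 0 := by
      have := hψ 0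
      rw [hz₃] at this
      exact ⟨(su_inj H this).1.symm, (su_inj H this).2.symm⟩
    set c₁ := ψ 1 with hc₁
    set k := χ 1 with hk
    have hform : ∀ x, ψ x = c₁ * x ∧ χ x = k * (x ^ e * x) := by
      intro x
      by_cases hx : x = 0
      · subst hx
        simp [h0.1, h0.2]
      obtain ⟨t, ht⟩ := Finite.surjective_of_injective (f := fun t : Fˣ => t ^ e)
        (fun u u' h => Units.ext (H.pow_inj (by simpa using congrArg Units.val h))) (Units.mk0 x hx)
      have ht' : (t : F) ^ e = x := by simpa using congrArg Units.val ht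
      obtain ⟨e1, e2⟩ := hsc t 1
      rw [mul_one, ht'] at e1 e2
      refine ⟨by rw [e1, ← hc₁, mul_comm], ?_⟩
      rw [e2, ← hk, ← ht', H.sq, ← pow_add, add_comm e 2, mul_comm]
    have hrel : ∀ a d, (c₁ ^ e * c₁ + 1 + k) * (a ^ e * d) + k * (d ^ e * a) = 0 := by
      intro a d
      have := congrArg α₃ (su_mul H a 0 d 0)
      rw [map_mul, hgen3, hgen3, su_mul, hgen3] at this
      have e2 := (su_inj H this).2
      rw [(hform a).1, (hform d).1, (hform a).2, (hform d).2, (hform (a + d)).2, mul_pow, H.add_pow] at e2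
      linear_combination e2 + (k * d ^ e * a + k * a ^ e * d + a ^ e * d) * H.two
    have hc1 : c₁ = 1 := by
      have h11 := hrel 1 1
      simp only [one_pow, one_mul, mul_one] at h11
      refine H.eq_one_of_pow_succ ?_
      rw [pow_succ]
      exact H.eq_of_add (by linear_combination h11 - k * H.two)
    have hk0 : k = 0 := by
      obtain ⟨t, ht⟩ := exists_unit_ne_one H h4
      have h1 := hrel (t : F) 1
      rw [hc1, one_pow, one_mul, one_mul] at h1
      have hne : (t : F) ^ e + (t : F) ≠ 0 := by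
        intro h
        have h' : (t : F) ^ e = t := H.eq_of_add h
        have h'' : (t : F) ^ 2 = t := by rw [← H.sq, h', h']
        exact ht (Units.ext (mul_left_cancel₀ t.ne_zero (by rw [Units.val_one]; linear_combination h'')))
      refine (mul_eq_zero.1 (show k * ((t : F) ^ e + t) = 0 by
        linear_combination h1 - ((t : F) ^ e) * H.two)).resolve_right hne
    intro a b
    rw [hgen3, (hform a).1, (hform a).2, hc1, hk0, one_mul, zero_mul, add_zero]
  have hone := eq_one_of_fix_borel H hu₃ hh₃ ht₁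
  refine ⟨(sh H u * (k₂ * k₁))⁻¹, φ, ?_⟩
  rw [hα₃, inv_mul_eq_one, hα₂, hα₁, ← mul_assoc, ← mul_assoc, ← map_mul, ← map_mul] at hone
  rw [hone, map_inv, mul_assoc (sh H u), inv_mul_cancel_left]

theorem fieldAut_inner [Finite F] (h4 : 4 ≤ Nat.card F) {k : Sz F e} {φ : F ≃+* F}
    (h : fieldAut H φ = MulAut.conj k) : φ = 1 := by
  have happ : ∀ g, fieldAut H φ g = k * g * k⁻¹ := fun g => by rw [h, MulAut.conj_apply]
  have hkN : k ∈ borel H := by
    rw [← normalizer_uni H, Subgroup.mem_normalizer_iff]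
    intro x
    constructor
    · rintro ⟨a, b, rfl⟩
      rw [← happ, fieldAut_su]
      exact ⟨_, _, rfl⟩
    · rintro ⟨a, b, hx⟩
      refine ⟨φ.symm a, φ.symm b, (fieldAut H φ).injective ?_⟩
      rw [happ, hx, fieldAut_su, φ.apply_symm_apply, φ.apply_symm_apply]
  have hw : k * sw H = sw H * k := by
    have := happ (sw H)
    rw [fieldAut_sw, eq_mul_inv_iff_mul_eq] at this
    exact this.symm
  have h00 : Moves H k (some (0, 0)) (some (0, 0)) := by
    have h1 : Moves H (k * sw H) none (some (0, 0)) := by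
      rw [hw]
      exact Moves.trans H (borel_moves H hkN) (sw_moves_none H)
    simpa using Moves.trans H (Moves.symm H (sw_moves_none H)) h1
  obtain ⟨s, rfl⟩ := exists_sh_of_moves H (borel_moves H hkN) h00
  have hz : ∀ x, φ x = ((s⁻¹ : Fˣ) : F) ^ (e + 2) * x := by
    intro x
    have := happ (sz H x)
    rw [fieldAut_su, sh_mul_su, mul_inv_cancel_right, map_zero] at this
    exact (su_inj H this).2
  refine RingEquiv.ext fun x => ?_
  have h1 := hz 1
  rw [map_one, mul_one] at h1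
  rw [hz x, ← h1, one_mul]
  rfl

/-- `|Out(Sz(q))| = 2m + 1`. -/
theorem natCard_out [Fintype F] {m : ℕ} (hm : 1 ≤ m) (hF : Fintype.card F = 2 ^ (2 * m + 1)) :
    Nat.card (Cfsg.Out (Sz F e)) = 2 * m + 1 := by
  have h4 : 4 ≤ Nat.card F := by
    rw [Nat.card_eq_fintype_card, hF]
    calc 4 = 2 ^ 2 := rfl
      _ ≤ _ := Nat.pow_le_pow_right two_pos (by omega)
  haveI : Fact (Nat.Prime 2) := ⟨Nat.prime_two⟩
  rw [← CfsgLib.KnownB.PSLAut.card_gal (F := F) (p := 2) (f := 2 * m + 1) (by omega) hF]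
  refine (Nat.card_eq_of_bijective (fun φ : F ≃+* F =>
    (QuotientGroup.mk (fieldAut H φ) : Cfsg.Out (Sz F e))) ⟨fun φ φ' hφ => ?_, fun x => ?_⟩).symm
  · obtain ⟨k, hk⟩ := QuotientGroup.eq.1 hφ
    rw [← map_inv, ← map_mul] at hk
    exact inv_mul_eq_one.1 (fieldAut_inner H h4 hk.symm)
  · induction x using QuotientGroup.induction_on with | H α => ?_
    obtain ⟨k, φ, rfl⟩ := exists_conj_field H hm hF α
    refine ⟨φ, QuotientGroup.eq.2 ⟨(fieldAut H φ)⁻¹ k, ?_⟩⟩
    refine MulEquiv.ext fun g => ?_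
    simp [MulAut.inv_apply]

end CfsgLib.KnownA.Suzuki
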