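import Mathlib
import Cfsg.Prelude.Def_Sz
import Cfsg.Agent.Lib.Recog.SzFixed

/-!
The Suzuki group `Sz(q)` inside `Sp₄(q)`: unipotent elements, torus, Weyl element, the ovoid, Bruhat
normal form and order.
-/

set_option autoImplicit false

namespace CfsgLib.KnownA.Suzuki

open Matrix Cfsg.Lie

variable {F : Type*} [Field F]

/-- The field data: characteristic two and `x ↦ x ^ e` squaring to the Frobenius map. -/
structure TitsField (F : Type*) [Field F] (e : ℕ) : Prop where
  two : (2 : F) = 0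
  sq : ∀ x : F, (x ^ e) ^ e = x ^ 2
  two_pow : ∃ k, e = 2 ^ k

theorem titsField_of_card [Fintype F] {m : ℕ} (hF : Fintype.card F = 2 ^ (2 * m + 1)) :
    TitsField F (2 ^ (m + 1)) := by
  refine ⟨?_, fun x => ?_, ⟨_, rfl⟩⟩
  · have h := FiniteField.cast_card_eq_zero F
    rw [hF, Nat.cast_pow] at h
    simpa using (pow_eq_zero_iff (by omega)).1 h
  · have : x ^ (2 ^ (2 * m + 1)) = x := hF ▸ FiniteField.pow_card x
    calc (x ^ 2 ^ (m + 1)) ^ 2 ^ (m + 1) = (x ^ (2 ^ (2 * m + 1))) ^ 2 := by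
          rw [← pow_mul, ← pow_mul]; ring_nf
      _ = x ^ 2 := by rw [this]

namespace TitsField

variable {e : ℕ}

theorem charP (H : TitsField F e) : CharP F 2 :=
  CharTwo.of_one_ne_zero_of_two_eq_zero one_ne_zero H.two

theorem add_self (H : TitsField F e) (x : F) : x + x = 0 := by linear_combination x * H.two

theorem eq_of_add (H : TitsField F e) {x y : F} (h : x + y = 0) : x = y := by
  linear_combination h - y * H.two

theorem three (H : TitsField F e) : (3 : F) = 1 := by linear_combination H.two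

theorem four (H : TitsField F e) : (4 : F) = 0 := by linear_combination (2 : F) * H.two

theorem neg_eq (H : TitsField F e) (x : F) : -x = x := by linear_combination -x * H.two

theorem add_pow (H : TitsField F e) (x y : F) : (x + y) ^ e = x ^ e + y ^ e := by
  have := H.charP
  obtain ⟨k, rfl⟩ := H.two_pow
  exact add_pow_char_pow x y (p := 2) (n := k)

theorem e_ne (H : TitsField F e) : e ≠ 0 := by
  obtain ⟨k, rfl⟩ := H.two_pow
  positivity

theorem sq_inj (H : TitsField F e) {x y : F} (h : x ^ 2 = y ^ 2) : x = y := by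
  have h1 : (x + y) * (x + y) = 0 := by linear_combination h + (y ^ 2 + x * y) * H.two
  exact H.eq_of_add (mul_self_eq_zero.1 h1)

theorem pow_inj (H : TitsField F e) {x y : F} (h : x ^ e = y ^ e) : x = y :=
  H.sq_inj (by rw [← H.sq, h, H.sq])

/-- `t ↦ t ^ (e + 1)` is injective. -/
theorem eq_one_of_pow_succ (H : TitsField F e) {t : F} (h : t ^ (e + 1) = 1) : t = 1 := by
  have h1 : t ^ e * t = 1 := by rw [← pow_succ]; exact h
  have h2 : (t ^ e) ^ e * t ^ e = 1 := by rw [← mul_pow, h1, one_pow]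
  rw [H.sq] at h2
  linear_combination h2 - t * h1

/-- `t ↦ t ^ (e + 2)` is injective. -/
theorem eq_one_of_pow_add_two (H : TitsField F e) {t : F} (h : t ^ (e + 2) = 1) : t = 1 := by
  have h1 : t ^ e * t ^ 2 = 1 := by rw [← pow_add]; exact h
  have h2 : (t ^ e) ^ e * (t ^ 2) ^ e = 1 := by rw [← mul_pow, h1, one_pow]
  rw [H.sq, pow_right_comm t 2 e] at h2
  have h3 : t ^ e = 1 := by linear_combination h2 - t ^ e * h1
  exact H.pow_inj (by rw [h3, one_pow])

end TitsField

/-- The last coordinate of an affine ovoid vector. -/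
def fv (e : ℕ) (a b : F) : F := a ^ (e + 2) + a * b + b ^ e

/-- Lower unitriangular element. -/
def uMat (e : ℕ) (a b : F) : Matrix (Fin 4) (Fin 4) F :=
  !![1, 0, 0, 0; a, 1, 0, 0; b, a ^ e, 1, 0; fv e a b, b + a ^ (e + 1), a, 1]

/-- Torus element. -/
def hMat (e : ℕ) (t : F) : Matrix (Fin 4) (Fin 4) F :=
  !![t ^ (e + 1), 0, 0, 0; 0, t, 0, 0; 0, 0, t⁻¹, 0; 0, 0, 0, (t ^ (e + 1))⁻¹]

/-- Weyl element. -/
def wMat (F : Type*) [Field F] : Matrix (Fin 4) (Fin 4) F :=
  !![0, 0, 0, 1; 0, 0, 1, 0; 0, 1, 0, 0; 1, 0, 0, 0]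

variable {e : ℕ} (H : TitsField F e)
include H

theorem uMat_mul (a b c d : F) : uMat e a b * uMat e c d = uMat e (a + c) (b + d + a ^ e * c) := by
  have h2 := H.two
  have h3 : (a + c) ^ e = a ^ e + c ^ e := H.add_pow a c
  have h4 : (b + d + a ^ e * c) ^ e = b ^ e + d ^ e + a ^ 2 * c ^ e := by
    rw [H.add_pow, H.add_pow, mul_pow, H.sq]
  ext i j
  fin_cases i <;> fin_cases j <;>
    simp [uMat, fv, Matrix.mul_apply, Fin.sum_univ_four, pow_add, h3, h4] <;> ring_nf <;>
    simp [h2, H.three, H.four]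

theorem uMat_zero : uMat e (0 : F) 0 = 1 := by
  have := H.e_ne
  ext i j
  fin_cases i <;> fin_cases j <;> simp [uMat, fv, this]

theorem uMat_inv (a b : F) : uMat e a b * uMat e a (b + a ^ e * a) = 1 := by
  rw [uMat_mul H, H.add_self, show b + (b + a ^ e * a) + a ^ e * a = (b + b) + (a ^ e * a + a ^ e * a) by ring,
    H.add_self, H.add_self, add_zero, uMat_zero H]

theorem uMat_inv' (a b : F) : uMat e a (b + a ^ e * a) * uMat e a b = 1 :=
  mul_eq_one_comm.1 (uMat_inv H a b)

/-- Lower unitriangular element, in `GL`. -/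
def uGL (a b : F) : GL (Fin 4) F :=
  ⟨uMat e a b, uMat e a (b + a ^ e * a), uMat_inv H a b, uMat_inv' H a b⟩

theorem uGL_coe (a b : F) : (uGL H a b : Matrix (Fin 4) (Fin 4) F) = uMat e a b := rfl

theorem uGL_mem (a b : F) : uGL H a b ∈ Sz F e := by
  have h2 := H.two
  refine Subgroup.subset_closure ⟨?_, ?_⟩
  · intro u v
    simp only [uGL, Units.coeHom_apply, altForm4, uMat, fv, Matrix.mulVec, dotProduct, Fin.sum_univ_four]
    simp [pow_add]
    ring_nf
    simp [h2, H.three, H.four]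
  · have he := H.sq a
    have h3 : (fv e a b) ^ e = a ^ 2 * (a ^ e) ^ 2 + a ^ e * b ^ e + b ^ 2 := by
      rw [fv, H.add_pow, H.add_pow, mul_pow, H.sq, pow_add, mul_pow, H.sq,
        pow_right_comm a 2 e]
    have h4 : (b + a ^ (e + 1)) ^ e = b ^ e + a ^ 2 * a ^ e := by
      rw [H.add_pow, pow_succ, mul_pow, H.sq]
    ext p r
    simp only [uGL, star4, Matrix.of_apply, Matrix.map_apply]
    fin_cases p <;> fin_cases r <;>
      simp [uMat, pairOf, H.e_ne, he, h3, h4, sub_eq_add_neg, H.neg_eq] <;> (try simp [fv, pow_add]) <;> (try ring_nf) <;> (try simp [h2, H.three, H.four])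

omit H in
theorem hMat_mul (e : ℕ) (t s : F) : hMat e t * hMat e s = hMat e (t * s) := by
  ext i j
  fin_cases i <;> fin_cases j <;>
    simp [hMat, Matrix.mul_apply, Fin.sum_univ_four, mul_pow] <;> ring

omit H in
theorem hMat_one (e : ℕ) : hMat e (1 : F) = 1 := by
  ext i j
  fin_cases i <;> fin_cases j <;> simp [hMat]

/-- Torus element, in `GL`. -/
def hGL (_H : TitsField F e) (t : Fˣ) : GL (Fin 4) F :=
  ⟨hMat e (t : F), hMat e ((t⁻¹ : Fˣ) : F), by rw [hMat_mul, ← Units.val_mul, mul_inv_cancel, Units.val_one, hMat_one],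
    by rw [hMat_mul, ← Units.val_mul, inv_mul_cancel, Units.val_one, hMat_one]⟩

theorem hGL_coe (t : Fˣ) : (hGL H t : Matrix (Fin 4) (Fin 4) F) = hMat e (t : F) := rfl

theorem hGL_mem (t : Fˣ) : hGL H t ∈ Sz F e := by
  have ht : (t : F) ≠ 0 := t.ne_zero
  refine Subgroup.subset_closure ⟨?_, ?_⟩
  · intro u v
    simp only [hGL, Units.coeHom_apply, altForm4, hMat, Matrix.mulVec, dotProduct, Fin.sum_univ_four]
    simp
    field_simp
  · have h2 : ((t : F) ^ (e + 1)) ^ e = (t : F) ^ (e + 1) * t := by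
      rw [pow_succ, mul_pow, H.sq]; ring
    have h3 := H.two
    ext p r
    simp only [hGL, star4, Matrix.of_apply, Matrix.map_apply]
    fin_cases p <;> fin_cases r <;>
      simp [hMat, pairOf, H.e_ne, inv_pow, h2] <;> field_simp <;> ring

omit H in
theorem wMat_sq : wMat F * wMat F = 1 := by
  ext i j
  fin_cases i <;> fin_cases j <;> simp [wMat, Matrix.mul_apply, Fin.sum_univ_four]

/-- Weyl element, in `GL`. -/
def wGL (_H : TitsField F e) : GL (Fin 4) F := ⟨wMat F, wMat F, wMat_sq, wMat_sq⟩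

theorem wGL_mem : wGL H ∈ Sz F e := by
  refine Subgroup.subset_closure ⟨?_, ?_⟩
  · intro u v
    simp only [wGL, Units.coeHom_apply, altForm4, wMat, Matrix.mulVec, dotProduct, Fin.sum_univ_four]
    simp
    ring
  · have h2 := H.two
    ext p r
    simp only [wGL, star4, Matrix.of_apply, Matrix.map_apply]
    fin_cases p <;> fin_cases r <;> simp [wMat, pairOf, H.e_ne, H.neg_eq]

/-- `u(a,b)` in the Suzuki group. -/
def su (a b : F) : Sz F e := ⟨uGL H a b, uGL_mem H a b⟩

/-- `h(t)` in the Suzuki group. -/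
def sh (H : TitsField F e) (t : Fˣ) : Sz F e := ⟨hGL H t, hGL_mem H t⟩

/-- `w` in the Suzuki group. -/
def sw : Sz F e := ⟨wGL H, wGL_mem H⟩

/-- The underlying matrix. -/
abbrev mat (g : Sz F e) : Matrix (Fin 4) (Fin 4) F := ((g : GL (Fin 4) F) : Matrix (Fin 4) (Fin 4) F)

omit H in
theorem mat_mul (g k : Sz F e) : mat (g * k) = mat g * mat k := rfl

omit H in
theorem mat_one : mat (1 : Sz F e) = 1 := rfl

omit H in
theorem mat_ext {g k : Sz F e} (h : mat g = mat k) : g = k := Subtype.ext (Units.ext h)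

theorem su_mul (a b c d : F) : su H a b * su H c d = su H (a + c) (b + d + a ^ e * c) :=
  mat_ext (uMat_mul H a b c d)

theorem su_zero : su H (0 : F) 0 = 1 := mat_ext (uMat_zero H)

theorem su_inv (a b : F) : (su H a b)⁻¹ = su H a (b + a ^ e * a) :=
  inv_eq_of_mul_eq_one_right (mat_ext (uMat_inv H a b))

theorem su_inj {a b c d : F} (h : su H a b = su H c d) : a = c ∧ b = d :=
  ⟨by simpa [mat, su, uGL, uMat] using congrArg (fun g => mat g 1 0) h,
    by simpa [mat, su, uGL, uMat] using congrArg (fun g => mat g 2 0) h⟩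

theorem sh_mul (t s : Fˣ) : sh H t * sh H s = sh H (t * s) :=
  mat_ext (by simpa [mat, sh, hGL] using hMat_mul e (t : F) s)

theorem sh_one : sh H (1 : Fˣ) = 1 := mat_ext (by simpa [mat, sh, hGL] using hMat_one (F := F) e)

theorem sh_inv (t : Fˣ) : (sh H t)⁻¹ = sh H t⁻¹ :=
  inv_eq_of_mul_eq_one_right (by rw [sh_mul, mul_inv_cancel, sh_one])

theorem sh_inj {t s : Fˣ} (h : sh H t = sh H s) : t = s :=
  Units.ext (by simpa [mat, sh, hGL, hMat] using congrArg (fun g => mat g 1 1) h)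

theorem sh_conj (t : Fˣ) (a b : F) :
    su H a b * sh H t = sh H t * su H ((t : F) ^ e * a) ((t : F) ^ (e + 2) * b) := by
  apply mat_ext
  have ht : (t : F) ≠ 0 := t.ne_zero
  have h1 : ((t : F) ^ e * a) ^ e = (t : F) ^ 2 * a ^ e := by rw [mul_pow, H.sq]
  have h2 : ((t : F) ^ (e + 2) * b) ^ e = (t : F) ^ 2 * ((t : F) ^ e) ^ 2 * b ^ e := by
    rw [mul_pow, pow_add, mul_pow, H.sq, pow_right_comm]
  have h5 : (t : F) ^ e ^ 2 = (t : F) ^ 2 := by rw [sq, pow_mul, H.sq]
  simp only [mat_mul]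
  ext i j
  fin_cases i <;> fin_cases j <;>
    simp [mat, su, sh, uGL, hGL, uMat, hMat, fv, Matrix.mul_apply, Fin.sum_univ_four, h1, h2,
      pow_add] <;>
    field_simp <;> (try ring_nf) <;> (try simp [h1, h2, h5]) <;> (try ring_nf)

theorem sw_sq : sw H * sw H = 1 := mat_ext wMat_sq

theorem sw_conj (t : Fˣ) : sh H t * sw H = sw H * sh H t⁻¹ := by
  apply mat_ext
  simp only [mat_mul]
  ext i j
  fin_cases i <;> fin_cases j <;>
    simp [mat, sw, sh, wGL, hGL, wMat, hMat, Matrix.mul_apply, Fin.sum_univ_four]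

/-- Equations satisfied by an element of the Suzuki group. -/
theorem mem_eqs (g : Sz F e) :
    (g : GL (Fin 4) F) ∈ Sp4 F ∧ star4 (mat g) = (mat g).map (fun x => x ^ e) := by
  have := H.charP
  obtain ⟨k, hk⟩ := H.two_pow
  exact CfsgLib.Recog.Sz_mem hk g.2

omit H in
/-- The ovoid vectors. -/
def pv (e : ℕ) : Option (F × F) → Fin 4 → F
  | none => ![0, 0, 0, 1]
  | some (a, b) => ![1, a, b, fv e a b]

omit H in
theorem pv_inj {p p' : Option (F × F)} {c : F} (h : pv e p = c • pv e p') (hc : c ≠ 0) : p = p' := by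
  have h0 := congrFun h 0
  have h1 := congrFun h 1
  have h2 := congrFun h 2
  rcases p with _ | ⟨a, b⟩ <;> rcases p' with _ | ⟨a', b'⟩
  · rfl
  · simp [pv] at h0
    exact absurd h0.symm hc
  · simp [pv] at h0
  · simp [pv] at h0 h1 h2
    subst h0
    simp [h1, h2]

/-- The representative sending the point at infinity to a given point. -/
def rep : Option (F × F) → Sz F e
  | none => 1
  | some (a, b) => su H a b * sw H

theorem rep_col (p : Option (F × F)) (i : Fin 4) : mat (rep H p) i 3 = pv e p i := by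
  rcases p with _ | ⟨a, b⟩
  · rw [rep, mat_one]
    fin_cases i <;> simp [pv, Matrix.one_apply]
  · rw [rep, mat_mul]
    fin_cases i <;>
      simp [mat, su, sw, uGL, wGL, uMat, wMat, pv, Matrix.mul_apply, Fin.sum_univ_four]

/-- The image of the point at infinity lies on the ovoid. -/
theorem exists_point (g : Sz F e) :
    ∃ (p : Option (F × F)) (c : F), c ≠ 0 ∧ ∀ i, mat g i 3 = c * pv e p i := by
  have := H.charP
  obtain ⟨hsp, hst⟩ := mem_eqs H g
  have two := H.two
  set M := mat g with hM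
  set s : F := M 0 2 * M 3 3 + M 3 2 * M 0 3 with hs
  have e0 : M 0 2 * M 1 3 - M 1 2 * M 0 3 = M 0 3 ^ e := by
    simpa [star4, pairOf] using congrFun (congrFun hst 0) 3
  have e1 : M 0 2 * M 2 3 - M 2 2 * M 0 3 = M 1 3 ^ e := by
    simpa [star4, pairOf] using congrFun (congrFun hst 1) 3
  have e2 : M 1 2 * M 3 3 - M 3 2 * M 1 3 = M 2 3 ^ e := by
    simpa [star4, pairOf] using congrFun (congrFun hst 2) 3
  have e3 : M 2 2 * M 3 3 - M 3 2 * M 2 3 = M 3 3 ^ e := by
    simpa [star4, pairOf] using congrFun (congrFun hst 3) 3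
  have hB : M 0 2 * M 3 3 + M 1 2 * M 2 3 + M 2 2 * M 1 3 + M 3 2 * M 0 3 = 0 := by
    simpa [CfsgLib.Recog.antiDiag, Fin.rev] using CfsgLib.Recog.minor_cols hsp 2 3
  have r012 : M 0 3 * s + M 1 3 * M 1 3 ^ e + M 2 3 * M 0 3 ^ e = 0 := by
    rw [← e0, ← e1, hs]
    linear_combination M 0 3 * hB +
      (M 0 2 * M 1 3 * M 2 3 - M 0 3 * M 1 2 * M 2 3 - M 0 3 * M 2 2 * M 1 3) * two
  have r013 : M 0 3 * M 2 3 ^ e + M 1 3 * s + M 3 3 * M 0 3 ^ e = 0 := by
    rw [← e0, ← e2, hs]
    linear_combination (M 0 2 * M 1 3 * M 3 3) * two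
  have r123 : M 1 3 * M 3 3 ^ e + M 2 3 * M 2 3 ^ e + M 3 3 * s = 0 := by
    rw [← e3, ← e2, hs]
    linear_combination M 3 3 * hB +
      (-M 3 2 * M 1 3 * M 2 3) * two
  by_cases h0 : M 0 3 = 0
  · have h1 : M 1 3 = 0 := by
      have : M 1 3 * M 1 3 ^ e = 0 := by
        rw [h0] at r012
        simpa [H.e_ne] using r012
      rw [← pow_succ'] at this
      exact pow_eq_zero_iff (by omega) |>.1 this
    have hs2 : s * M 2 3 = 0 := by
      have h12 : M 0 2 * M 2 3 = 0 := by simpa [h0, h1, H.e_ne] using e1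
      rw [hs, h0]
      linear_combination M 3 3 * h12
    have h2 : M 2 3 = 0 := by
      by_contra h2
      rw [(mul_eq_zero.1 hs2).resolve_right h2, h1] at r123
      simp [h2, H.e_ne] at r123
    have h3 : M 3 3 ≠ 0 := by
      intro h3
      have h := CfsgLib.Recog.minor_cols hsp 0 3
      simp [CfsgLib.Recog.antiDiag, Fin.rev, M, hM] at h
      rw [show mat g 0 3 = 0 from h0, show mat g 1 3 = 0 from h1, show mat g 2 3 = 0 from h2,
        show mat g 3 3 = 0 from h3] at h
      simp at h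
    refine ⟨none, M 3 3, h3, fun i => ?_⟩
    fin_cases i <;> simp [pv, h0, h1, h2]
  · set d := M 0 3 with hd
    set x := M 1 3 / d with hx
    set y := M 2 3 / d with hy
    have g1 : M 1 3 = d * x := by rw [hx]; field_simp
    have g2 : M 2 3 = d * y := by rw [hy]; field_simp
    rw [g1, g2, mul_pow] at r012
    rw [g1, g2, mul_pow] at r013
    have hs' : s = d ^ e * (x * x ^ e + y) := by
      refine mul_left_cancel₀ h0 ?_
      linear_combination r012 - (d * d ^ e * (x * x ^ e + y)) * two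
    rw [hs'] at r013
    have g3 : M 3 3 = d * fv e x y := by
      refine mul_left_cancel₀ (pow_ne_zero e h0) ?_
      rw [fv, pow_add]
      linear_combination r013 - (d * d ^ e * (y ^ e + x ^ 2 * x ^ e + x * y)) * two
    refine ⟨some (x, y), d, h0, fun i => ?_⟩
    fin_cases i <;> simp [pv, g1, g2, g3, ← hd]

/-- The point stabiliser consists of the `u(a,b) h(t)`. -/
theorem exists_borel (g : Sz F e) (h03 : mat g 0 3 = 0) (h13 : mat g 1 3 = 0) (h23 : mat g 2 3 = 0) :
    ∃ (a b : F) (t : Fˣ), g = su H a b * sh H t := by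
  have := H.charP
  obtain ⟨p, c, hc, hp⟩ := exists_point H (g * sw H)
  have hcol : ∀ i, mat g i 0 = c * pv e p i := fun i => by
    rw [← hp i, mat_mul]
    simp [mat, sw, wGL, wMat, Matrix.mul_apply, Fin.sum_univ_four]
  obtain ⟨hsp, -⟩ := mem_eqs H g
  rcases p with _ | ⟨a, b⟩
  · exfalso
    have h := CfsgLib.Recog.minor_cols hsp 0 3
    simp [CfsgLib.Recog.antiDiag, Fin.rev] at h
    rw [show ((g : GL (Fin 4) F) : Matrix (Fin 4) (Fin 4) F) = mat g from rfl, h03, h13, h23,
      hcol 0] at h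
    simp [pv] at h
  set k := (su H a b)⁻¹ * g with hk
  have hg : g = su H a b * k := by rw [hk, mul_inv_cancel_left]
  have k03 : mat k 0 3 = 0 ∧ mat k 1 3 = 0 ∧ mat k 2 3 = 0 := by
    rw [hk, su_inv, mat_mul]
    simp [mat, su, uGL, uMat, Matrix.mul_apply, Fin.sum_univ_four, h03, h13, h23]
  have k0 : mat k 0 0 = c ∧ mat k 1 0 = 0 ∧ mat k 2 0 = 0 ∧ mat k 3 0 = 0 := by
    have two := H.two
    have hA : (b + a ^ e * a) ^ e = b ^ e + a ^ 2 * a ^ e := by rw [H.add_pow, mul_pow, H.sq]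
    rw [hk, su_inv, mat_mul]
    simp [mat, su, uGL, uMat, Matrix.mul_apply, Fin.sum_univ_four] 
    simp [show ((g : GL (Fin 4) F) : Matrix (Fin 4) (Fin 4) F) = mat g from rfl, hcol, pv, fv,
      pow_add, hA]
    refine ⟨?_, ?_, ?_⟩ <;> ring_nf <;> simp [two, H.four, show (6 : F) = 0 by linear_combination (3 : F) * two]
  obtain ⟨hsp', hst⟩ := mem_eqs H k
  obtain ⟨k03, k13, k23⟩ := k03
  obtain ⟨k00, k10, k20, k30⟩ := k0
  set M := mat k with hM
  have B := fun i j => CfsgLib.Recog.minor_cols hsp' i j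
  simp only [show ((k : GL (Fin 4) F) : Matrix (Fin 4) (Fin 4) F) = M from rfl] at B
  have b03 : c * M 3 3 = 1 := by
    have := B 0 3; simpa [CfsgLib.Recog.antiDiag, Fin.rev, k03, k13, k23, k00, k10, k20, k30] using this
  have h33 : M 3 3 ≠ 0 := right_ne_zero_of_mul_eq_one b03
  have k31 : M 3 1 = 0 := by
    have := B 0 1; simpa [CfsgLib.Recog.antiDiag, Fin.rev, k00, k10, k20, k30, hc] using this
  have k32 : M 3 2 = 0 := by
    have := B 0 2; simpa [CfsgLib.Recog.antiDiag, Fin.rev, k00, k10, k20, k30, hc] using this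
  have k01 : M 0 1 = 0 := by
    have := B 1 3; simpa [CfsgLib.Recog.antiDiag, Fin.rev, k03, k13, k23, h33] using this
  have k02 : M 0 2 = 0 := by
    have := B 2 3; simpa [CfsgLib.Recog.antiDiag, Fin.rev, k03, k13, k23, h33] using this
  have k21 : M 2 1 = 0 := by
    have := congrFun (congrFun hst 1) 0
    simpa [star4, pairOf, k00, k01, k10, k20, hc, H.e_ne] using this
  have k12 : M 1 2 = 0 := by
    have := congrFun (congrFun hst 2) 3
    simpa [star4, pairOf, k23, k13, h33, H.e_ne] using this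
  have b12 : M 1 1 * M 2 2 = 1 := by
    have := B 1 2; simpa [CfsgLib.Recog.antiDiag, Fin.rev, k01, k02, k21, k31] using this
  have h11 : M 1 1 ≠ 0 := left_ne_zero_of_mul_eq_one b12
  have s11 : c * M 2 2 = M 1 1 ^ e := by
    have := congrFun (congrFun hst 1) 1
    simpa [star4, pairOf, k00, k02, k20] using this
  have hc' : c = M 1 1 ^ (e + 1) := by
    rw [pow_succ, ← s11, mul_assoc, mul_comm (M 2 2), b12, mul_one]
  refine ⟨a, b, Units.mk0 _ h11, ?_⟩
  rw [hg]
  congr 1
  apply mat_ext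
  ext i j
  fin_cases i <;> fin_cases j <;>
    simp [mat, sh, hGL, hMat, show ((k : GL (Fin 4) F) : Matrix (Fin 4) (Fin 4) F) = M from rfl,
      k00, k01, k02, k03, k10, k12, k13, k20, k21, k23, k30, k31, k32, hc',
      eq_inv_of_mul_eq_one_right b12] <;>
    exact eq_inv_of_mul_eq_one_right (hc' ▸ b03)

/-- Bruhat normal form. -/
def normalForm (x : Option (F × F) × (F × F) × Fˣ) : Sz F e :=
  rep H x.1 * (su H x.2.1.1 x.2.1.2 * sh H x.2.2)

theorem borel_col (a b : F) (t : Fˣ) :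
    ∃ d : F, d ≠ 0 ∧ ∀ i, mat (su H a b * sh H t) i 3 = d * pv e none i := by
  refine ⟨((t : F) ^ (e + 1))⁻¹, inv_ne_zero (pow_ne_zero _ t.ne_zero), fun i => ?_⟩
  rw [mat_mul]
  fin_cases i <;>
    simp [mat, su, sh, uGL, hGL, uMat, hMat, pv, Matrix.mul_apply, Fin.sum_univ_four]

theorem normalForm_col (x : Option (F × F) × (F × F) × Fˣ) :
    ∃ d : F, d ≠ 0 ∧ ∀ i, mat (normalForm H x) i 3 = d * pv e x.1 i := by
  obtain ⟨d, hd, h⟩ := borel_col H x.2.1.1 x.2.1.2 x.2.2
  refine ⟨d, hd, fun i => ?_⟩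
  rw [normalForm, mat_mul, Matrix.mul_apply, Fin.sum_univ_four]
  simp only [h]
  simp [pv, rep_col, mul_comm]

theorem normalForm_injective : Function.Injective (normalForm H) := by
  intro x y hxy
  obtain ⟨d, hd, hx⟩ := normalForm_col H x
  obtain ⟨d', hd', hy⟩ := normalForm_col H y
  have h1 : x.1 = y.1 := by
    refine pv_inj (e := e) (c := d⁻¹ * d') ?_ (by simp [hd, hd'])
    funext i
    rw [Pi.smul_apply, smul_eq_mul, mul_assoc, ← hy i, ← hxy, hx i, inv_mul_cancel_left₀ hd]
  simp only [normalForm, h1] at hxy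
  have h2 := mul_left_cancel hxy
  have ht : x.2.2 = y.2.2 := Units.ext (by
    simpa [mat, su, sh, uGL, hGL, uMat, hMat, Matrix.mul_apply, Fin.sum_univ_four] using
      congrArg (fun g => mat g 1 1) h2)
  rw [ht] at h2
  obtain ⟨ha, hb⟩ := su_inj H (mul_right_cancel h2)
  exact Prod.ext h1 (Prod.ext (Prod.ext ha hb) ht)

theorem normalForm_surjective : Function.Surjective (normalForm H) := by
  intro g
  obtain ⟨p, c, hc, hp⟩ := exists_point H g
  set k := (rep H p)⁻¹ * g with hk
  have hinv : ∀ i, mat k i 3 = c * (mat ((rep H p)⁻¹ * rep H p) i 3) := fun i => by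
    rw [hk, mat_mul, mat_mul, Matrix.mul_apply, Matrix.mul_apply, Fin.sum_univ_four,
      Fin.sum_univ_four]
    simp only [hp, rep_col]
    ring
  rw [inv_mul_cancel, mat_one] at hinv
  obtain ⟨a, b, t, hab⟩ := exists_borel H k (by simp [hinv]) (by simp [hinv]) (by simp [hinv])
  exact ⟨(p, (a, b), t), by rw [normalForm, ← hab, hk, mul_inv_cancel_left]⟩

/-- The order of the Suzuki group. -/
theorem natCard_Sz [Fintype F] :
    Nat.card (Sz F e) = (Fintype.card F ^ 2 + 1) * (Fintype.card F ^ 2 * (Fintype.card F - 1)) := by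
  rw [← Nat.card_eq_of_bijective _ ⟨normalForm_injective H, normalForm_surjective H⟩]
  classical
  simp [Nat.card_prod, Nat.card_units, Finite.card_option, Nat.card_eq_fintype_card,
    Fintype.card_option, Fintype.card_units]
  ring

end CfsgLib.KnownA.Suzuki
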