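import Cfsg.Agent.Lib.KnownA.Suzuki.Count

/-!
Centralisers, Sylow subgroups and the partition of a Suzuki group.
-/

set_option autoImplicit false

namespace CfsgLib.KnownA.Suzuki

open Matrix Cfsg.Lie

variable {F : Type*} [Field F] [Fintype F] {e m : ℕ} (H : TitsField F e) (hm : 1 ≤ m)
  (hF : Fintype.card F = 2 ^ (2 * m + 1)) (he : e = 2 ^ (m + 1))

include H

theorem exists_sylow_conj_uni (hF : Fintype.card F = 2 ^ (2 * m + 1)) (P : Sylow 2 (Sz F e)) :
    ∃ k : Sz F e, ∀ g, g ∈ (P : Subgroup (Sz F e)) ↔ k⁻¹ * g * k ∈ uni H := by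
  haveI := Fact.mk Nat.prime_two
  obtain ⟨k, hk⟩ := MulAction.exists_smul_eq (Sz F e) (uniSylow H hF) P
  refine ⟨k, fun g => ?_⟩
  rw [← hk]
  constructor
  · rintro ⟨u, hu, rfl⟩
    have hu' : u ∈ uni H := hu
    simpa [mul_assoc] using hu'
  · intro hu
    exact ⟨_, hu, by simp [mul_assoc]⟩

include hF in
theorem pow_four_of_mem_sylow (P : Sylow 2 (Sz F e)) {g : Sz F e} (hg : g ∈ (P : Subgroup (Sz F e))) :
    g ^ 4 = 1 := by
  obtain ⟨k, hk⟩ := exists_sylow_conj_uni H hF P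
  have h4 := pow_four_uni H ((hk g).1 hg)
  rw [show k⁻¹ * g * k = k⁻¹ * g * k⁻¹⁻¹ by rw [inv_inv], conj_pow, inv_inv] at h4
  have := congrArg (fun x => k * x * k⁻¹) h4
  simpa [mul_assoc] using this

include hF in
/-- A non-trivial element lies in at most one Sylow `2`-subgroup. -/
theorem sylow_eq_of_mem {P Q : Sylow 2 (Sz F e)} {g : Sz F e} (hP : g ∈ (P : Subgroup (Sz F e)))
    (hQ : g ∈ (Q : Subgroup (Sz F e))) (hg1 : g ≠ 1) : (P : Subgroup (Sz F e)) = Q := by
  obtain ⟨k, hk⟩ := exists_sylow_conj_uni H hF P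
  obtain ⟨l, hl⟩ := exists_sylow_conj_uni H hF Q
  obtain ⟨p, -, hp⟩ := exists_unique_fixed H hF (pow_four_of_mem_sylow H hF P hP) hg1
  obtain ⟨a, ha⟩ := exists_moves H k none
  obtain ⟨b, hb⟩ := exists_moves H l none
  have hfix : ∀ k c, Moves H k none c → k⁻¹ * g * k ∈ uni H → Moves H g c c := fun k c hc hu =>
    Moves.conj' H hc (borel_moves H (uni_le_borel H hu))
  obtain rfl := hp a (hfix k a ha ((hk g).1 hP))
  obtain rfl := hp b (hfix l b hb ((hl g).1 hQ))
  have hβ : l⁻¹ * k ∈ borel H := mem_borel_of_moves H (Moves.trans H ha (Moves.symm H hb))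
  rw [← normalizer_uni] at hβ
  ext x
  rw [hk, hl, Subgroup.mem_normalizer_iff.1 hβ,
    show l⁻¹ * k * (k⁻¹ * x * k) * (l⁻¹ * k)⁻¹ = l⁻¹ * x * l by group]

include hF in
theorem exists_sylow_mem {g : Sz F e} (hg : g ^ 4 = 1) :
    ∃ P : Sylow 2 (Sz F e), g ∈ (P : Subgroup (Sz F e)) := by
  haveI : Fact (Nat.Prime 2) := ⟨Nat.prime_two⟩
  have hp : IsPGroup 2 (Subgroup.zpowers g) := by
    obtain ⟨i, -, hi⟩ := (Nat.dvd_prime_pow Nat.prime_two (m := 2)).1 (orderOf_dvd_of_pow_eq_one hg)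
    exact IsPGroup.of_card (n := i) (by rw [Nat.card_zpowers, hi])
  obtain ⟨Q, hQ⟩ := hp.exists_le_sylow
  exact ⟨Q, hQ (Subgroup.mem_zpowers g)⟩

include hF in
/-- The centraliser of a non-trivial element of order dividing four is a `2`-group. -/
theorem pow_four_of_commute {g c : Sz F e} (hg : g ^ 4 = 1) (hg1 : g ≠ 1) (hc : g * c = c * g) :
    c ^ 4 = 1 := by
  have hF' := hF
  by_contra h4
  have hz : ∃ z : Sz F e, z * z = 1 ∧ z ≠ 1 ∧ z * c = c * z := by
    by_cases h2 : g * g = 1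
    · exact ⟨g, h2, hg1, hc⟩
    · refine ⟨g * g, ?_, h2, ?_⟩
      · rw [← mul_assoc, ← hg]; simp [pow_succ, mul_assoc]
      · rw [mul_assoc, hc, ← mul_assoc, hc, mul_assoc]
  obtain ⟨z, hzz, hz1, hzc⟩ := hz
  exact hz1 (eq_one_of_sq_commute H h4 hzc.symm hzz)

include hF in
theorem isNilpotent_centralizer {g : Sz F e} (hg1 : g ≠ 1) :
    Group.IsNilpotent (Subgroup.centralizer ({g} : Set (Sz F e))) := by
  by_cases hg : g ^ 4 = 1
  · haveI := Fact.mk Nat.prime_two
    have hp : IsPGroup 2 (Subgroup.centralizer ({g} : Set (Sz F e))) := fun c =>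
      ⟨2, Subtype.ext (by
        simpa using pow_four_of_commute H hF hg hg1
          (Subgroup.mem_centralizer_singleton_iff.1 c.2).symm)⟩
    exact hp.isNilpotent
  · haveI := isCyclic_centralizer H hg
    letI := IsCyclic.commGroup (α := Subgroup.centralizer ({g} : Set (Sz F e)))
    infer_instance

include hF in
theorem isCyclic_of_isPGroup {p : ℕ} [hp : Fact p.Prime] (hp2 : p ≠ 2) (S : Subgroup (Sz F e))
    (hS : IsPGroup p S) : IsCyclic S := by
  rcases subsingleton_or_nontrivial S with h | h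
  · infer_instance
  have := hS.center_nontrivial
  obtain ⟨z, hz1⟩ := exists_ne (1 : Subgroup.center S)
  have hz4 : ((z : S) : Sz F e) ^ 4 ≠ 1 := by
    intro h4
    apply hz1
    obtain ⟨k, hk⟩ := hS (z : S)
    have h4' : (z : S) ^ 4 = 1 := Subtype.ext (by simpa using h4)
    have h := pow_gcd_eq_one.2 ⟨hk, h4'⟩
    have hco : Nat.Coprime (p ^ k) 4 := Nat.Coprime.pow k 2
      ((Nat.coprime_primes hp.out Nat.prime_two).2 hp2)
    rw [hco.gcd_eq_one, pow_one] at h
    exact Subtype.ext h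
  haveI := isCyclic_centralizer H hz4
  have hle : S ≤ Subgroup.centralizer ({((z : S) : Sz F e)} : Set (Sz F e)) := fun x hx =>
    Subgroup.mem_centralizer_singleton_iff.2
      (congrArg Subtype.val (Subgroup.mem_center_iff.1 z.2 ⟨x, hx⟩))
  exact isCyclic_of_injective (Subgroup.inclusion hle) (Subgroup.inclusion_injective hle)

include hm hF he in
/-- The orders of centralisers of elements not of order dividing four. -/
theorem natCard_centralizer_cases {g : Sz F e} (hg : g ^ 4 ≠ 1) :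
    Nat.card (Subgroup.centralizer ({g} : Set (Sz F e))) = 2 ^ (2 * m + 1) - 1 ∨
      Nat.card (Subgroup.centralizer ({g} : Set (Sz F e))) = kp m ∨
      Nat.card (Subgroup.centralizer ({g} : Set (Sz F e))) = km m := by
  by_cases hf : Fpf H g
  · exact Or.inr (natCard_centralizer_eq H hm hF he hf)
  refine Or.inl ?_
  unfold Fpf at hf
  push Not at hf
  obtain ⟨p, hp⟩ := hf
  obtain ⟨q, hq, hne⟩ : ∃ q, Moves H g q q ∧ q ≠ p := by
    by_contra hc
    push Not at hc
    exact hg (pow_four_of_unique H hp hc)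
  obtain ⟨k, hk1, hk2⟩ := exists_moves_pair H (Ne.symm hne)
  obtain ⟨t, ht⟩ := exists_sh_of_moves H (Moves.conj H hk1 hp) (Moves.conj H hk2 hq)
  have ht1 : t ≠ 1 := by
    rintro rfl
    rw [sh_one] at ht
    apply hg
    have := congrArg (fun x => k * x * k⁻¹) ht
    simp [mul_assoc] at this
    rw [this, one_pow]
  have hgk : g = k * sh H t * k⁻¹ := by rw [← ht]; group
  rw [hgk, centralizer_conj H, Subgroup.card_map_of_injective (MulAut.conj k).injective,
    centralizer_sh H ht1, natCard_tor H, Nat.card_eq_fintype_card, hF]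

theorem pairwise_coprime {a b : ℕ} (hm : 1 ≤ m)
    (ha : a = 2 ^ (2 * m + 1) - 1 ∨ a = kp m ∨ a = km m)
    (hb : b = 2 ^ (2 * m + 1) - 1 ∨ b = kp m ∨ b = km m) (hab : a ∣ b) :
    a = b ∧ Odd a ∧ a ≠ 1 := by
  have hq2 : 8 ≤ 2 ^ (2 * m + 1) := le_trans (by norm_num) (Nat.pow_le_pow_right two_pos (show 3 ≤ 2 * m + 1 by omega))
  have hqe : Even (2 ^ (2 * m + 1)) := Nat.even_pow.2 ⟨even_two, by omega⟩
  have hee : Even (2 ^ (m + 1)) := Nat.even_pow.2 ⟨even_two, by omega⟩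
  have hle := pow_succ_le m
  have hco : Nat.Coprime (2 ^ (2 * m + 1) - 1) (kp m * km m) := by
    rw [kp_mul_km]
    rw [Nat.coprime_iff_gcd_eq_one]
    set q := 2 ^ (2 * m + 1) with hq
    have h1 : (q ^ 2 + 1).gcd (q - 1) ∣ 2 := by
      have h3 : q - 1 ∣ q ^ 2 - 1 := by
        have := Nat.sub_dvd_pow_sub_pow q 1 2
        simpa using this
      have h4 := Nat.dvd_sub (Nat.gcd_dvd_left (q ^ 2 + 1) (q - 1))
        ((Nat.gcd_dvd_right (q ^ 2 + 1) (q - 1)).trans h3)
      rwa [show q ^ 2 + 1 - (q ^ 2 - 1) = 2 by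
        have : 1 ≤ q ^ 2 := Nat.one_le_pow _ _ (by omega)
        omega] at h4
    have h5 : Odd (q - 1) := Nat.Even.sub_odd (by omega) hqe odd_one
    rw [Nat.gcd_comm]
    rcases (Nat.dvd_prime Nat.prime_two).1 h1 with h | h
    · exact h
    · exact absurd (h ▸ Nat.gcd_dvd_right (q ^ 2 + 1) (q - 1)) (fun h2 => (Nat.not_even_iff_odd.2 h5) (even_iff_two_dvd.2 h2))
  have hc1 : Nat.Coprime (2 ^ (2 * m + 1) - 1) (kp m) := hco.coprime_mul_right_right
  have hc2 : Nat.Coprime (2 ^ (2 * m + 1) - 1) (km m) := hco.coprime_mul_left_right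
  have hc3 := kp_coprime_km m
  have h1 : 1 < 2 ^ (2 * m + 1) - 1 := by omega
  have h2 : 1 < kp m := one_lt_kp H m
  have h3 : 1 < km m := by
    have : 2 ^ (m + 1) < 2 ^ (2 * m + 1) := Nat.pow_lt_pow_right one_lt_two (by omega)
    simp only [km]; omega
  have ho : Odd a := by
    rcases ha with rfl | rfl | rfl
    · exact Nat.Even.sub_odd (by omega) hqe odd_one
    · exact (hqe.add hee).add_one
    · exact ((Nat.even_sub hle).2 (iff_of_true hqe hee)).add_one
  refine ⟨?_, ho, by omega⟩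
  by_contra hne
  have key : ∀ x y : ℕ, Nat.Coprime x y → 1 < x → 1 < y → ¬ x ∣ y ∧ ¬ y ∣ x := fun x y h hx hy =>
    ⟨fun hd => by have := Nat.eq_one_of_dvd_coprimes h dvd_rfl hd; omega,
      fun hd => by have := Nat.eq_one_of_dvd_coprimes h hd dvd_rfl; omega⟩
  rcases ha with rfl | rfl | rfl <;> rcases hb with rfl | rfl | rfl
  all_goals first
    | exact hne rfl
    | exact (key _ _ hc1 h1 h2).1 hab
    | exact (key _ _ hc1 h1 h2).2 hab
    | exact (key _ _ hc2 h1 h3).1 hab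
    | exact (key _ _ hc2 h1 h3).2 hab
    | exact (key _ _ hc3 h2 h3).1 hab
    | exact (key _ _ hc3 h2 h3).2 hab

include hm hF he in
/-- Every non-trivial element lies in exactly one component of the partition. -/
theorem existsUnique_component {g : Sz F e} (hg : g ≠ 1) :
    ∃! U : Subgroup (Sz F e), ((∃ P : Sylow 2 (Sz F e), U = (P : Subgroup (Sz F e))) ∨
      (IsCyclic U ∧ Nat.card U ∈ ({2 ^ (2 * m + 1) - 1, kp m, km m} : Set ℕ))) ∧ g ∈ U := by
  have hodd : ∀ U : Subgroup (Sz F e), Nat.card U ∈ ({2 ^ (2 * m + 1) - 1, kp m, km m} : Set ℕ) →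
      g ∈ U → g ^ 4 ≠ 1 := by
    intro U hU hgU h4
    obtain ⟨-, ho, -⟩ := pairwise_coprime (b := Nat.card U) H hm (by simpa using hU) (by simpa using hU) dvd_rfl
    exact hg (by
      rw [← orderOf_eq_one_iff]
      exact Nat.eq_one_of_dvd_coprimes (Nat.Coprime.pow_right 2 (Nat.coprime_two_right.2 ho))
        (Subgroup.orderOf_dvd_natCard U hgU) (orderOf_dvd_of_pow_eq_one h4))
  by_cases h4 : g ^ 4 = 1
  · obtain ⟨P, hP⟩ := exists_sylow_mem H hF h4
    refine ⟨P, ⟨Or.inl ⟨P, rfl⟩, hP⟩, ?_⟩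
    rintro U ⟨⟨Q, rfl⟩ | ⟨-, hU⟩, hgU⟩
    · exact sylow_eq_of_mem H hF hgU hP hg
    · exact absurd h4 (hodd U hU hgU)
  · have hcases := natCard_centralizer_cases H hm hF he h4
    refine ⟨Subgroup.centralizer ({g} : Set (Sz F e)),
      ⟨Or.inr ⟨isCyclic_centralizer H h4, by simpa using hcases⟩,
        Subgroup.mem_centralizer_singleton_iff.2 rfl⟩, ?_⟩
    rintro U ⟨⟨Q, rfl⟩ | ⟨hc, hU⟩, hgU⟩
    · exact absurd (pow_four_of_mem_sylow H hF Q hgU) h4
    · have hle : U ≤ Subgroup.centralizer ({g} : Set (Sz F e)) := fun x hx => by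
        letI := hc.commGroup
        exact Subgroup.mem_centralizer_singleton_iff.2
          (congrArg Subtype.val (mul_comm (⟨x, hx⟩ : U) ⟨g, hgU⟩))
      refine Subgroup.eq_of_le_of_card_ge hle (le_of_eq ?_)
      exact ((pairwise_coprime H hm (by simpa using hU) hcases (Subgroup.card_dvd_of_le hle)).1).symm

include hm hF he in
theorem exists_torus {k : ℕ} (hk : k = kp m ∨ k = km m) :
    ∃ U : Subgroup (Sz F e), IsCyclic U ∧ Nat.card U = k ∧
      (∀ u ∈ U, u ≠ 1 → Subgroup.centralizer {u} = U) ∧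
      Nat.card (Subgroup.normalizer (U : Set (Sz F e))) = 4 * k := by
  obtain ⟨g, hg, hc⟩ := exists_centralizer_card H hm hF he hk
  exact ⟨_, isCyclic_centralizer H (fpf_pow_four H hF hg), hc,
    fun u hu hu1 => centralizer_eq_of_mem H hF hg hu hu1,
    hc ▸ natCard_normalizer H hm hF he hg⟩

end CfsgLib.KnownA.Suzuki
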