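import Cfsg.Agent.Lib.KnownA.Suzuki.Ovoid
import Cfsg.Agent.Lib.Small.Basic

/-!
Order, stabilisers, double transitivity and Sylow `2`-subgroups of the Suzuki groups.
-/

set_option autoImplicit false

namespace CfsgLib.KnownA.Suzuki

open Matrix Cfsg.Lie
open scoped commutatorElement

variable {F : Type*} [Field F] {e : ℕ} (H : TitsField F e)
include H

/-- `g` maps the point `p` to `p'`. -/
def Moves (g : Sz F e) (p p' : Option (F × F)) : Prop := toSL H g • opt e p = opt e p'

theorem Moves.trans {g k : Sz F e} {p p' p'' : Option (F × F)} (h : Moves H k p p')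
    (h' : Moves H g p' p'') : Moves H (g * k) p p'' := by
  simp only [Moves] at *
  rw [map_mul, mul_smul, h, h']

theorem Moves.symm {g : Sz F e} {p p' : Option (F × F)} (h : Moves H g p p') : Moves H g⁻¹ p' p := by
  simp only [Moves] at *
  rw [map_inv, inv_smul_eq_iff, h]

theorem Moves.unique {g : Sz F e} {p p' p'' : Option (F × F)} (h : Moves H g p p')
    (h' : Moves H g p p'') : p' = p'' :=
  opt_injective e (Eq.trans (Eq.symm h) h')

theorem exists_moves (g : Sz F e) (p : Option (F × F)) : ∃ p', Moves H g p p' := by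
  obtain ⟨p', c, -, h⟩ := exists_image H g p
  exact ⟨p', toSL_smul H g h⟩

theorem borel_moves {g : Sz F e} (hg : g ∈ borel H) : Moves H g none none := by
  obtain ⟨a, b, t, rfl⟩ := hg
  exact Moves.trans H (toSL_sh_none H t) (toSL_su_none H a b)

theorem mem_borel_of_moves {g : Sz F e} (h : Moves H g none none) : g ∈ borel H := by
  obtain ⟨⟨p, ⟨a, b⟩, t⟩, rfl⟩ := normalForm_surjective H g
  have h2 : Moves H (normalForm H (p, (a, b), t)) none p :=
    Moves.trans H (borel_moves H ⟨a, b, t, rfl⟩) (toSL_rep H p)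
  obtain rfl := Moves.unique H h h2
  exact ⟨a, b, t, by simp [normalForm, rep]⟩

theorem su_moves (a b c d : F) :
    Moves H (su H a b) (some (c, d)) (some (a + c, b + d + a ^ e * c)) := toSL_su_some H a b c d

/-- A pair of distinct points can be moved to the standard pair. -/
theorem exists_moves_pair {p p' : Option (F × F)} (h : p ≠ p') :
    ∃ g : Sz F e, Moves H g none p ∧ Moves H g (some (0, 0)) p' := by
  obtain ⟨q, hq⟩ := exists_moves H (rep H p)⁻¹ p'
  rcases q with _ | ⟨a, b⟩
  · exact absurd (Moves.unique H (toSL_rep H p) (by simpa using Moves.symm H hq)) h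
  refine ⟨rep H p * su H a b, Moves.trans H (toSL_su_none H a b) (toSL_rep H p), ?_⟩
  refine Moves.trans H (p' := some (a, b)) ?_ (by simpa using Moves.symm H hq)
  simpa using su_moves H a b 0 0

/-- The stabiliser of the standard pair is the torus. -/
theorem exists_sh_of_moves {g : Sz F e} (h : Moves H g none none)
    (h' : Moves H g (some (0, 0)) (some (0, 0))) : ∃ t : Fˣ, g = sh H t := by
  obtain ⟨a, b, t, rfl⟩ := mem_borel_of_moves H h
  have h1 : Moves H (sh H t) (some ((0 : F), (0 : F))) (some ((0 : F), (0 : F))) := by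
    have := toSL_sh_some H t 0 0
    simpa [Moves] using this
  have h2 := Moves.unique H h' (Moves.trans H h1 (su_moves H a b 0 0))
  simp at h2
  obtain ⟨rfl, rfl⟩ := h2
  exact ⟨t, by rw [su_zero, one_mul]⟩

/-- Only the identity fixes three points. -/
theorem eq_one_of_three {g : Sz F e} {p q r : Option (F × F)} (hpq : p ≠ q) (hqr : q ≠ r)
    (hpr : p ≠ r) (hp : Moves H g p p) (hq : Moves H g q q) (hr : Moves H g r r) : g = 1 := by
  obtain ⟨k, hk1, hk2⟩ := exists_moves_pair H hpq
  obtain ⟨s, hs⟩ := exists_moves H k⁻¹ r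
  have hs' : Moves H k s r := by simpa using Moves.symm H hs
  have f1 : Moves H (k⁻¹ * g * k) none none :=
    Moves.trans H hk1 (Moves.trans H hp (Moves.symm H hk1))
  have f2 : Moves H (k⁻¹ * g * k) (some (0, 0)) (some (0, 0)) :=
    Moves.trans H hk2 (Moves.trans H hq (Moves.symm H hk2))
  have f3 : Moves H (k⁻¹ * g * k) s s := Moves.trans H hs' (Moves.trans H hr hs)
  obtain ⟨t, ht⟩ := exists_sh_of_moves H f1 f2
  rcases s with _ | ⟨c, d⟩
  · exact absurd (Moves.unique H hk1 hs') hpr
  rw [ht] at f3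
  have h3 := Moves.unique H (toSL_sh_some H t c d) f3
  simp only [Option.some.injEq, Prod.mk.injEq] at h3
  have h1 : t = 1 := by
    rw [← inv_eq_one]
    refine Units.ext ?_
    rw [Units.val_one]
    by_cases hc : c = 0
    · have hd : d ≠ 0 := by
        rintro rfl
        subst hc
        exact hqr (Moves.unique H hk2 hs')
      exact H.eq_one_of_pow_add_two ((mul_eq_right₀ hd).1 h3.2)
    · exact H.pow_inj (by rw [(mul_eq_right₀ hc).1 h3.1, one_pow])
  rw [h1, sh_one] at ht
  have := congrArg (fun x => k * x * k⁻¹) ht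
  simpa [mul_assoc] using this

/-- The Sylow `2`-subgroup of lower unitriangular elements. -/
def uni : Subgroup (Sz F e) where
  carrier := {g | ∃ a b : F, g = su H a b}
  one_mem' := ⟨0, 0, (su_zero H).symm⟩
  mul_mem' := by
    rintro _ _ ⟨a, b, rfl⟩ ⟨c, d, rfl⟩
    exact ⟨_, _, su_mul H a b c d⟩
  inv_mem' := by
    rintro _ ⟨a, b, rfl⟩
    exact ⟨_, _, su_inv H a b⟩

theorem natCard_uni : Nat.card (uni H) = Nat.card F ^ 2 := by
  rw [← Nat.card_eq_of_bijective (fun x : F × F => (⟨su H x.1 x.2, x.1, x.2, rfl⟩ : uni H))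
    ⟨fun x y h => Prod.ext (su_inj H (congrArg Subtype.val h)).1 (su_inj H (congrArg Subtype.val h)).2,
      fun ⟨g, a, b, hg⟩ => ⟨(a, b), Subtype.ext hg.symm⟩⟩, Nat.card_prod, sq]

theorem natCard_borel [Finite F] : Nat.card (borel H) = Nat.card F ^ 2 * (Nat.card F - 1) := by
  rw [← Nat.card_eq_of_bijective
    (fun x : (F × F) × Fˣ => (⟨su H x.1.1 x.1.2 * sh H x.2, x.1.1, x.1.2, x.2, rfl⟩ : borel H))
    ⟨fun x y h => ?_, fun ⟨g, a, b, t, hg⟩ => ⟨((a, b), t), Subtype.ext hg.symm⟩⟩, Nat.card_prod,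
    Nat.card_prod, Nat.card_units, sq]
  have h2 : normalForm H (none, x) = normalForm H (none, y) := by
    simp only [normalForm, rep, one_mul]
    exact congrArg Subtype.val h
  simpa using congrArg Prod.snd (normalForm_injective H h2)

theorem uni_le_borel : uni H ≤ borel H := by
  rintro _ ⟨a, b, rfl⟩
  exact su_mem_borel H a b

theorem normalizer_uni : Subgroup.normalizer (uni H : Set (Sz F e)) = borel H := by
  refine le_antisymm (fun g hg => ?_) ?_
  · refine mem_borel_of_moves H ?_
    obtain ⟨p, hp⟩ := exists_moves H g none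
    rcases p with _ | ⟨a, b⟩
    · exact hp
    exfalso
    obtain ⟨c, d, hcd⟩ : g⁻¹ * su H 1 0 * g ∈ uni H := by
      refine (Subgroup.mem_normalizer_iff.1 hg _).2 ?_
      have : g * (g⁻¹ * su H 1 0 * g) * g⁻¹ = su H 1 0 := by group
      rw [this]
      exact ⟨1, 0, rfl⟩
    have h1 : Moves H (g * (g⁻¹ * su H 1 0 * g)) none (some (a, b)) := by
      rw [hcd]
      exact Moves.trans H (toSL_su_none H c d) hp
    have h2 : Moves H (g * (g⁻¹ * su H 1 0 * g)) none (some (1 + a, 0 + b + 1 ^ e * a)) := by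
      rw [show g * (g⁻¹ * su H 1 0 * g) = su H 1 0 * g by group]
      exact Moves.trans H hp (su_moves H 1 0 a b)
    simpa using Moves.unique H h1 h2
  · have hu : ∀ β ∈ borel H, ∀ x ∈ uni H, β * x * β⁻¹ ∈ uni H := by
      rintro _ ⟨a, b, t, rfl⟩ _ ⟨c, d, rfl⟩
      obtain ⟨c', hc'⟩ : ∃ x, sh H t * su H c d * (sh H t)⁻¹ = x ∧ x ∈ uni H :=
        ⟨_, by rw [sh_mul_su, mul_inv_cancel_right], _, _, rfl⟩
      rw [show su H a b * sh H t * su H c d * (su H a b * sh H t)⁻¹ =
        su H a b * (sh H t * su H c d * (sh H t)⁻¹) * (su H a b)⁻¹ by group, hc'.1]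
      exact (uni H).mul_mem ((uni H).mul_mem ⟨a, b, rfl⟩ hc'.2) ((uni H).inv_mem ⟨a, b, rfl⟩)
    intro β hβ
    rw [Subgroup.mem_normalizer_iff]
    intro x
    refine ⟨hu β hβ x, fun h => ?_⟩
    have := hu β⁻¹ ((borel H).inv_mem hβ) _ h
    simpa [mul_assoc] using this

theorem factorization_card [Fintype F] {m : ℕ} (hF : Fintype.card F = 2 ^ (2 * m + 1)) :
    Nat.card (uni H) = 2 ^ (Nat.card (Sz F e)).factorization 2 := by
  rw [natCard_uni, natCard_Sz H, Nat.card_eq_fintype_card, hF]
  set q := 2 ^ (2 * m + 1) with hq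
  have h2 : 2 ∣ q := hq ▸ dvd_pow_self 2 (by omega)
  have hodd1 : ¬ 2 ∣ (q ^ 2 + 1) := by
    intro h
    have := Nat.dvd_sub h (h2.trans (dvd_pow_self q two_ne_zero))
    simp at this
  have hq1 : 1 ≤ q := Nat.one_le_two_pow
  have hodd2 : ¬ 2 ∣ (q - 1) := by omega
  rw [Nat.factorization_mul (by positivity) (Nat.mul_ne_zero (by positivity) (by omega)),
    Nat.factorization_mul (by positivity) (by omega), Finsupp.add_apply, Finsupp.add_apply,
    Nat.factorization_eq_zero_of_not_dvd hodd1, Nat.factorization_eq_zero_of_not_dvd hodd2,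
    hq, ← pow_mul, Nat.prime_two.factorization_pow]
  simp [← pow_mul]

/-- The standard Sylow `2`-subgroup. -/
noncomputable def uniSylow [Fintype F] {m : ℕ} (hF : Fintype.card F = 2 ^ (2 * m + 1)) :
    Sylow 2 (Sz F e) :=
  haveI := Fact.mk Nat.prime_two
  Sylow.ofCard (uni H) (factorization_card H hF)

theorem coe_uniSylow [Fintype F] {m : ℕ} (hF : Fintype.card F = 2 ^ (2 * m + 1)) :
    (uniSylow H hF : Subgroup (Sz F e)) = uni H := rfl

theorem center_eq [Finite F] (h4 : 4 ≤ Nat.card F) :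
    ∀ x : uni H, x ∈ Subgroup.center (uni H) ↔ ∃ b, (x : Sz F e) = su H 0 b := by
  rintro ⟨_, a, b, rfl⟩
  constructor
  · intro hx
    have hcom : ∀ c, a ^ e * c = c ^ e * a := by
      intro c
      have h := congrArg Subtype.val (Subgroup.mem_center_iff.1 hx ⟨_, c, 0, rfl⟩)
      simp only [Subgroup.coe_mul, su_mul] at h
      have := (su_inj H h).2
      linear_combination -this
    refine ⟨b, ?_⟩
    by_contra hne
    have ha : a ≠ 0 := fun h => hne (by rw [h])
    have h1 : a ^ e = a := by simpa using hcom 1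
    have h01 : ∀ c : F, c = 0 ∨ c = 1 := by
      intro c
      have h2 : c ^ e = c := mul_right_cancel₀ ha (by rw [← hcom c, h1, mul_comm])
      have h3 : c ^ 2 = c := by rw [← H.sq, h2, h2]
      rcases mul_eq_zero.1 (show c * (c - 1) = 0 by linear_combination h3) with h | h
      · exact Or.inl h
      · exact Or.inr (sub_eq_zero.1 h)
    classical
    have : Nat.card F ≤ 2 := by
      calc Nat.card F = (Set.univ : Set F).ncard := (Set.ncard_univ F).symm
        _ ≤ ({0, 1} : Set F).ncard := Set.ncard_le_ncard (fun c _ => h01 c)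
        _ ≤ 2 := (Set.ncard_insert_le _ _).trans (by simp)
    omega
  · rintro ⟨d, hd⟩
    obtain ⟨rfl, rfl⟩ := su_inj H hd
    refine Subgroup.mem_center_iff.2 ?_
    rintro ⟨_, c, d', rfl⟩
    exact Subtype.ext (sz_mul_su H c d' b).symm

theorem natCard_center [Finite F] (h4 : 4 ≤ Nat.card F) :
    Nat.card (Subgroup.center (uni H)) = Nat.card F := by
  refine (Nat.card_eq_of_bijective
    (fun b : F => (⟨⟨su H 0 b, 0, b, rfl⟩, (center_eq H h4 _).2 ⟨b, rfl⟩⟩ : Subgroup.center (uni H)))
    ⟨fun b c h => ?_, fun ⟨x, hx⟩ => ?_⟩).symm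
  · exact (su_inj H (congrArg (fun z : Subgroup.center (uni H) => ((z : uni H) : Sz F e)) h)).2
  · obtain ⟨b, hb⟩ := (center_eq H h4 x).1 hx
    exact ⟨b, Subtype.ext (Subtype.ext hb.symm)⟩

theorem center_eq_commutator [Finite F] (h4 : 4 ≤ Nat.card F) :
    Subgroup.center (uni H) = commutator (uni H) := by
  classical
  have := Fintype.ofFinite F
  refine le_antisymm ?_ ?_
  · intro x hx
    obtain ⟨b, hb⟩ := (center_eq H h4 x).1 hx
    obtain ⟨a₀, ha0, ha1⟩ : ∃ a₀ : F, a₀ ≠ 0 ∧ a₀ ≠ 1 := by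
      obtain ⟨t, ht⟩ := exists_unit_ne_one H h4
      exact ⟨t, t.ne_zero, fun h => ht (Units.ext h)⟩
    have hk : a₀ ^ e + a₀ ≠ 0 := by
      intro h
      have h1 : a₀ ^ e = a₀ := H.eq_of_add h
      have h2 : a₀ ^ 2 = a₀ := by rw [← H.sq, h1, h1]
      exact ha1 (mul_left_cancel₀ ha0 (by linear_combination h2))
    by_cases hb0 : b = 0
    · have : x = 1 := Subtype.ext (by rw [hb, hb0, su_zero]; rfl)
      rw [this]
      exact one_mem _
    obtain ⟨s, hs⟩ : ∃ s : Fˣ, s ^ (e + 1) = Units.mk0 (b / (a₀ ^ e + a₀)) (div_ne_zero hb0 hk) :=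
      Finite.surjective_of_injective (f := fun s : Fˣ => s ^ (e + 1)) (fun s s' h => by
        have h1 : (s : F) ^ (e + 1) = (s' : F) ^ (e + 1) := by simpa using congrArg Units.val h
        have h2 := H.eq_one_of_pow_succ (t := (s : F) / s')
          (by rw [div_pow, h1, div_self (pow_ne_zero _ s'.ne_zero)])
        exact Units.ext (eq_of_div_eq_one h2)) _
    have hs' : (s : F) ^ (e + 1) * (a₀ ^ e + a₀) = b := by
      have := congrArg Units.val hs
      rw [Units.val_pow_eq_pow_val, Units.val_mk0] at this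
      rw [this, div_mul_cancel₀ b hk]
    have hx' : x = ⁅(⟨su H (a₀ * s) 0, _, _, rfl⟩ : uni H), ⟨su H (s : F) 0, _, _, rfl⟩⁆ := by
      apply Subtype.ext
      rw [hb, commutatorElement_def]
      simp only [Subgroup.coe_mul, Subgroup.coe_inv]
      rw [eq_mul_inv_iff_mul_eq, eq_mul_inv_iff_mul_eq, su_mul, su_mul, su_mul, mul_pow]
      congr 1
      · ring
      · rw [← hs']
        simp only [zero_pow H.e_ne, zero_mul, add_zero, zero_add, pow_succ]
        linear_combination (a₀ * s * (s : F) ^ e) * H.two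
    rw [hx', commutator_def]
    exact Subgroup.commutator_mem_commutator (Subgroup.mem_top _) (Subgroup.mem_top _)
  · rw [commutator_def, Subgroup.commutator_le]
    rintro ⟨_, a, b, rfl⟩ - ⟨_, c, d, rfl⟩ -
    rw [center_eq H h4]
    refine ⟨c ^ e * a + a ^ e * c, ?_⟩
    rw [commutatorElement_def]
    simp only [Subgroup.coe_mul, Subgroup.coe_inv]
    rw [mul_inv_eq_iff_eq_mul, mul_inv_eq_iff_eq_mul, su_mul, su_mul, su_mul]
    congr 1
    · ring
    · simp only [zero_pow H.e_ne, zero_mul, add_zero]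
      linear_combination -(c ^ e * a) * H.two

theorem exponent_uni : Monoid.exponent (uni H) = 4 := by
  have hsq : ∀ a b : F, su H a b * su H a b = su H 0 (a ^ e * a) := fun a b => by
    rw [su_mul, H.add_self, H.add_self, zero_add]
  have h4 : Monoid.exponent (uni H) ∣ 4 := by
    refine Monoid.exponent_dvd_of_forall_pow_eq_one ?_
    rintro ⟨_, a, b, rfl⟩
    apply Subtype.ext
    show su H a b ^ 4 = 1
    rw [show su H a b ^ 4 = su H a b * su H a b * (su H a b * su H a b) by simp [pow_succ, mul_assoc],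
      hsq, hsq, zero_pow H.e_ne, zero_mul, su_zero]
  have h2 : ¬ Monoid.exponent (uni H) ∣ 2 := by
    intro h
    have h1 : (⟨su H 1 0, 1, 0, rfl⟩ : uni H) ^ 2 = 1 := by
      obtain ⟨k, hk⟩ := h
      rw [hk, pow_mul, Monoid.pow_exponent_eq_one, one_pow]
    have h1' : su H (1 : F) 0 ^ 2 = 1 := congrArg Subtype.val h1
    rw [sq, hsq, ← su_zero H, one_pow, one_mul] at h1'
    exact one_ne_zero (su_inj H h1').2
  obtain ⟨i, hi, he⟩ := (Nat.dvd_prime_pow Nat.prime_two (m := 2)).1 h4
  interval_cases i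
  · exact absurd (by rw [he]; norm_num) h2
  · exact absurd (by rw [he]; norm_num) h2
  · rw [he]; norm_num

end CfsgLib.KnownA.Suzuki
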