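import Cfsg.Agent.Lib.KnownA.Suzuki.Basic

/-!
Borel subgroup, centre of the unipotent radical and simplicity of the Suzuki groups.
-/

set_option autoImplicit false

namespace CfsgLib.KnownA.Suzuki

open Matrix Cfsg.Lie

variable {F : Type*} [Field F] {e : ℕ} (H : TitsField F e)
include H

/-- The elements `z(b)`. -/
abbrev sz (b : F) : Sz F e := su H 0 b

theorem sz_mul (b d : F) : sz H b * sz H d = sz H (b + d) := by
  rw [su_mul, add_zero, mul_zero, add_zero]

theorem sz_mul_su (a b d : F) : sz H d * su H a b = su H a b * sz H d := by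
  rw [su_mul, su_mul]
  simp [zero_pow H.e_ne, add_comm]

theorem sz_mul_sh (t : Fˣ) (b : F) : sz H b * sh H t = sh H t * sz H ((t : F) ^ (e + 2) * b) := by
  rw [sh_conj, mul_zero]

theorem sh_mul_su (t : Fˣ) (a b : F) : sh H t * su H a b =
    su H ((((t⁻¹ : Fˣ) : F)) ^ e * a) ((((t⁻¹ : Fˣ) : F)) ^ (e + 2) * b) * sh H t := by
  rw [sh_conj, ← mul_assoc, ← mul_assoc, ← mul_pow, ← mul_pow, Units.mul_inv, one_pow, one_pow,
    one_mul, one_mul]

/-- The Borel subgroup, stabiliser of the point at infinity. -/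
def borel : Subgroup (Sz F e) where
  carrier := {g | ∃ (a b : F) (t : Fˣ), g = su H a b * sh H t}
  one_mem' := ⟨0, 0, 1, by rw [su_zero, sh_one, one_mul]⟩
  mul_mem' := by
    rintro _ _ ⟨a, b, t, rfl⟩ ⟨c, d, s, rfl⟩
    refine ⟨a + (((t⁻¹ : Fˣ) : F)) ^ e * c,
      b + (((t⁻¹ : Fˣ) : F)) ^ (e + 2) * d + a ^ e * ((((t⁻¹ : Fˣ) : F)) ^ e * c), t * s, ?_⟩
    rw [mul_assoc, ← mul_assoc (sh H t), sh_mul_su, mul_assoc, sh_mul, ← mul_assoc, su_mul]
  inv_mem' := by
    rintro _ ⟨a, b, t, rfl⟩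
    refine ⟨((((t⁻¹)⁻¹ : Fˣ) : F)) ^ e * a, ((((t⁻¹)⁻¹ : Fˣ) : F)) ^ (e + 2) * (b + a ^ e * a), t⁻¹, ?_⟩
    rw [_root_.mul_inv_rev, sh_inv, su_inv, sh_mul_su]

theorem su_mem_borel (a b : F) : su H a b ∈ borel H := ⟨a, b, 1, by rw [sh_one, mul_one]⟩

theorem sh_mem_borel (t : Fˣ) : sh H t ∈ borel H := ⟨0, 0, t, by rw [su_zero, one_mul]⟩

theorem mem_borel_iff {g : Sz F e} :
    g ∈ borel H ↔ mat g 0 3 = 0 ∧ mat g 1 3 = 0 ∧ mat g 2 3 = 0 := by
  constructor
  · rintro ⟨a, b, t, rfl⟩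
    obtain ⟨d, -, h⟩ := borel_col H a b t
    simp [h, pv]
  · rintro ⟨h0, h1, h2⟩
    exact exists_borel H g h0 h1 h2

theorem sw_notMem_borel : sw H ∉ borel H := fun h => by
  simpa [mat, sw, wGL, wMat] using ((mem_borel_iff H).1 h).1

/-- Bruhat decomposition. -/
theorem mem_borel_or (g : Sz F e) :
    g ∈ borel H ∨ ∃ (a b : F), ∃ β ∈ borel H, g = su H a b * sw H * β := by
  obtain ⟨⟨p, ⟨c, d⟩, t⟩, rfl⟩ := normalForm_surjective H g
  rcases p with _ | ⟨a, b⟩
  · left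
    exact ⟨c, d, t, by simp [normalForm, rep]⟩
  · exact Or.inr ⟨a, b, _, ⟨c, d, t, rfl⟩, rfl⟩

theorem eq_top_of_borel_lt {K : Subgroup (Sz F e)} (hle : borel H ≤ K) {g : Sz F e} (hg : g ∈ K)
    (hgB : g ∉ borel H) : K = ⊤ := by
  obtain ⟨a, b, β, hβ, rfl⟩ := (mem_borel_or H g).resolve_left hgB
  have hw : sw H ∈ K :=
    (K.mul_mem_cancel_left (hle (su_mem_borel H a b))).1 ((K.mul_mem_cancel_right (hle hβ)).1 hg)
  refine eq_top_iff.2 fun k _ => ?_
  rcases mem_borel_or H k with hk | ⟨c, d, γ, hγ, rfl⟩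
  · exact hle hk
  · exact K.mul_mem (K.mul_mem (hle (su_mem_borel H c d)) hw) (hle hγ)

theorem sup_borel_eq_top {N : Subgroup (Sz F e)} [hN : N.Normal] (hne : N ≠ ⊥) :
    borel H ⊔ N = ⊤ := by
  by_cases hle : N ≤ borel H
  · exfalso
    apply hne
    rw [eq_bot_iff]
    intro n hn
    rw [Subgroup.mem_bot]
    obtain ⟨a, b, t, rfl⟩ := hle hn
    obtain ⟨c, d, s, hcd⟩ := hle (hN.conj_mem _ hn (sw H))
    have h' : sw H * (su H a b * sh H t) = su H c d * sh H s * sw H := by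
      rw [← hcd, mul_assoc, inv_mul_cancel, mul_one]
    have ha : a = 0 ∧ b = 0 := by
      have e1 := congrArg (fun g => mat g 2 0) h'
      have e2 := congrArg (fun g => mat g 1 0) h'
      simp [mat, su, sh, sw, uGL, hGL, wGL, uMat, hMat, wMat, Matrix.mul_apply,
        Fin.sum_univ_four] at e1 e2
      exact ⟨e1, by simpa [e1] using e2⟩
    obtain ⟨rfl, rfl⟩ := ha
    rw [su_zero, one_mul] at hn ⊢
    obtain ⟨c', d', s', hcd'⟩ := hle (hN.conj_mem _ hn (sw H * su H 1 0))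
    have h'' : sw H * su H 1 0 * sh H t = su H c' d' * sh H s' * (sw H * su H 1 0) := by
      rw [← hcd', inv_mul_cancel_right]
    have e1 := congrArg (fun g => mat g 0 0) h''
    have e2 := congrArg (fun g => mat g 0 1) h''
    simp [mat, su, sh, sw, uGL, hGL, wGL, uMat, hMat, wMat, fv, Matrix.mul_apply,
      Fin.sum_univ_four, H.e_ne] at e1 e2
    have ht : (t : F) ^ (e + 1) = t := e1.trans e2.symm
    rw [pow_succ, mul_eq_right₀ t.ne_zero] at ht
    rw [← sh_one H]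
    congr 1
    exact Units.ext (H.pow_inj (by rw [ht, Units.val_one, one_pow]))
  · obtain ⟨n, hn, hnB⟩ := SetLike.not_le_iff_exists.1 hle
    exact eq_top_of_borel_lt H le_sup_left (Subgroup.mem_sup_right hn) hnB

theorem exists_borel_mk {N : Subgroup (Sz F e)} [N.Normal] (hne : N ≠ ⊥) (g : Sz F e) :
    ∃ β ∈ borel H, (g : Sz F e ⧸ N) = β := by
  obtain ⟨β, hβ, n, hn, rfl⟩ :=
    Subgroup.mem_sup_of_normal_right.1 (sup_borel_eq_top H hne ▸ Subgroup.mem_top g)
  exact ⟨β, hβ, by simpa using hn⟩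

theorem exists_unit_ne_one [Finite F] (h4 : 4 ≤ Nat.card F) : ∃ t : Fˣ, t ≠ 1 := by
  have := Fintype.ofFinite F
  classical
  refine Fintype.exists_ne_of_one_lt_card ?_ 1
  rw [Fintype.card_units, ← Nat.card_eq_fintype_card]
  omega

theorem exists_sqrt [Finite F] (t : Fˣ) : ∃ s : Fˣ, s ^ 2 = t :=
  Finite.surjective_of_injective (f := fun s : Fˣ => s ^ 2)
    (fun s s' h => Units.ext (H.sq_inj (by simpa using congrArg Units.val h))) t

/-- A normal subgroup containing the centre of a Sylow `2`-subgroup is everything. -/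
theorem eq_top_of_sz_mem [Finite F] (h4 : 4 ≤ Nat.card F) {M : Subgroup (Sz F e)} [M.Normal]
    (hM : ∀ b, sz H b ∈ M) : M = ⊤ := by
  have hne : M ≠ ⊥ := by
    intro h
    have := hM 1
    rw [h, Subgroup.mem_bot, ← su_zero H] at this
    exact one_ne_zero (su_inj H this).2
  set π := QuotientGroup.mk' M with hπ
  have hπ0 : ∀ g, π g = 1 ↔ g ∈ M := fun g => QuotientGroup.eq_one_iff g
  have hz : ∀ b, π (sz H b) = 1 := fun b => (hπ0 _).2 (hM b)
  let τ : F → Sz F e ⧸ M := fun a => π (su H a 0)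
  let σ : Fˣ → Sz F e ⧸ M := fun t => π (sh H t)
  have hu : ∀ a b, π (su H a b) = τ a := by
    intro a b
    have : su H a b = sz H b * su H a 0 := by
      rw [su_mul, zero_add, add_zero, zero_pow H.e_ne, zero_mul, add_zero]
    rw [this, map_mul, hz, one_mul]
  have hτ : ∀ a c, τ a * τ c = τ (a + c) := fun a c => by
    rw [← hu (a + c) (0 + 0 + a ^ e * c), ← map_mul, su_mul]
  have hτ0 : τ 0 = 1 := hz 0
  have hτ2 : ∀ a, τ a * τ a = 1 := fun a => by rw [hτ, H.add_self, hτ0]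
  have hconj : ∀ a t, τ a * σ t = σ t * τ ((t : F) ^ e * a) := fun a t => by
    rw [← map_mul, sh_conj, map_mul, hu]
  obtain ⟨β, ⟨a, b, s, rfl⟩, hβ⟩ := exists_borel_mk H hne (sw H)
  have hw : π (sw H) = τ a * σ s := by
    rw [show π (sw H) = π (su H a b * sh H s) from hβ, map_mul, hu]
  have hσmul : ∀ t s, σ t * σ s = σ (t * s) := fun t s => by rw [← map_mul, sh_mul]
  have hσ1 : σ 1 = 1 := by simp [σ, sh_one]
  have h4σ : ∀ t, σ (t * t * (t * t)) = 1 := by
    intro t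
    have h1 : σ t * π (sw H) = π (sw H) * σ t⁻¹ := by rw [← map_mul, ← map_mul, sw_conj]
    rw [hw, mul_assoc (τ a), hσmul] at h1
    have h2 : σ t * τ a = τ a * σ t⁻¹ := by
      refine mul_right_cancel (b := σ s) ?_
      rw [mul_assoc, mul_assoc, hσmul, h1, mul_comm s]
    have h3 : σ (t * t) = τ ((t : F) ^ e * a + a) := by
      have h5 : σ t * τ a * σ t = τ a := by rw [h2, mul_assoc, hσmul, inv_mul_cancel, hσ1, mul_one]
      rw [mul_assoc, hconj, ← mul_assoc, hσmul] at h5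
      calc σ (t * t) = σ (t * t) * τ ((t : F) ^ e * a) * τ ((t : F) ^ e * a) := by
            rw [mul_assoc, hτ2, mul_one]
        _ = τ a * τ ((t : F) ^ e * a) := by rw [h5]
        _ = _ := by rw [hτ, add_comm]
    rw [← hσmul, h3, hτ2]
  have hσ : ∀ t, σ t = 1 := by
    intro t
    obtain ⟨r, rfl⟩ := exists_sqrt H t
    obtain ⟨r', rfl⟩ := exists_sqrt H r
    rw [sq, sq]
    exact h4σ r'
  obtain ⟨t, ht⟩ := exists_unit_ne_one H h4
  have hτ1 : ∀ c, τ c = 1 := by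
    intro c
    have hne1 : (t : F) ^ e + 1 ≠ 0 := fun h =>
      ht (Units.ext (H.pow_inj (by rw [H.eq_of_add h, Units.val_one, one_pow])))
    have h := hconj (c / ((t : F) ^ e + 1)) t
    rw [hσ, mul_one, one_mul] at h
    have h' := hτ (c / ((t : F) ^ e + 1)) ((t : F) ^ e * (c / ((t : F) ^ e + 1)))
    rw [← h, hτ2] at h'
    rw [h']
    congr 1
    field_simp
    ring
  refine eq_top_iff.2 fun g _ => ?_
  obtain ⟨γ, ⟨c, d, r, rfl⟩, hg⟩ := exists_borel_mk H hne g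
  rw [← hπ0, show π g = π (su H c d * sh H r) from hg, map_mul, hu, hτ1, one_mul]
  exact hσ r

/-- The Suzuki groups over fields with at least four elements are simple. -/
theorem isSimpleGroup [Finite F] (h4 : 4 ≤ Nat.card F) : IsSimpleGroup (Sz F e) := by
  have : Nontrivial (Sz F e) := ⟨su H 1 0, 1, fun h => by
    rw [← su_zero H] at h
    exact one_ne_zero (su_inj H h).1⟩
  refine { eq_bot_or_eq_top_of_normal := fun N hN => ?_ }
  by_cases hne : N = ⊥
  · exact Or.inl hne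
  right
  set π := QuotientGroup.mk' N with hπ
  let Zf : Multiplicative F →* Sz F e :=
    MonoidHom.mk' (fun b => sz H b.toAdd) (fun b d => (sz_mul H b.toAdd d.toAdd).symm)
  set Q := (π.comp Zf).range with hQ
  have hcomm : ∀ x ∈ Q, ∀ y ∈ Q, x * y = y * x := by
    rintro _ ⟨b, rfl⟩ _ ⟨d, rfl⟩
    rw [← map_mul, ← map_mul, mul_comm b d]
  have hBQ : ∀ β ∈ borel H, ∀ x ∈ Q, π β * x * (π β)⁻¹ ∈ Q := by
    rintro _ ⟨a, b, t, rfl⟩ _ ⟨d, rfl⟩
    refine ⟨Multiplicative.ofAdd ((((t⁻¹ : Fˣ) : F)) ^ (e + 2) * d.toAdd), ?_⟩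
    simp only [MonoidHom.comp_apply, ← map_inv, ← map_mul]
    congr 1
    show sz H _ = su H a b * sh H t * sz H d.toAdd * (su H a b * sh H t)⁻¹
    rw [eq_mul_inv_iff_mul_eq, mul_assoc (su H a b), sh_mul_su, mul_zero, ← mul_assoc, sz_mul_su,
      mul_assoc, toAdd_ofAdd, ← mul_assoc]
  have hQn : Q.Normal := by
    refine ⟨fun x hx y => ?_⟩
    obtain ⟨g, rfl⟩ := QuotientGroup.mk'_surjective N y
    obtain ⟨β, hβ, hg⟩ := exists_borel_mk H hne g
    rw [QuotientGroup.mk'_apply, hg, ← QuotientGroup.mk'_apply]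
    exact hBQ β hβ x hx
  have htop : Q.comap π = ⊤ :=
    eq_top_of_sz_mem H h4 fun b => ⟨Multiplicative.ofAdd b, rfl⟩
  have hab : ∀ g k, π g * π k = π k * π g := fun g k =>
    hcomm _ (show g ∈ Q.comap π from htop ▸ Subgroup.mem_top g) _
      (show k ∈ Q.comap π from htop ▸ Subgroup.mem_top k)
  refine eq_top_of_sz_mem H h4 fun b => ?_
  obtain ⟨t, ht⟩ := exists_unit_ne_one H h4
  have hne1 : (t : F) ^ (e + 2) + 1 ≠ 0 := fun h =>
    ht (Units.ext (H.eq_one_of_pow_add_two (H.eq_of_add h)))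
  set c := b / ((t : F) ^ (e + 2) + 1) with hc
  have h := congrArg π (sz_mul_sh H t c)
  rw [map_mul, map_mul, hab (sh H t), mul_left_inj] at h
  have h2 : π (sz H b) = 1 := by
    have : b = c + (t : F) ^ (e + 2) * c := by
      rw [hc]
      field_simp
      ring
    rw [this, ← sz_mul, map_mul, ← h, ← map_mul, sz_mul, H.add_self, show sz H (0 : F) = 1 from su_zero H, map_one]
  exact (QuotientGroup.eq_one_iff _).1 h2

end CfsgLib.KnownA.Suzuki
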