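import Cfsg.Agent.Lib.KnownA.Suzuki.Torus

/-!
Generation of Suzuki groups: maximality of the Borel subgroup, two generators.
-/

set_option autoImplicit false

namespace CfsgLib.KnownA.Suzuki

open Matrix Cfsg.Lie

variable {F : Type*} [Field F] {e : ℕ} (H : TitsField F e)

include H

theorem isCoatom_borel : IsCoatom (borel H) := by
  refine ⟨fun h => sw_notMem_borel H (h ▸ Subgroup.mem_top _), fun K hK => ?_⟩
  obtain ⟨g, hg, hgb⟩ := SetLike.exists_of_lt hK
  exact eq_top_of_borel_lt H hK.le hg hgb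

/-- A subgroup containing the unitriangular subgroup and not inside the Borel subgroup is everything. -/
theorem eq_top_of_uni_le [Finite F] (h4 : 4 ≤ Nat.card F) {M : Subgroup (Sz F e)}
    (hM : uni H ≤ M) {g : Sz F e} (hg : g ∈ M) (hgb : g ∉ borel H) : M = ⊤ := by
  haveI := isSimpleGroup H h4
  obtain ⟨a, b, β, hβ, rfl⟩ := (mem_borel_or H g).resolve_left hgb
  obtain ⟨c, d, t, rfl⟩ := hβ
  set N := Subgroup.closure ((uni H : Set (Sz F e)) ∪ (fun x => sw H * x * sw H) '' (uni H : Set (Sz F e)))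
    with hN
  have hnu : ∀ β ∈ borel H, ∀ x ∈ uni H, β * x * β⁻¹ ∈ uni H := by
    intro β hβ x hx
    rw [← normalizer_uni] at hβ
    exact (Subgroup.mem_normalizer_iff.1 hβ x).1 hx
  have hNM : N ≤ M := by
    rw [hN, Subgroup.closure_le, Set.union_subset_iff]
    refine ⟨hM, ?_⟩
    rintro _ ⟨x, hx, rfl⟩
    have h1 : sw H * (su H c d * sh H t) ∈ M := by
      have := M.mul_mem (M.inv_mem (hM ⟨a, b, rfl⟩)) hg
      simpa [mul_assoc] using this
    have h2 : (su H c d * sh H t)⁻¹ * x * (su H c d * sh H t) ∈ M := hM (by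
      simpa using hnu _ ((borel H).inv_mem ⟨c, d, t, rfl⟩) x hx)
    have h3 := M.mul_mem (M.mul_mem h1 h2) (M.inv_mem h1)
    rw [show sw H * (su H c d * sh H t) * ((su H c d * sh H t)⁻¹ * x * (su H c d * sh H t)) *
      (sw H * (su H c d * sh H t))⁻¹ = sw H * x * (sw H)⁻¹ by group,
      inv_eq_of_mul_eq_one_right (sw_sq H)] at h3
    exact h3
  have hUN : uni H ≤ N := fun x hx => Subgroup.subset_closure (Or.inl hx)
  have hconj : ∀ k : Sz F e, (∀ x ∈ uni H, k * x * k⁻¹ ∈ N) →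
      (∀ x ∈ uni H, k * (sw H * x * sw H) * k⁻¹ ∈ N) → ∀ x ∈ N, k * x * k⁻¹ ∈ N := by
    intro k h1 h2 x hx
    have hle : N ≤ N.comap (MulAut.conj k).toMonoidHom := by
      rw [hN, Subgroup.closure_le, Set.union_subset_iff]
      exact ⟨fun y hy => h1 y hy, by rintro _ ⟨y, hy, rfl⟩; exact h2 y hy⟩
    exact hle hx
  have hw : sw H ∈ Subgroup.normalizer (N : Set (Sz F e)) := by
    have key : ∀ x ∈ N, sw H * x * (sw H)⁻¹ ∈ N := by
      refine hconj _ (fun x hx => ?_) (fun x hx => ?_)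
      · rw [inv_eq_of_mul_eq_one_right (sw_sq H)]
        exact Subgroup.subset_closure (Or.inr ⟨x, hx, rfl⟩)
      · rw [show sw H * (sw H * x * sw H) * (sw H)⁻¹ = sw H * sw H * x by group, sw_sq, one_mul]
        exact hUN hx
    rw [Subgroup.mem_normalizer_iff]
    refine fun x => ⟨key x, fun h => ?_⟩
    have h' := key _ h
    rwa [show sw H * (sw H * x * (sw H)⁻¹) * (sw H)⁻¹ = sw H * sw H * x * (sw H * sw H)⁻¹ by group,
      sw_sq, inv_one, one_mul, mul_one] at h'
  have hb : borel H ≤ Subgroup.normalizer (N : Set (Sz F e)) := by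
    have key : ∀ s : Fˣ, ∀ x ∈ N, sh H s * x * (sh H s)⁻¹ ∈ N := by
      refine fun s => hconj _ (fun x hx => hUN (hnu _ (sh_mem_borel H s) x hx)) (fun x hx => ?_)
      refine Subgroup.subset_closure (Or.inr ⟨_, hnu _ (sh_mem_borel H s⁻¹) x hx, ?_⟩)
      simp only [sh_inv, inv_inv, ← mul_assoc, sw_conj]
      rw [mul_assoc (_ * x) (sh H s) (sw H), sw_conj]
      simp only [mul_assoc]
    rintro _ ⟨c', d', s, rfl⟩
    refine Subgroup.mul_mem _ (Subgroup.le_normalizer (hUN ⟨c', d', rfl⟩)) ?_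
    rw [Subgroup.mem_normalizer_iff]
    refine fun x => ⟨key s x, fun h => ?_⟩
    simpa [sh_inv, mul_assoc, ← mul_assoc (sh H s⁻¹), sh_mul, sh_one] using key s⁻¹ _ h
  haveI : N.Normal := Subgroup.normalizer_eq_top_iff.1
    (eq_top_of_borel_lt H hb hw (sw_notMem_borel H))
  rcases (inferInstance : N.Normal).eq_bot_or_eq_top with h | h
  · have h1 : su H (1 : F) 0 = 1 := by
      rw [← Subgroup.mem_bot, ← h]
      exact hUN ⟨1, 0, rfl⟩
    exact absurd (su_inj H (h1.trans (su_zero H).symm)).1 one_ne_zero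
  · exact top_le_iff.1 (h ▸ hNM)

theorem eq_borel_of_isCoatom [Finite F] (h4 : 4 ≤ Nat.card F) {M : Subgroup (Sz F e)}
    (hc : IsCoatom M) (hM : uni H ≤ M) : M = borel H := by
  have hle : M ≤ borel H := fun g hg => by
    by_contra hgb
    exact hc.1 (eq_top_of_uni_le H h4 hM hg hgb)
  rcases hle.eq_or_lt with h | h
  · exact h
  · exact absurd (hc.2 _ h) (isCoatom_borel H).1

theorem exists_two_generators [Finite F] (h4 : 4 ≤ Nat.card F) :
    ∃ a b : Sz F e, Subgroup.closure ({a, b} : Set (Sz F e)) = ⊤ := by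
  obtain ⟨t, ht⟩ := IsCyclic.exists_generator (α := Fˣ)
  refine ⟨sh H t, su H 1 0 * sw H, ?_⟩
  set K := Subgroup.closure ({sh H t, su H 1 0 * sw H} : Set (Sz F e))
  have hh : sh H t ∈ K := Subgroup.subset_closure (Or.inl rfl)
  have hg : su H 1 0 * sw H ∈ K := Subgroup.subset_closure (Or.inr rfl)
  have hall : ∀ s : Fˣ, sh H s ∈ K := by
    intro s
    obtain ⟨i, rfl⟩ := Subgroup.mem_zpowers_iff.1 (ht s)
    let φ : Fˣ →* Sz F e := MonoidHom.mk' (sh H) fun x y => (sh_mul H x y).symm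
    rw [show sh H (t ^ i) = φ (t ^ i) from rfl, map_zpow]
    exact K.zpow_mem hh i
  have ht1 : (t : F) ≠ 1 := by
    intro h
    obtain ⟨s, hs⟩ := exists_unit_ne_one H h4
    obtain ⟨i, hi⟩ := Subgroup.mem_zpowers_iff.1 (ht s)
    have h1 : t = 1 := Units.ext h
    exact hs (by rw [← hi, h1, _root_.one_zpow])
  -- first components of the elements of `K` in the unitriangular subgroup
  let A : AddSubgroup F :=
    { carrier := {a | ∃ b, su H a b ∈ K}
      zero_mem' := ⟨0, by rw [su_zero]; exact K.one_mem⟩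
      add_mem' := fun {a c} ⟨b, hb⟩ ⟨d, hd⟩ =>
        ⟨b + d + a ^ e * c, by rw [← su_mul]; exact K.mul_mem hb hd⟩
      neg_mem' := fun {a} h => by rwa [H.neg_eq] }
  have hA : ∀ (s : Fˣ) {a : F}, a ∈ A → (s : F) ^ e * a ∈ A := by
    rintro s a ⟨b, hb⟩
    refine ⟨(s : F) ^ (e + 2) * b, ?_⟩
    have h := K.mul_mem (K.mul_mem (hall s⁻¹) hb) (hall s)
    rwa [mul_assoc, sh_conj, ← mul_assoc, sh_mul, inv_mul_cancel, sh_one, one_mul] at h
  have h1 : (1 : F) + (t : F) ^ e ∈ A := by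
    have h := K.mul_mem (K.mul_mem (K.mul_mem hg (hall t)) (K.inv_mem hg)) (hall t)
    have h2 : su H 1 0 * sw H * sh H t * (su H 1 0 * sw H)⁻¹ * sh H t =
        su H 1 0 * sh H t⁻¹ * (su H 1 0)⁻¹ * sh H t := by
      rw [_root_.mul_inv_rev, inv_eq_of_mul_eq_one_right (sw_sq H),
        show su H 1 0 * sw H * sh H t * (sw H * (su H 1 0)⁻¹) * sh H t =
          su H 1 0 * (sw H * (sh H t * sw H)) * (su H 1 0)⁻¹ * sh H t by group,
        sw_conj, ← mul_assoc (sw H), sw_sq, one_mul]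
    rw [h2, su_inv, mul_assoc (su H 1 0 * sh H t⁻¹), sh_conj H t, ← mul_assoc, mul_assoc (su H 1 0), sh_mul, inv_mul_cancel,
      sh_one, mul_one, su_mul] at h
    exact ⟨_, by simpa using h⟩
  have hAtop : ∀ a : F, a ∈ A := by
    intro a
    have hne : (1 : F) + (t : F) ^ e ≠ 0 := fun h => ht1 (H.pow_inj (by rw [← H.eq_of_add h, one_pow]))
    by_cases ha : a = 0
    · rw [ha]; exact A.zero_mem
    have hsurj : Function.Surjective fun x : F => x ^ e :=
      Finite.surjective_of_injective fun x y h => H.pow_inj h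
    obtain ⟨s, hs⟩ := hsurj (a / (1 + (t : F) ^ e))
    have hs' : s ^ e = a / (1 + (t : F) ^ e) := hs
    have hs0 : s ≠ 0 := by
      rintro rfl
      rw [zero_pow H.e_ne] at hs'
      exact ha (by simpa [hne] using hs'.symm)
    have := hA (Units.mk0 s hs0) h1
    rwa [Units.val_mk0, hs', div_mul_cancel₀ _ hne] at this
  have hsq : ∀ z : F, su H 0 z ∈ K := by
    intro z
    by_cases hz : z = 0
    · rw [hz, su_zero]; exact K.one_mem
    have hsurj : Function.Surjective fun x : Fˣ => x ^ (e + 1) :=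
      Finite.surjective_of_injective fun x y h => by
        have h' : ((x * y⁻¹ : Fˣ) : F) ^ (e + 1) = 1 := by
          have h0 : x ^ (e + 1) = y ^ (e + 1) := h
          rw [← Units.val_pow_eq_pow_val, mul_pow, inv_pow, h0, mul_inv_cancel, Units.val_one]
        exact mul_inv_eq_one.1 (Units.ext (H.eq_one_of_pow_succ h'))
    obtain ⟨x, hx⟩ := hsurj (Units.mk0 z hz)
    obtain ⟨b, hb⟩ := hAtop (x : F)
    have h := K.mul_mem hb hb
    have hx' : (x : F) ^ e * (x : F) = z := by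
      rw [← pow_succ, ← Units.val_pow_eq_pow_val]
      exact congrArg Units.val hx
    rwa [su_mul, H.add_self, H.add_self, zero_add, hx'] at h
  have hU : uni H ≤ K := by
    rintro _ ⟨a, b, rfl⟩
    obtain ⟨b', hb'⟩ := hAtop a
    have h := K.mul_mem hb' (hsq (b + b'))
    rwa [su_mul, add_zero, mul_zero, add_zero, add_left_comm, H.add_self, add_zero] at h
  refine eq_top_of_uni_le H h4 hU hg fun h => sw_notMem_borel H ?_
  simpa using (borel H).mul_mem ((borel H).inv_mem (su_mem_borel H 1 0)) h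

end CfsgLib.KnownA.Suzuki
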