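import Cfsg.Agent.Lib.KnownA.Suzuki.Group
import Cfsg.Agent.Lib.KnownA.CentralChar

/-!
Lower bound for the degree of a non-trivial representation of a Suzuki group.
-/

set_option autoImplicit false

namespace CfsgLib.KnownA.Suzuki

open Matrix Cfsg.Lie CfsgLib.KnownA.CentralChar

variable {F : Type*} [Field F] {e : ℕ} (H : TitsField F e)
include H

theorem addChar_sq (χ : AddChar F ℂ) (x : F) : χ x = 1 ∨ χ x = -1 := by
  have : χ x * χ x = 1 := by rw [← AddChar.map_add_eq_mul, H.add_self, AddChar.map_zero_eq_one]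
  exact mul_self_eq_one_iff.1 this

/-- Two non-trivial characters with a common kernel containing a subgroup of index two coincide. -/
theorem addChar_eq_of_kills [Fintype F] {χ χ' : AddChar F ℂ} (hχ : χ ≠ 1) (hχ' : χ' ≠ 1)
    (h : ∀ c, χ (c ^ e + c) = 1) (h' : ∀ c, χ' (c ^ e + c) = 1) : χ = χ' := by
  classical
  let L : F →+ F := AddMonoidHom.mk' (fun c => c ^ e + c) fun c d => by
    rw [H.add_pow]; ring
  have hker : Nat.card L.ker ≤ 2 := by
    have hsub : (L.ker : Set F) ⊆ ({0, 1} : Set F) := by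
      intro c hc
      have hc' : c ^ e + c = 0 := hc
      have h1 : c ^ e = c := H.eq_of_add hc'
      have h2 : c ^ 2 = c := by rw [← H.sq, h1, h1]
      rcases mul_eq_zero.1 (show c * (c - 1) = 0 by linear_combination h2) with h | h
      · exact Or.inl h
      · exact Or.inr (sub_eq_zero.1 h)
    calc Nat.card L.ker = (L.ker : Set F).ncard := rfl
      _ ≤ ({0, 1} : Set F).ncard := Set.ncard_le_ncard hsub
      _ ≤ 2 := (Set.ncard_insert_le _ _).trans (by simp)
  have hrange : Nat.card F ≤ 2 * Nat.card L.range := by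
    calc Nat.card F = Nat.card L.range * Nat.card L.ker := by
          rw [AddSubgroup.card_eq_card_quotient_mul_card_addSubgroup L.ker,
            Nat.card_congr (QuotientAddGroup.quotientKerEquivRange L).toEquiv]
      _ ≤ Nat.card L.range * 2 := Nat.mul_le_mul_left _ hker
      _ = _ := mul_comm _ _
  have key : ∀ ξ : AddChar F ℂ, ξ ≠ 1 → (∀ c, ξ (c ^ e + c) = 1) →
      ∀ x, ξ x = 1 ↔ x ∈ L.range := by
    intro ξ hξ hk x
    let K : AddSubgroup F :=
      { carrier := {y | ξ y = 1}
        add_mem' := fun {a b} ha hb => by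
          show ξ (a + b) = 1
          rw [AddChar.map_add_eq_mul, ha, hb, one_mul]
        zero_mem' := AddChar.map_zero_eq_one ξ
        neg_mem' := fun {a} ha => by
          show ξ (-a) = 1
          rwa [H.neg_eq] }
    have hLK : L.range ≤ K := by rintro _ ⟨c, rfl⟩; exact hk c
    have hK : K ≠ ⊤ := fun ht => hξ (by ext y; exact (show y ∈ K from ht ▸ AddSubgroup.mem_top y))
    have h2 : 2 * Nat.card K ≤ Nat.card F := by
      rw [← AddSubgroup.card_mul_index K, mul_comm 2]
      refine Nat.mul_le_mul_left _ ?_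
      have : K.index ≠ 1 := fun h1 => hK (AddSubgroup.index_eq_one.1 h1)
      have : K.index ≠ 0 := AddSubgroup.index_ne_zero_of_finite
      omega
    have heq : L.range = K := AddSubgroup.eq_of_le_of_card_ge hLK (by omega)
    rw [heq]
    rfl
  ext x
  by_cases hx : x ∈ L.range
  · rw [(key χ hχ h x).2 hx, (key χ' hχ' h' x).2 hx]
  · rw [(addChar_sq H χ x).resolve_left (fun e => hx ((key χ hχ h x).1 e)),
      (addChar_sq H χ' x).resolve_left (fun e => hx ((key χ' hχ' h' x).1 e))]

/-- The commutator form. -/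
def comForm (e : ℕ) (c a : F) : F := c ^ e * a + a ^ e * c

theorem comForm_add (c a a' : F) : comForm e c (a + a') = comForm e c a + comForm e c a' := by
  simp only [comForm, H.add_pow]; ring

/-- The character of `F` given by pairing with `a`. -/
def pairChar (ψ : AddChar F ℂ) (a : F) : AddChar F ℂ where
  toFun c := ψ (comForm e c a)
  map_zero_eq_one' := by simp [comForm, H.e_ne]
  map_add_eq_mul' c d := by
    rw [← AddChar.map_add_eq_mul]
    congr 1
    simp only [comForm, H.add_pow]; ring

theorem card_range_pairChar [Fintype F] (ψ : AddChar F ℂ) (hψ : ψ ≠ 1) :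
    Nat.card F ≤ 2 * Nat.card (Set.range (pairChar H ψ)) := by
  classical
  let P : F →+ Additive (AddChar F ℂ) := AddMonoidHom.mk' (fun a => Additive.ofMul (pairChar H ψ a))
    fun a b => by
      apply Additive.toMul.injective
      ext c
      show ψ (comForm e c (a + b)) = ψ (comForm e c a) * ψ (comForm e c b)
      rw [comForm_add H, AddChar.map_add_eq_mul]
  have hker : Nat.card P.ker ≤ 2 := by
    by_contra hlt
    have hmem : ∀ x : P.ker, ∀ c, ψ (comForm e c (x : F)) = 1 := fun x c => by
      have := congrArg (fun z => (Additive.toMul z) c) x.2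
      exact this
    obtain ⟨x, y, hxy, hx, hy⟩ : ∃ x y : P.ker, x ≠ y ∧ x ≠ 0 ∧ y ≠ 0 := by
      have hc : 2 < Fintype.card P.ker := by rw [← Nat.card_eq_fintype_card]; omega
      obtain ⟨x, y, z, hxy, hxz, hyz⟩ := Fintype.two_lt_card_iff.1 hc
      by_cases hx : x = 0
      · exact ⟨y, z, hyz, fun h => hxy (hx.trans h.symm), fun h => hxz (hx.trans h.symm)⟩
      · by_cases hy : y = 0
        · exact ⟨x, z, hxz, hx, fun h => hyz (hy.trans h.symm)⟩
        · exact ⟨x, y, hxy, hx, hy⟩
    have hk : ∀ u : P.ker, u ≠ 0 → ψ.mulShift ((u : F) ^ (e + 1)) ≠ 1 ∧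
        ∀ c, ψ.mulShift ((u : F) ^ (e + 1)) (c ^ e + c) = 1 := by
      intro u hu
      have hu' : (u : F) ≠ 0 := fun h => hu (Subtype.ext h)
      refine ⟨(AddChar.IsPrimitive.of_ne_one hψ) (pow_ne_zero _ hu'), fun c => ?_⟩
      rw [AddChar.mulShift_apply, ← hmem u ((u : F) * c)]
      congr 1
      simp only [comForm, mul_pow, pow_succ]
      ring
    have heq := addChar_eq_of_kills H (hk x hx).1 (hk y hy).1 (hk x hx).2 (hk y hy).2
    have hyx := AddChar.IsPrimitive.of_ne_one hψ
    have h1 := AddChar.to_mulShift_inj_of_isPrimitive hyx heq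
    have hy' : (y : F) ≠ 0 := fun h => hy (Subtype.ext h)
    have h2 : (x : F) / (y : F) = 1 :=
      H.eq_one_of_pow_succ (by rw [div_pow, h1, div_self (pow_ne_zero _ hy')])
    exact hxy (Subtype.ext (eq_of_div_eq_one h2))
  have hr : Nat.card P.range = Nat.card (Set.range (pairChar H ψ)) := by
    refine Nat.card_congr ((Additive.toMul).subtypeEquiv fun z => ?_)
    constructor
    · rintro ⟨a, rfl⟩; exact ⟨a, rfl⟩
    · rintro ⟨a, ha⟩; exact ⟨a, by rw [show P a = Additive.ofMul (pairChar H ψ a) from rfl, ha]; rfl⟩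
  rw [← hr]
  calc Nat.card F = Nat.card P.range * Nat.card P.ker := by
        rw [AddSubgroup.card_eq_card_quotient_mul_card_addSubgroup P.ker,
          Nat.card_congr (QuotientAddGroup.quotientKerEquivRange P).toEquiv]
    _ ≤ Nat.card P.range * 2 := Nat.mul_le_mul_left _ hker
    _ = _ := mul_comm _ _

/-- If the centre of a Sylow `2`-subgroup acts non-trivially, the dimension is at least
`2 ^ m * (q - 1)`. -/
theorem bound [Fintype F] {m : ℕ} (hF : Fintype.card F = 2 ^ (2 * m + 1)) {V : Type*} [AddCommGroup V]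
    [Module ℂ V] [FiniteDimensional ℂ V] (ρ : Representation ℂ (Sz F e) V) {b₀ : F} {v : V}
    (h0 : ρ (sz H b₀) v ≠ v) :
    2 ^ m * (2 ^ (2 * m + 1) - 1) ≤ Module.finrank ℂ V := by
  classical
  let z : F → Sz F e := fun b => sz H b
  obtain ⟨ψ, hψ, hW⟩ := exists_char ρ z (fun a b => (sz_mul H a b).symm) ⊤
    (fun a w _ => trivial) (v := v) trivial h0
  let S : Finset (AddChar F ℂ) := (Finset.univ.erase (0 : F)).image fun c => ψ.mulShift c
  have hS : S.card = 2 ^ (2 * m + 1) - 1 := by
    rw [Finset.card_image_of_injective _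
      (AddChar.to_mulShift_inj_of_isPrimitive (AddChar.IsPrimitive.of_ne_one hψ)),
      Finset.card_erase_of_mem (Finset.mem_univ _), Finset.card_univ, hF]
  have hbij : Function.Surjective fun t : Fˣ => t ^ (e + 2) :=
    Finite.surjective_of_injective fun s s' h => by
      have h1 : (s : F) ^ (e + 2) = (s' : F) ^ (e + 2) := by simpa using congrArg Units.val h
      have h2 := H.eq_one_of_pow_add_two (t := (s : F) / s')
        (by rw [div_pow, h1, div_self (pow_ne_zero _ s'.ne_zero)])
      exact Units.ext (eq_of_div_eq_one h2)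
  have hdim : ∀ χ ∈ S, 2 ^ m ≤ Module.finrank ℂ ↥((⊤ : Submodule ℂ V) ⊓ space ρ z χ) := by
    intro χ hχ
    obtain ⟨c, hc, rfl⟩ := Finset.mem_image.1 hχ
    have hc0 : c ≠ 0 := Finset.ne_of_mem_erase hc
    obtain ⟨t, ht⟩ := hbij (Units.mk0 c hc0)
    have htc : (t : F) ^ (e + 2) = c := by simpa using congrArg Units.val ht
    have hne : (⊤ : Submodule ℂ V) ⊓ space ρ z (ψ.mulShift c) ≠ ⊥ :=
      ne_bot_of_conj ρ z ⊤ ψ (ψ.mulShift c) (sh H t) (fun b => (t : F) ^ (e + 2) * b)
        (fun b => sz_mul_sh H t b) (fun w _ => trivial)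
        (fun b => by rw [AddChar.mulShift_apply, htc]) hW
    have hξ : ψ.mulShift c ≠ 1 := (AddChar.IsPrimitive.of_ne_one hψ) hc0
    set ξ := ψ.mulShift c
    set W := (⊤ : Submodule ℂ V) ⊓ space ρ z ξ with hWdef
    have hst : ∀ a, Stable ρ W (su H a 0) := fun a =>
      stable_inf_space ρ (fun w _ => trivial) fun d => sz_mul_su H a 0 d
    let u : Set.range (pairChar H ξ) → Sz F e := fun i => su H (Classical.choose i.2) 0
    have hsq : Nat.card (Set.range (pairChar H ξ)) ≤ Module.finrank ℂ W ^ 2 := by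
      refine card_le_sq ρ W hne u (fun j : F => su H j 0) (fun i => hst _) (fun j => hst j)
        (fun j i => ξ (comForm e j (Classical.choose i.2))) ?_ ?_
      · intro j i w hw
        set a := Classical.choose i.2
        have hmem : ρ (su H a 0) (ρ (su H j 0) w) ∈ W := hst a _ (hst j w hw)
        have : su H j 0 * su H a 0 = sz H (comForm e j a) * (su H a 0 * su H j 0) := by
          rw [su_mul, su_mul, su_mul]
          simp only [comForm, zero_pow H.e_ne, zero_mul, add_zero, zero_add]
          rw [add_comm a j]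
          congr 1
          linear_combination -(a ^ e * j) * H.two
        show ρ (su H j 0) (ρ (su H a 0) w) = _
        rw [← Module.End.mul_apply, ← map_mul, this, map_mul, Module.End.mul_apply, map_mul,
          Module.End.mul_apply]
        exact hmem.2 (comForm e j a)
      · intro i i' hii
        by_contra hcon
        push Not at hcon
        refine hii (Subtype.ext ?_)
        rw [← Classical.choose_spec i.2, ← Classical.choose_spec i'.2]
        ext j
        exact hcon j
    have hq : 2 ^ (2 * m + 1) ≤ 2 * Nat.card (Set.range (pairChar H ξ)) := by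
      rw [← hF, ← Nat.card_eq_fintype_card]
      exact card_range_pairChar H ξ hξ
    have h2 : (2 ^ m) ^ 2 ≤ Module.finrank ℂ W ^ 2 := by
      rw [pow_succ, mul_comm (2 ^ (2 * m))] at hq
      rw [← pow_mul, mul_comm m]
      exact (Nat.le_of_mul_le_mul_left hq two_pos).trans hsq
    exact (Nat.pow_le_pow_iff_left two_ne_zero).1 h2
  calc 2 ^ m * (2 ^ (2 * m + 1) - 1) = ∑ _χ ∈ S, 2 ^ m := by
        rw [Finset.sum_const, hS, smul_eq_mul, mul_comm]
    _ ≤ ∑ χ ∈ S, Module.finrank ℂ ↥((⊤ : Submodule ℂ V) ⊓ space ρ z χ) := Finset.sum_le_sum hdim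
    _ ≤ Module.finrank ℂ (⊤ : Submodule ℂ V) := sum_finrank_le ρ z ⊤ S
    _ = _ := finrank_top ℂ V

/-- A non-linear irreducible representation of a Suzuki group has degree at least `2 ^ m (q - 1)`. -/
theorem irreducible_bound [Fintype F] {m : ℕ} (hm : 1 ≤ m) (hF : Fintype.card F = 2 ^ (2 * m + 1))
    (k : ℕ) (π : Representation ℂ (Sz F e) (Fin k → ℂ)) (hirr : π.IsIrreducible) (hk : 2 ≤ k) :
    2 ^ m * (2 ^ (2 * m + 1) - 1) ≤ k := by
  classical
  by_contra hlt
  have h4 : 4 ≤ Nat.card F := by
    rw [Nat.card_eq_fintype_card, hF]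
    calc 4 = 2 ^ 2 := rfl
      _ ≤ _ := Nat.pow_le_pow_right two_pos (by omega)
  have htriv : ∀ g, π g = 1 := by
    have htop : π.ker = ⊤ := eq_top_of_sz_mem H h4 (M := π.ker) fun b => by
      rw [MonoidHom.mem_ker]
      refine LinearMap.ext fun x => ?_
      rw [Module.End.one_apply]
      by_contra hx
      apply hlt
      have := bound H hF π hx
      rwa [Module.finrank_fin_fun] at this
    intro g
    exact MonoidHom.mem_ker.1 (htop ▸ Subgroup.mem_top g)
  let ρ0 : Subrepresentation π :=
    { toSubmodule := Submodule.span ℂ {Pi.single ⟨0, by omega⟩ 1}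
      apply_mem_toSubmodule := fun g v hv => by rw [htriv g]; exact hv }
  have hne : ρ0 ≠ ⊥ := by
    intro h0
    have h1 : (Pi.single ⟨0, by omega⟩ 1 : Fin k → ℂ) ∈ ρ0.toSubmodule := Submodule.subset_span rfl
    rw [h0] at h1
    have h2 := congrFun ((Submodule.mem_bot ℂ).mp h1) ⟨0, by omega⟩
    simp at h2
  have htop := hirr.eq_bot_or_eq_top ρ0 |>.resolve_left hne
  have h1 : (Pi.single ⟨1, by omega⟩ 1 : Fin k → ℂ) ∈ ρ0.toSubmodule := by rw [htop]; trivial
  obtain ⟨a, ha⟩ := Submodule.mem_span_singleton.mp h1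
  have h2 := congrFun ha ⟨1, by omega⟩
  simp [Fin.ext_iff] at h2

end CfsgLib.KnownA.Suzuki
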