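import Cfsg.Agent.Lib.KnownA.Suzuki.Torus

/-!
An element of order four of a Suzuki group is not conjugate to its inverse.
-/

set_option autoImplicit false

namespace CfsgLib.KnownA.Suzuki

open Matrix Cfsg.Lie

variable {F : Type*} [Field F] [Fintype F] {e m : ℕ} (H : TitsField F e) (hm : 1 ≤ m)
  (hF : Fintype.card F = 2 ^ (2 * m + 1))

include H hF

theorem su_unique_fixed {a b : F} (h : su H a b ≠ 1) {q : Option (F × F)}
    (hq : Moves H (su H a b) q q) : q = none := by
  obtain ⟨p, -, hp⟩ := exists_unique_fixed H hF (pow_four_uni H ⟨a, b, rfl⟩) h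
  rw [hp q hq, hp none (borel_moves H (su_mem_borel H a b))]

theorem not_conj_inv {a b : F} (ha : a ≠ 0) (k : Sz F e) :
    k * su H a b * k⁻¹ ≠ (su H a b)⁻¹ := by
  intro h
  rw [su_inv] at h
  have h1 : su H a b ≠ 1 := fun h1 => ha (su_inj H (h1.trans (su_zero H).symm)).1
  have hk : k ∈ borel H := by
    refine mem_borel_of_moves H ?_
    obtain ⟨p, hp⟩ := exists_moves H k none
    have hfix : Moves H (su H a (b + a ^ e * a)) p p := by
      rw [← h]
      exact Moves.trans H (Moves.symm H hp)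
        (Moves.trans H (borel_moves H (su_mem_borel H a b)) hp)
    have h1' : su H a (b + a ^ e * a) ≠ 1 := fun h1' => ha (su_inj H (h1'.trans (su_zero H).symm)).1
    rw [su_unique_fixed H hF h1' hfix] at hp
    exact hp
  obtain ⟨c, d, t, rfl⟩ := hk
  set r : F := ((t⁻¹ : Fˣ) : F) with hr
  have h2 : su H c d * sh H t * su H a b = su H a (b + a ^ e * a) * (su H c d * sh H t) :=
    mul_inv_eq_iff_eq_mul.1 h
  rw [mul_assoc, sh_mul_su, ← mul_assoc, ← mul_assoc, mul_left_inj, su_mul, su_mul, ← hr] at h2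
  obtain ⟨e1, e2⟩ := su_inj H h2
  have hre : r ^ e = 1 := by
    have h3 : (r ^ e + 1) * a = 0 := by linear_combination e1 + a * H.two
    exact H.eq_of_add ((mul_eq_zero.1 h3).resolve_right ha)
  have hr1 : r = 1 := H.pow_inj (by rw [hre, one_pow])
  rw [hre, hr1, one_pow, one_mul, one_mul] at e2
  set x : F := c / a with hx
  have hxa : c = x * a := by rw [hx, div_mul_cancel₀ _ ha]
  rw [hxa, mul_pow] at e2
  have h4 : x + x ^ e = 1 := by
    have h5 : (x + x ^ e - 1) * (a ^ e * a) = 0 := by linear_combination e2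
        + (a ^ e * (x * a)) * H.two
    rcases mul_eq_zero.1 h5 with h6 | h6
    · exact sub_eq_zero.1 h6
    · exact absurd h6 (mul_ne_zero (pow_ne_zero _ ha) ha)
  have h6 : x ^ e + x ^ 2 = 1 := by
    have h7 := congrArg (· ^ e) h4
    simp only [H.add_pow, H.sq, one_pow] at h7
    exact h7
  have h8 : x * (x - 1) = 0 := by linear_combination h6 - h4
  rcases mul_eq_zero.1 h8 with h9 | h9
  · rw [h9, zero_pow H.e_ne, add_zero] at h4
    exact zero_ne_one h4
  · rw [sub_eq_zero.1 h9, one_pow, H.add_self] at h4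
    exact zero_ne_one h4

theorem isConj_inv_iff (P : Sylow 2 (Sz F e)) {g : Sz F e} (hg : g ∈ (P : Subgroup (Sz F e)))
    (h1 : g ≠ 1) : IsConj g g⁻¹ ↔ orderOf g = 2 := by
  refine ⟨fun hc => ?_, fun h2 => ?_⟩
  · obtain ⟨k, hk⟩ := exists_sylow_conj_uni H hF P
    obtain ⟨a, b, hu⟩ := (hk g).1 hg
    have ha : a = 0 := by
      by_contra ha
      have hc' : IsConj (su H a b) (su H a b)⁻¹ := by
        rw [← hu]
        have e1 : IsConj g (k⁻¹ * g * k) := isConj_iff.2 ⟨k⁻¹, by rw [inv_inv]⟩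
        have e2 : IsConj g⁻¹ (k⁻¹ * g * k)⁻¹ := isConj_iff.2 ⟨k⁻¹, by group⟩
        exact (e1.symm.trans hc).trans e2
      obtain ⟨x, hx⟩ := isConj_iff.1 hc'
      exact not_conj_inv H hF ha x hx
    apply orderOf_eq_prime ?_ h1
    have h2 : (k⁻¹ * g * k) ^ 2 = 1 := by
      rw [hu, ha, sq, su_mul]
      simp [H.add_self, zero_pow H.e_ne, su_zero]
    rw [show k⁻¹ * g * k = k⁻¹ * g * k⁻¹⁻¹ by rw [inv_inv], conj_pow, inv_inv] at h2
    have := congrArg (fun x => k * x * k⁻¹) h2
    simpa [mul_assoc] using this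
  · have : g⁻¹ = g := by
      rw [inv_eq_iff_mul_eq_one, ← sq, ← h2, pow_orderOf_eq_one]
    rw [this]

end CfsgLib.KnownA.Suzuki
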