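import Cfsg.Agent.Lib.KnownA.Suzuki.Table
import Cfsg.Agent.Lib.KnownA.Suzuki.MinDeg
import Cfsg.Agent.Lib.KnownA.Suzuki.Real

/-!
# Conjugacy classes of a Suzuki group: tori, centralisers, and products inside a Sylow `2`-subgroup
-/

set_option autoImplicit false
set_option linter.unusedSectionVars false

namespace CfsgLib.KnownA.Suzuki

open Cfsg.Lie CfsgLib Finset

variable {F : Type*} [Field F] [Fintype F] {e m : ℕ} (H : TitsField F e) (hm : 1 ≤ m)
  (hF : Fintype.card F = 2 ^ (2 * m + 1)) (he : e = 2 ^ (m + 1))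

include H hF

/-- An element of order dividing four is conjugate into the standard Sylow `2`-subgroup. -/
theorem exists_isConj_su {g : Sz F e} (hg : g ^ 4 = 1) : ∃ a b : F, IsConj g (su H a b) := by
  obtain ⟨P, hP⟩ := exists_sylow_mem H hF hg
  obtain ⟨k, hk⟩ := exists_sylow_conj_uni H hF P
  obtain ⟨a, b, hu⟩ := (hk g).1 hP
  exact ⟨a, b, isConj_iff.2 ⟨k⁻¹, by rw [inv_inv, hu]⟩⟩

/-- The centraliser of a non-trivial element of `uni` lies in `uni`. -/
theorem centralizer_su_le {a b : F} (h1 : su H a b ≠ 1) :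
    Subgroup.centralizer ({su H a b} : Set (Sz F e)) ≤ uni H := by
  haveI : Fact (Nat.Prime 2) := ⟨Nat.prime_two⟩
  have h4 := pow_four_uni H (g := su H a b) ⟨a, b, rfl⟩
  have hp : IsPGroup 2 (Subgroup.centralizer ({su H a b} : Set (Sz F e))) := fun c =>
    ⟨2, Subtype.ext (pow_four_of_commute H hF h4 h1
      (Subgroup.mem_centralizer_singleton_iff.1 c.2).symm)⟩
  obtain ⟨Q, hQ⟩ := hp.exists_le_sylow
  refine hQ.trans (le_of_eq ?_)
  rw [sylow_eq_of_mem H hF (P := Q) (Q := uniSylow H hF)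
    (hQ (Subgroup.mem_centralizer_singleton_iff.2 rfl)) (by rw [coe_uniSylow]; exact ⟨a, b, rfl⟩) h1,
    coe_uniSylow]

theorem natCard_centralizer_su_le {a b : F} (h1 : su H a b ≠ 1) :
    Nat.card (Subgroup.centralizer ({su H a b} : Set (Sz F e))) ≤ Fintype.card F ^ 2 := by
  rw [← Nat.card_eq_fintype_card, ← natCard_uni H]
  exact Subgroup.card_le_of_le (centralizer_su_le H hF h1)

/-- An element of order four has centraliser of order at most `2q`. -/
theorem natCard_centralizer_su_four {a b : F} (ha : a ≠ 0) :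
    Nat.card (Subgroup.centralizer ({su H a b} : Set (Sz F e))) ≤ 2 * Fintype.card F := by
  have h1 : su H a b ≠ 1 := fun h => ha (su_inj H (h.trans (su_zero H).symm)).1
  have hmem : ∀ x : Subgroup.centralizer ({su H a b} : Set (Sz F e)), ∃ p : F × F,
      (x : Sz F e) = su H p.1 p.2 ∧ (p.1 = 0 ∨ p.1 = a) := by
    intro x
    obtain ⟨c, d, hx⟩ := centralizer_su_le H hF h1 x.2
    refine ⟨(c, d), hx, ?_⟩
    have hc := Subgroup.mem_centralizer_singleton_iff.1 x.2
    rw [hx, su_mul, su_mul] at hc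
    obtain ⟨-, h2⟩ := su_inj H hc
    set r := c / a with hr
    have hca : c = r * a := by rw [hr, div_mul_cancel₀ _ ha]
    rw [hca, mul_pow] at h2
    have hre : r ^ e = r := by
      have h3 : (r ^ e - r) * (a ^ e * a) = 0 := by linear_combination h2
      exact sub_eq_zero.1 ((mul_eq_zero.1 h3).resolve_right (mul_ne_zero (pow_ne_zero _ ha) ha))
    have hr2 : r ^ 2 = r := by rw [← H.sq r, hre, hre]
    rcases mul_eq_zero.1 (show r * (r - 1) = 0 by linear_combination hr2) with h4 | h4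
    · exact Or.inl (by simp [hca, h4])
    · exact Or.inr (by simp [hca, sub_eq_zero.1 h4])
  choose p hp hpa using hmem
  classical
  have hinj : Function.Injective (fun x => ((decide ((p x).1 = 0), (p x).2) : Bool × F)) := by
    intro x y h
    simp only [Prod.mk.injEq, decide_eq_decide] at h
    refine Subtype.ext ?_
    rw [hp x, hp y, h.2]
    congr 1
    rcases hpa x with e1 | e1 <;> rcases hpa y with e2 | e2
    · rw [e1, e2]
    · exact absurd (h.1.1 e1) (e2 ▸ ha)
    · exact absurd (h.1.2 e2) (e1 ▸ ha)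
    · rw [e1, e2]
  have := Nat.card_le_card_of_injective _ hinj
  rwa [Nat.card_prod, Nat.card_eq_fintype_card (α := Bool), Fintype.card_bool,
    Nat.card_eq_fintype_card (α := F)] at this

/-- The sum of two different hyperplanes `x ↦ comForm e x c` is everything. -/
theorem exists_comForm_add (hm : 1 ≤ m) {c d : F} (hc : c ≠ 0) (hd : d ≠ 0) (hcd : c ≠ d) (z : F) :
    ∃ v w : F, comForm e v c + comForm e w d = z := by
  classical
  have hzero : comForm e (0 : F) 1 = 0 := by simp [comForm, H.e_ne]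
  let P : F →+ F := AddMonoidHom.mk' (fun v => comForm e v 1) fun v w => by
    simp only [comForm, H.add_pow]; ring
  have hker : Nat.card P.ker = 2 := by
    rw [← SetLike.coe_sort_coe, Nat.card_coe_set_eq, show (P.ker : Set F) = {0, 1} from ?_,
      Set.ncard_pair zero_ne_one]
    ext v
    simp only [SetLike.mem_coe, AddMonoidHom.mem_ker, Set.mem_insert_iff, Set.mem_singleton_iff]
    show comForm e v 1 = 0 ↔ _
    simp only [comForm, one_pow, one_mul, mul_one]
    refine ⟨fun h => ?_, ?_⟩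
    · have hve : v ^ e = v := H.eq_of_add h
      have hv2 : v ^ 2 = v := by rw [← H.sq v, hve, hve]
      rcases mul_eq_zero.1 (show v * (v - 1) = 0 by linear_combination hv2) with h4 | h4
      exacts [Or.inl h4, Or.inr (sub_eq_zero.1 h4)]
    · rintro (rfl | rfl)
      · simp [H.e_ne]
      · rw [one_pow, H.add_self]
  have hq : Nat.card P.range * 2 = 2 ^ (2 * m + 1) := by
    have h := P.ker.card_mul_index
    rw [AddSubgroup.index_ker, hker, Nat.card_eq_fintype_card (α := F), hF] at h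
    omega
  have hH : Nat.card P.range = 2 ^ (2 * m) := by rw [pow_succ] at hq; omega
  -- the multipliers fixing the hyperplane are trivial
  let S : Subgroup Fˣ :=
    { carrier := {r | ∀ h, h ∈ P.range ↔ (r : F) * h ∈ P.range}
      one_mem' := fun h => by simp
      mul_mem' := fun {r s} hr hs h => by
        rw [Units.val_mul, mul_assoc]; exact (hs h).trans (hr _)
      inv_mem' := fun {r} hr h => by
        rw [hr ((r⁻¹ : Fˣ) * h), ← mul_assoc, ← Units.val_mul, mul_inv_cancel, Units.val_one, one_mul] }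
  have hS : S = ⊥ := by
    have hd1 : Nat.card S ∣ 2 ^ (2 * m) - 1 := by
      let T : Set (Fˣ ⧸ S) := (fun r : Fˣ => (r : Fˣ ⧸ S)) '' {r : Fˣ | (r : F) ∈ P.range}
      have hpre : (QuotientGroup.mk ⁻¹' T : Set Fˣ) = {r : Fˣ | (r : F) ∈ P.range} := by
        ext r
        refine ⟨?_, fun h => ⟨r, h, rfl⟩⟩
        rintro ⟨r', hr', hrr⟩
        have hmem := QuotientGroup.eq.1 hrr
        have := (hmem (r' : F)).1 hr'
        rwa [← Units.val_mul, mul_comm r'⁻¹ r, inv_mul_cancel_right] at this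
      have hc := Nat.card_congr (QuotientGroup.preimageMkEquivSubgroupProdSet S T)
      rw [Nat.card_prod, hpre] at hc
      refine ⟨Nat.card T, ?_⟩
      rw [← hc, ← hH]
      refine Eq.trans ?_ (Nat.card_congr (Equiv.ofBijective
        (fun r : {r : Fˣ // (r : F) ∈ P.range} => (⟨⟨(r.1 : F), r.2⟩, fun h => r.1.ne_zero
          (congrArg Subtype.val h)⟩ : {h : P.range // h ≠ 0}))
        ⟨fun r s h => Subtype.ext (Units.ext (congrArg (fun h => ((h : P.range) : F)) (congrArg Subtype.val h))),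
         fun h => ⟨⟨Units.mk0 (h.1 : F) fun h0 => h.2 (Subtype.ext h0), h.1.2⟩, rfl⟩⟩)).symm
      haveI := Fintype.ofFinite P.range
      rw [Nat.card_eq_fintype_card, Nat.card_eq_fintype_card, Fintype.card_subtype_compl,
        Fintype.card_subtype_eq]
    have hd2 : Nat.card S ∣ 2 ^ (2 * m + 1) - 1 := by
      have := Subgroup.card_subgroup_dvd_card S
      rwa [Nat.card_units, Nat.card_eq_fintype_card (α := F), hF] at this
    refine Subgroup.eq_bot_of_card_eq _ ?_
    have h3 : Nat.card S ∣ 2 ^ (2 * m) := by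
      have h := Nat.dvd_sub hd2 hd1
      rwa [pow_succ, show 2 ^ (2 * m) * 2 - 1 - (2 ^ (2 * m) - 1) = 2 ^ (2 * m) by
        have : 1 ≤ 2 ^ (2 * m) := Nat.one_le_two_pow
        omega] at h
    exact Nat.eq_one_of_dvd_coprimes (Nat.coprime_self_sub_right (Nat.one_le_two_pow)
      |>.2 (Nat.coprime_one_right _)) h3 hd1
  have hscale : ∀ c : F, c ≠ 0 → ∀ y, y ∈ P.range → ∃ v, comForm e v c = c ^ e * c * y := by
    intro c _ y hy
    obtain ⟨x, rfl⟩ := hy
    refine ⟨c * x, ?_⟩
    show comForm e (c * x) c = c ^ e * c * comForm e x 1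
    simp only [comForm, mul_pow, one_pow]; ring
  obtain ⟨y, hy, hy'⟩ : ∃ y ∈ P.range, (d ^ e * d) / (c ^ e * c) * y ∉ P.range := by
    by_contra hall
    push Not at hall
    have hne : (d ^ e * d) / (c ^ e * c) ≠ 0 :=
      div_ne_zero (mul_ne_zero (pow_ne_zero _ hd) hd) (mul_ne_zero (pow_ne_zero _ hc) hc)
    have hr : Units.mk0 _ hne ∈ S := by
      intro h
      refine ⟨hall h, fun hh => ?_⟩
      let ψ : P.range → P.range := fun x => ⟨_, hall x x.2⟩
      obtain ⟨⟨x, hx⟩, hxe⟩ := Finite.surjective_of_injective (f := ψ)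
        (fun x y h => Subtype.ext (mul_left_cancel₀ hne (congrArg Subtype.val h))) ⟨_, hh⟩
      rwa [← mul_left_cancel₀ hne (congrArg Subtype.val hxe)]
    rw [hS, Subgroup.mem_bot, Units.ext_iff, Units.val_mk0, Units.val_one,
      div_eq_one_iff_eq (mul_ne_zero (pow_ne_zero _ hc) hc)] at hr
    apply hcd
    have h1 : (d / c) ^ (e + 1) = 1 := by
      rw [div_pow, pow_succ, pow_succ, hr, div_self (mul_ne_zero (pow_ne_zero _ hc) hc)]
    exact ((div_eq_one_iff_eq hc).1 (H.eq_one_of_pow_succ h1)).symm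
  have hcc : c ^ e * c ≠ 0 := mul_ne_zero (pow_ne_zero _ hc) hc
  -- `z / c ^ (e + 1)` is in the range or its complement, which is a single coset
  have hcoset : ∀ w : F, w ∉ P.range → w + (d ^ e * d) / (c ^ e * c) * y ∈ P.range := by
    intro w hw
    have hi : P.range.index = 2 := by
      have h := P.range.card_mul_index
      rw [hH, Nat.card_eq_fintype_card (α := F), hF, pow_succ] at h
      exact Nat.eq_of_mul_eq_mul_left (pow_pos two_pos _) h
    rw [AddSubgroup.add_mem_iff_of_index_two hi]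
    exact ⟨fun h => absurd h hw, fun h => absurd h hy'⟩
  by_cases hz : z / (c ^ e * c) ∈ P.range
  · obtain ⟨v, hv⟩ := hscale c hc _ hz
    refine ⟨v, 0, ?_⟩
    rw [hv, mul_div_cancel₀ _ hcc]
    simp [comForm, H.e_ne]
  · obtain ⟨v, hv⟩ := hscale c hc _ (hcoset _ hz)
    obtain ⟨w, hw⟩ := hscale d hd _ hy
    refine ⟨v, w, ?_⟩
    rw [hv, hw, mul_add, mul_div_cancel₀ _ hcc, ← mul_assoc, mul_div_cancel₀ _ hcc]
    linear_combination (d ^ e * d * y) * H.two

theorem su_conj (v a b : F) :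
    su H v 0 * su H a b * (su H v 0)⁻¹ = su H a (b + comForm e v a) := by
  rw [mul_inv_eq_iff_eq_mul, su_mul, su_mul, add_comm v a]
  congr 1
  simp only [comForm]
  linear_combination -(a ^ e * v) * H.two

/-- Inside a Sylow `2`-subgroup: every element of order four is a product of two conjugates of a
given one. -/
theorem exists_two_conjugates_four (hm : 1 ≤ m) {a b A B : F} (ha : a ≠ 0) (hA : A ≠ 0) :
    ∃ u v : Sz F e, su H A B = (u * su H a b * u⁻¹) * (v * su H a b * v⁻¹) := by
  classical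
  have hconj : ∀ c : F, c ≠ 0 → ∃ (β : F) (k : Sz F e), k * su H a b * k⁻¹ = su H c β := by
    intro c hc
    obtain ⟨t, ht⟩ := Finite.surjective_of_injective (f := fun x : Fˣ => x ^ e)
      (fun x y h => Units.ext (H.pow_inj (by
        have h' := congrArg (fun x : Fˣ => (x : F)) h
        simpa only [Units.val_pow_eq_pow_val] using h'))) (Units.mk0 (c / a) (div_ne_zero hc ha))
    have ht' : (t : F) ^ e = c / a := by
      rw [← Units.val_pow_eq_pow_val]; exact congrArg Units.val ht
    refine ⟨(t : F) ^ (e + 2) * b, (sh H t)⁻¹, ?_⟩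
    rw [inv_inv, mul_assoc, sh_conj H t a b, inv_mul_cancel_left, ht', div_mul_cancel₀ _ ha]
  obtain ⟨c, hc, hd⟩ : ∃ c : F, c ≠ 0 ∧ c + A ≠ 0 := by
    by_contra hall
    push Not at hall
    have h2 : Fintype.card F ≤ 2 := by
      refine (Finset.card_le_card (s := (univ : Finset F)) (t := {0, -A}) fun x _ => ?_).trans
        Finset.card_le_two
      by_cases hx : x = 0
      · simp [hx]
      · simp [eq_neg_of_add_eq_zero_left (hall x hx)]
    have : 2 ^ 3 ≤ 2 ^ (2 * m + 1) := Nat.pow_le_pow_right two_pos (by omega)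
    omega
  have hne : c ≠ c + A := fun h => hA (by linear_combination -h)
  obtain ⟨β, k, hk⟩ := hconj c hc
  obtain ⟨δ, l, hl⟩ := hconj (c + A) hd
  obtain ⟨v, w, hvw⟩ := exists_comForm_add H hF hm hc hd hne
    (B + β + δ + c ^ e * (c + A))
  refine ⟨su H v 0 * k, su H w 0 * l, ?_⟩
  have e1 : su H v 0 * k * su H a b * (su H v 0 * k)⁻¹ = su H c (β + comForm e v c) := by
    rw [← su_conj H hF v c β, ← hk]; group
  have e2 : su H w 0 * l * su H a b * (su H w 0 * l)⁻¹ = su H (c + A) (δ + comForm e w (c + A)) := by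
    rw [← su_conj H hF w (c + A) δ, ← hl]; group
  rw [e1, e2, su_mul]
  congr 1
  · linear_combination -c * H.two
  · linear_combination -hvw - (β + δ + c ^ e * (c + A)) * H.two

include hm he in
/-- Every non-trivial element is conjugate into a torus or has order dividing four. -/
theorem class_cases [Fintype (Sz F e)] [Fintype (Cfsg.IrrCharacter (Sz F e))] (T : CharTable H m)
    (g : Sz F e) :
    g ^ 4 = 1 ∨ (∃ w ∈ tor H, w ≠ 1 ∧ IsConj g w) ∨ (∃ w ∈ T.Up, w ≠ 1 ∧ IsConj g w) ∨
      ∃ w ∈ T.Um, w ≠ 1 ∧ IsConj g w := by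
  by_cases h4 : g ^ 4 = 1
  · exact Or.inl h4
  have hg1 : g ≠ 1 := fun h => h4 (by rw [h, one_pow])
  by_cases hf : Fpf H g
  · have hto : ∀ U : Subgroup (Sz F e), (∀ u ∈ U, u ≠ 1 → Fpf H u) →
        (∀ u ∈ U, u ≠ 1 → Subgroup.centralizer ({u} : Set (Sz F e)) = U) → 1 < Nat.card U →
        Nat.card (Subgroup.centralizer ({g} : Set (Sz F e))) = Nat.card U →
        ∃ w ∈ U, w ≠ 1 ∧ IsConj g w := by
      intro U hUf hUc h1 hc
      haveI := Finite.one_lt_card_iff_nontrivial.1 h1
      obtain ⟨⟨u, hu⟩, hu1⟩ := exists_ne (1 : U)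
      have hu1' : u ≠ 1 := fun h => hu1 (Subtype.ext h)
      obtain ⟨k, hk⟩ := exists_conj_centralizer H hm hF hf (hUf u hu hu1')
        (by rw [hUc u hu hu1', hc])
      refine ⟨k * g * k⁻¹, ?_, fun h => hg1 (conj_eq_one_iff.1 h), isConj_iff.2 ⟨k, rfl⟩⟩
      rw [← hUc u hu hu1', hk]
      exact ⟨g, Subgroup.mem_centralizer_singleton_iff.2 rfl, rfl⟩
    rcases natCard_centralizer_eq H hm hF he hf with hc | hc
    · exact Or.inr (Or.inr (Or.inl (hto T.Up T.fpf_Up T.cent_Up
        (by rw [T.natCard_Up]; exact one_lt_kp H m) (by rw [hc, T.natCard_Up]))))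
    · exact Or.inr (Or.inr (Or.inr (hto T.Um T.fpf_Um T.cent_Um
        (by rw [T.natCard_Um]; exact one_lt_km H hm) (by rw [hc, T.natCard_Um]))))
  refine Or.inr (Or.inl ?_)
  unfold Fpf at hf
  push Not at hf
  obtain ⟨p, hp⟩ := hf
  obtain ⟨q, hq, hne⟩ : ∃ q, Moves H g q q ∧ q ≠ p := by
    by_contra hc
    push Not at hc
    exact h4 (pow_four_of_unique H hp hc)
  obtain ⟨k, hk1, hk2⟩ := exists_moves_pair H (Ne.symm hne)
  obtain ⟨t, ht⟩ := exists_sh_of_moves H (Moves.conj H hk1 hp) (Moves.conj H hk2 hq)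
  refine ⟨sh H t, ⟨t, rfl⟩, fun h => hg1 ?_, isConj_iff.2 ⟨k⁻¹, by rw [inv_inv, ← ht]⟩⟩
  rw [← ht] at h
  have := congrArg (fun y => k * y * k⁻¹) h
  simpa [mul_assoc] using this

end CfsgLib.KnownA.Suzuki
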