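import Cfsg.Agent.Lib.KnownA.Suzuki.SubStruct
import Cfsg.Agent.Lib.KnownA.Suzuki.Generate
import Mathlib.FieldTheory.Finite.GaloisField

/-!
The subgroups of the Suzuki groups.
-/

set_option autoImplicit false

namespace CfsgLib.KnownA.Suzuki

open Matrix Cfsg.Lie

section Embedding

variable {K F : Type*} [Field K] [Field F] {e : ℕ} (HK : TitsField K e) (H : TitsField F e) (φ : K →+* F)
include HK H

theorem exists_map_mat (g : Sz K e) : ∃ g' : Sz F e, mat g' = (mat g).map φ := by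
  obtain ⟨⟨p, ⟨a, b⟩, t⟩, rfl⟩ := normalForm_surjective HK g
  have hu : ∀ a b, mat (su H (φ a) (φ b)) = (mat (su HK a b)).map φ := by
    intro a b
    ext i j
    fin_cases i <;> fin_cases j <;> simp [mat, su, uGL, uMat, fv]
  have hh : ∀ s : Kˣ, mat (sh H (Units.map φ.toMonoidHom s)) = (mat (sh HK s)).map φ := by
    intro s
    ext i j
    fin_cases i <;> fin_cases j <;> simp [mat, sh, hGL, hMat]
  have hw : mat (sw H) = (mat (sw HK)).map φ := by
    ext i j
    fin_cases i <;> fin_cases j <;> simp [mat, sw, wGL, wMat]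
  rcases p with _ | ⟨c, d⟩
  · exact ⟨su H (φ a) (φ b) * sh H (Units.map φ.toMonoidHom t), by
      simp only [normalForm, rep, one_mul, mat_mul, Matrix.map_mul, hu, hh]⟩
  · exact ⟨su H (φ c) (φ d) * sw H * (su H (φ a) (φ b) * sh H (Units.map φ.toMonoidHom t)), by
      simp only [normalForm, rep, mat_mul, Matrix.map_mul, hu, hh, hw]⟩

/-- The embedding of a Suzuki group over a subfield. -/
noncomputable def subfieldHom : Sz K e →* Sz F e where
  toFun g := (exists_map_mat HK H φ g).choose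
  map_one' := mat_ext (by
    rw [(exists_map_mat HK H φ 1).choose_spec, mat_one, mat_one]
    exact Matrix.map_one φ (map_zero φ) (map_one φ))
  map_mul' g k := mat_ext (by
    rw [(exists_map_mat HK H φ _).choose_spec, mat_mul, mat_mul, Matrix.map_mul,
      (exists_map_mat HK H φ g).choose_spec, (exists_map_mat HK H φ k).choose_spec])

theorem mat_subfieldHom (g : Sz K e) : mat (subfieldHom HK H φ g) = (mat g).map φ :=
  (exists_map_mat HK H φ g).choose_spec

theorem subfieldHom_injective : Function.Injective (subfieldHom HK H φ) := by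
  intro g k h
  apply mat_ext
  have h' := congrArg (fun x => mat x) h
  simp only [mat_subfieldHom] at h'
  exact Matrix.map_injective φ.injective h'

theorem su_mem_range (a b : K) : su H (φ a) (φ b) ∈ (subfieldHom HK H φ).range := by
  refine ⟨su HK a b, mat_ext ?_⟩
  rw [mat_subfieldHom]
  ext i j
  fin_cases i <;> fin_cases j <;> simp [mat, su, uGL, uMat, fv]

theorem sh_mem_range (t : Kˣ) : sh H (Units.map φ.toMonoidHom t) ∈ (subfieldHom HK H φ).range := by
  refine ⟨sh HK t, mat_ext ?_⟩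
  rw [mat_subfieldHom]
  ext i j
  fin_cases i <;> fin_cases j <;> simp [mat, sh, hGL, hMat]

theorem sw_mem_range : sw H ∈ (subfieldHom HK H φ).range := by
  refine ⟨sw HK, mat_ext ?_⟩
  rw [mat_subfieldHom]
  ext i j
  fin_cases i <;> fin_cases j <;> simp [mat, sw, wGL, wMat]

end Embedding

theorem sz_congr {K : Type*} [Field K] {e e' : ℕ} (h : ∀ x : K, x ^ e = x ^ e') :
    Sz K e = Sz K e' := by
  have hf : (fun x : K => x ^ e) = fun x => x ^ e' := funext h
  simp only [Cfsg.Lie.Sz, hf]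

variable {F : Type*} [Field F] [Fintype F] {e m : ℕ} (H : TitsField F e) (hm : 1 ≤ m)
  (hF : Fintype.card F = 2 ^ (2 * m + 1)) (he : e = 2 ^ (m + 1))

include H

omit [Fintype F] in
/-- An element exchanging the two base points. -/
theorem swap_form {u : Sz F e} (huu : u * u = 1) (hum : Moves H u none (some (0, 0))) :
    ∃ d : Fˣ, u = sw H * sh H d := by
  have hback : Moves H u (some (0, 0)) none := by
    have := Moves.symm H hum
    rwa [inv_eq_of_mul_eq_one_right huu] at this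
  have hw : Moves H (sw H) none (some (0, 0)) := sw_moves_none H
  have hw' : Moves H (sw H) (some (0, 0)) none := by
    have := Moves.symm H hw
    rwa [inv_eq_of_mul_eq_one_right (sw_sq H)] at this
  obtain ⟨d, hd⟩ := exists_sh_of_moves H (Moves.trans H hum hw') (Moves.trans H hback hw)
  exact ⟨d, by rw [← hd, ← mul_assoc, sw_sq, one_mul]⟩

/-- The subgroup belonging to a subfield: generated by its unipotent, torus and Weyl elements. -/
def subGen (K : _root_.Subfield F) : Subgroup (Sz F e) :=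
  Subgroup.closure ({g | ∃ a ∈ K, ∃ b ∈ K, g = su H a b} ∪ {g | ∃ t : Fˣ, (t : F) ∈ K ∧ g = sh H t} ∪
    {sw H})

include hF in
/-- The normalised moved case: the subgroup is the one of a subfield. -/
theorem moved_eq_subGen (M : Subgroup (Sz F e)) (S : MovedSetup H M 1) (h1 : su H (1 : F) 0 ∈ M) :
    ∃ K : _root_.Subfield F, (∃ r ∈ K, r ≠ 0 ∧ r ≠ 1) ∧ M = subGen H K := by
  classical
  obtain ⟨htwo, hzval, htor, horb⟩ := movedFacts H hF M S
  set R := torusPart H M with hR
  have hzval' : ∀ b : F, sz H b ∈ M ↔ b = 0 ∨ ∃ r ∈ R, b = (r : F) := fun b => by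
    simpa only [mul_one] using hzval b
  let K : _root_.Subfield F :=
    { carrier := {b | sz H b ∈ M}
      zero_mem' := (hzval' 0).2 (Or.inl rfl)
      one_mem' := (hzval' 1).2 (Or.inr ⟨1, R.one_mem, rfl⟩)
      add_mem' := fun {a b} ha hb => by
        show sz H (a + b) ∈ M
        rw [← sz_mul]; exact M.mul_mem ha hb
      mul_mem' := fun {a b} ha hb => by
        show sz H (a * b) ∈ M
        rcases (hzval' a).1 ha with rfl | ⟨r, hr, rfl⟩
        · rw [zero_mul]; exact (hzval' 0).2 (Or.inl rfl)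
        rcases (hzval' b).1 hb with rfl | ⟨s, hs, rfl⟩
        · rw [mul_zero]; exact (hzval' 0).2 (Or.inl rfl)
        exact (hzval' _).2 (Or.inr ⟨r * s, R.mul_mem hr hs, (Units.val_mul r s).symm⟩)
      neg_mem' := fun {a} ha => by
        show sz H (-a) ∈ M
        rwa [H.neg_eq]
      inv_mem' := fun a ha => by
        rcases (hzval' a).1 ha with rfl | ⟨r, hr, rfl⟩
        · rw [_root_.inv_zero]; exact ha
        · exact (hzval' _).2 (Or.inr ⟨r⁻¹, R.inv_mem hr, (Units.val_inv_eq_inv_val r).symm⟩) }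
  have hKR : ∀ r : Fˣ, (r : F) ∈ K → r ∈ R := by
    intro r hr
    rcases (hzval' r).1 hr with h | ⟨s, hs, hsr⟩
    · exact absurd h r.ne_zero
    · rwa [Units.ext hsr]
  have hRK : ∀ r ∈ R, (r : F) ∈ K := fun r hr => (hzval' r).2 (Or.inr ⟨r, hr, rfl⟩)
  have hsuK : ∀ a ∈ K, su H a 0 ∈ M := by
    intro a ha
    rcases (hzval' a).1 ha with rfl | ⟨r, hr, rfl⟩
    · rw [su_zero]; exact M.one_mem
    · obtain ⟨s, hs, hsr⟩ := exists_pow_eq H e (pow_e_inj H) R hr
      have h := M.mul_mem (M.mul_mem (htor s⁻¹ (R.inv_mem hs)) h1) (htor s hs)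
      rwa [sh_mul_su, mul_assoc, sh_mul, inv_mul_cancel, sh_one, mul_one, inv_inv, mul_one, mul_zero,
        ← Units.val_pow_eq_pow_val, hsr] at h
  have hV : ∀ a b, su H a b ∈ M → a ∈ K ∧ b ∈ K := by
    intro a b hab
    have hsq : sz H (a ^ e * a) ∈ M := by
      have h := M.mul_mem hab hab
      rwa [su_mul, H.add_self, H.add_self, zero_add] at h
    have ha : a ∈ K := by
      by_cases ha0 : a = 0
      · rw [ha0]; exact K.zero_mem
      · have h2 : ((Units.mk0 a ha0) ^ (e + 1) : Fˣ) ∈ R := hKR _ (by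
          rw [Units.val_pow_eq_pow_val, Units.val_mk0, pow_succ]
          exact hsq)
        exact hRK _ (mem_of_pow_mem H (pow_e1_inj H) R h2)
    refine ⟨ha, ?_⟩
    have h2 := M.mul_mem (M.inv_mem (hsuK a ha)) hab
    have h3 : su H a b = su H a 0 * sz H b := by rw [su_mul]; simp
    rw [h3, inv_mul_cancel_left] at h2
    exact h2
  obtain ⟨u, hu, huu, hum⟩ := S.swap
  obtain ⟨d, hd⟩ := swap_form H huu hum
  -- the torus component of `u` lies in the subfield
  have hdR : d ∈ R := by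
    have hc : ((d⁻¹ : Fˣ) : F) ^ (e + 2) ≠ 0 := pow_ne_zero _ (Units.ne_zero _)
    have hp1 : Moves H (sz H 1) (some (0, 0)) (some (0, 1)) := by
      simpa [zero_pow H.e_ne] using su_moves H 0 1 0 0
    have hp2 : Moves H (sh H d) (some (0, 1)) (some (0, ((d⁻¹ : Fˣ) : F) ^ (e + 2))) := by
      have := toSL_sh_some H d 0 1
      rw [mul_zero, mul_one] at this
      exact this
    have hp3 := sw_moves_vertical H hc
    have hmv := Moves.trans H (Moves.trans H (Moves.trans H hum hp1) hp2) hp3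
    have hg : sw H * (sh H d * (sz H 1 * u)) ∈ M := by
      rw [← mul_assoc, ← hd]
      exact M.mul_mem hu (M.mul_mem ((hzval' 1).2 (Or.inr ⟨1, R.one_mem, rfl⟩)) hu)
    have hsu := horb _ hg _ _ hmv
    have hx : ((d⁻¹ : Fˣ) : F) ^ (e + 2) / (((d⁻¹ : Fˣ) : F) ^ (e + 2)) ^ e = (d : F) ^ e := by
      have hd0 : (d : F) ≠ 0 := d.ne_zero
      have e1 : (((d⁻¹ : Fˣ) : F) ^ (e + 2)) ^ e = ((d⁻¹ : Fˣ) : F) ^ (2 + 2 * e) := by
        rw [pow_add, mul_pow, H.sq, pow_add, pow_mul]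
      rw [e1, Units.val_inv_eq_inv_val, inv_pow, inv_pow, inv_div_inv]
      rw [div_eq_iff (pow_ne_zero _ hd0), ← pow_add]
      ring_nf
    rw [hx, ← Units.val_pow_eq_pow_val] at hsu
    exact mem_of_pow_mem H (pow_e_inj H) R (hKR _ (hV _ _ hsu).1)
  have hsw : sw H ∈ M := by
    have := M.mul_mem hu (M.inv_mem (htor d hdR))
    rwa [hd, mul_inv_cancel_right] at this
  refine ⟨K, ?_, le_antisymm ?_ ?_⟩
  · obtain ⟨r, hr, hr1⟩ := htwo
    exact ⟨r, hRK r hr, r.ne_zero, fun h => hr1 (Units.ext h)⟩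
  swap
  · rw [subGen, Subgroup.closure_le]
    rintro g ((⟨a, ha, b, hb, rfl⟩ | ⟨t, ht, rfl⟩) | rfl)
    · rw [show su H a b = su H a 0 * sz H b by rw [su_mul]; simp]
      exact M.mul_mem (hsuK a ha) hb
    · exact htor t (hKR t ht)
    · exact hsw
  have hsuS : ∀ a b, su H a b ∈ M → su H a b ∈ subGen H K := fun a b hab =>
    Subgroup.subset_closure (Or.inl (Or.inl ⟨a, (hV a b hab).1, b, (hV a b hab).2, rfl⟩))
  have hshS : ∀ t ∈ R, sh H t ∈ subGen H K := fun t ht =>
    Subgroup.subset_closure (Or.inl (Or.inr ⟨t, hRK t ht, rfl⟩))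
  have hswS : sw H ∈ subGen H K := Subgroup.subset_closure (Or.inr rfl)
  have hB : ∀ g ∈ M, Moves H g none none → g ∈ subGen H K := by
    intro g hg h
    obtain ⟨a, b, t, ht, rfl⟩ := exists_borel_form H M hg h
    have hab := M.mul_mem hg (M.inv_mem (htor t ht))
    rw [mul_inv_cancel_right] at hab
    exact Subgroup.mul_mem _ (hsuS a b hab) (hshS t ht)
  intro g hg
  obtain ⟨p, hp⟩ := exists_moves H g none
  rcases p with _ | ⟨a, b⟩
  · exact hB g hg hp
  · have hab := horb g hg a b hp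
    have hg' : sw H * (su H a b)⁻¹ * g ∈ M := M.mul_mem (M.mul_mem hsw (M.inv_mem hab)) hg
    have hmove : Moves H (sw H * (su H a b)⁻¹ * g) none none := by
      have h0 : Moves H (su H a b) (some (0, 0)) (some (a, b)) := by
        simpa using su_moves H a b 0 0
      have hw' : Moves H (sw H) (some (0, 0)) none := by
        have := Moves.symm H (sw_moves_none H)
        rwa [inv_eq_of_mul_eq_one_right (sw_sq H)] at this
      exact Moves.trans H hp (Moves.trans H (Moves.symm H h0) hw')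
    have := Subgroup.mul_mem _ (Subgroup.mul_mem _ (hsuS a b hab) hswS) (hB _ hg' hmove)
    rwa [show su H a b * sw H * (sw H * (su H a b)⁻¹ * g) = su H a b * (sw H * sw H) * (su H a b)⁻¹ * g by
      group, sw_sq, mul_one, mul_inv_cancel, one_mul] at this


include hm hF he in
/-- The normalised moved case: the subgroup lies in a Suzuki group over a subfield. -/
theorem le_subfield_group (M : Subgroup (Sz F e)) (hM : M ≠ ⊤) (S : MovedSetup H M 1)
    (h1 : su H (1 : F) 0 ∈ M) :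
    ∃ k : ℕ, 1 ≤ k ∧ k < m ∧ 2 * k + 1 ∣ 2 * m + 1 ∧
      ∃ (K : Type) (_ : Field K) (_ : Fintype K), Fintype.card K = 2 ^ (2 * k + 1) ∧
        ∃ Sg : Subgroup (Sz F e), Nonempty (Sz K (2 ^ (k + 1)) ≃* Sg) ∧ M ≤ Sg := by
  classical
  haveI := Fact.mk Nat.prime_two
  obtain ⟨K, ⟨r, hrK, hr0, hr1⟩, rfl⟩ := moved_eq_subGen H hF M S h1
  haveI : Fintype K := Fintype.ofFinite K
  haveI : Module.Finite K F := Module.Finite.of_finite
  have hpow := Module.natCard_eq_pow_finrank (K := K) (V := F)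
  rw [Nat.card_eq_fintype_card, hF] at hpow
  obtain ⟨n, -, hn⟩ := (Nat.dvd_prime_pow Nat.prime_two (m := 2 * m + 1)).1 (show Nat.card K ∣ 2 ^ (2 * m + 1) by
    rw [hpow]
    exact dvd_pow_self _ Module.finrank_pos.ne')
  rw [hn, ← pow_mul] at hpow
  have hdvd : n ∣ 2 * m + 1 := ⟨_, Nat.pow_right_injective le_rfl hpow⟩
  obtain ⟨k, hk⟩ : Odd n := (odd_two_mul_add_one m).of_dvd_nat hdvd
  subst hk
  have hk1 : 1 ≤ k := by
    by_contra hk0
    have hk0' : k = 0 := by omega
    subst hk0'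
    have h3 : ({0, 1, r} : Finset F) ⊆ Finset.univ.filter (fun x => x ∈ K) := by
      intro x hx
      simp only [Finset.mem_insert, Finset.mem_singleton] at hx
      rcases hx with rfl | rfl | rfl <;> simp [K.zero_mem, K.one_mem, hrK]
    have h4 := Finset.card_le_card h3
    rw [Finset.card_insert_of_notMem (by simp [hr0.symm, zero_ne_one]),
      Finset.card_insert_of_notMem (by simp; exact Ne.symm hr1),
      Finset.card_singleton, ← Fintype.card_subtype] at h4
    rw [← Nat.card_eq_fintype_card] at h4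
    change 3 ≤ Nat.card K at h4
    rw [hn] at h4
    simp at h4
  obtain ⟨i, hi⟩ := hdvd
  obtain ⟨j, hj⟩ : Odd i := (odd_two_mul_add_one m).of_dvd_nat ⟨2 * k + 1, by rw [hi, mul_comm]⟩
  subst hj
  have hkm : k < m := by
    by_contra hle
    have hjk : k = m := by nlinarith
    subst hjk
    have hall : ∀ x : F, x ∈ K := by
      have htop : (K : Set F) = Set.univ := Set.eq_of_subset_of_ncard_le (Set.subset_univ _) (by
        rw [Set.ncard_univ, ← Nat.card_coe_set_eq, SetLike.coe_sort_coe, hn, Nat.card_eq_fintype_card,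
          hF]) (Set.toFinite _)
      exact fun x => (Set.ext_iff.1 htop x).2 (Set.mem_univ x)
    have h4 : 4 ≤ Nat.card F := by
      rw [Nat.card_eq_fintype_card, hF]
      calc 4 = 2 ^ 2 := rfl
        _ ≤ _ := Nat.pow_le_pow_right two_pos (by omega)
    refine hM (eq_top_of_uni_le H h4 ?_ (Subgroup.subset_closure (Or.inr rfl)) (sw_notMem_borel H))
    rintro _ ⟨a, b, rfl⟩
    exact Subgroup.subset_closure (Or.inl (Or.inl ⟨a, hall a, b, hall b, rfl⟩))
  have hmk : m = k + (2 * k + 1) * j := by linarith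
  refine ⟨k, hk1, hkm, ⟨_, hi⟩, GaloisField 2 (2 * k + 1), inferInstance, Fintype.ofFinite _, ?_⟩
  letI : Fintype (GaloisField 2 (2 * k + 1)) := Fintype.ofFinite _
  have hG : Fintype.card (GaloisField 2 (2 * k + 1)) = 2 ^ (2 * k + 1) := by
    rw [← Nat.card_eq_fintype_card, GaloisField.card 2 _ (by omega)]
  refine ⟨hG, ?_⟩
  let f : GaloisField 2 (2 * k + 1) ≃+* K := FiniteField.ringEquivOfCardEq (by
    rw [hG, ← Nat.card_eq_fintype_card, hn])
  let φ : GaloisField 2 (2 * k + 1) →+* F := K.subtype.comp f.toRingHom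
  have hpe : ∀ x : GaloisField 2 (2 * k + 1), x ^ (2 ^ (k + 1)) = x ^ e := by
    intro x
    have hfr : ∀ j, x ^ (2 ^ ((2 * k + 1) * j)) = x := by
      intro j
      induction j with
      | zero => simp
      | succ j ih =>
        rw [Nat.mul_succ, pow_add, pow_mul, ih, ← hG, FiniteField.pow_card]
    rw [he, hmk, show k + (2 * k + 1) * j + 1 = (2 * k + 1) * j + (k + 1) by omega, pow_add 2 ((2 * k + 1) * j),
      pow_mul x, hfr]
  have HK : TitsField (GaloisField 2 (2 * k + 1)) e :=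
    { two := φ.injective (by rw [map_ofNat, H.two, map_zero])
      sq := fun x => φ.injective (by rw [map_pow, map_pow, map_pow, H.sq])
      two_pow := H.two_pow }
  refine ⟨(subfieldHom HK H φ).range, ⟨(MulEquiv.subgroupCongr (sz_congr hpe)).trans
    (MonoidHom.ofInjective (subfieldHom_injective HK H φ))⟩, ?_⟩
  have hlift : ∀ a ∈ K, ∃ a', φ a' = a := fun a ha => ⟨f.symm ⟨a, ha⟩, by simp [φ]⟩
  rw [subGen, Subgroup.closure_le]
  rintro g ((⟨a, ha, b, hb, rfl⟩ | ⟨t, ht, rfl⟩) | rfl)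
  · obtain ⟨a', rfl⟩ := hlift a ha
    obtain ⟨b', rfl⟩ := hlift b hb
    exact su_mem_range HK H φ a' b'
  · obtain ⟨t', ht'⟩ := hlift _ ht
    have ht0 : t' ≠ 0 := by
      rintro rfl
      rw [map_zero] at ht'
      exact t.ne_zero ht'.symm
    have : t = Units.map φ.toMonoidHom (Units.mk0 t' ht0) := Units.ext ht'.symm
    rw [this]
    exact sh_mem_range HK H φ _
  · exact sw_mem_range HK H φ

include hm hF he in
/-- A unique involution at the point: cyclic Sylow subgroup and normal complement. -/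
theorem le_normalizer_of_unique_involution (M₁ : Subgroup (Sz F e)) {b0 : F}
    (ht' : sz H b0 ∈ M₁) (hb00 : b0 ≠ 0) (hother : ∀ b, b ≠ 0 → b ≠ b0 → sz H b ∉ M₁)
    (hswap : ∃ u ∈ M₁, u * u = 1 ∧ Moves H u none (some (0, 0))) :
    ∃ a : Sz F e, a ^ 4 ≠ 1 ∧ M₁ ≤ Subgroup.normalizer
      ((Subgroup.centralizer ({a} : Set (Sz F e)) : Subgroup (Sz F e)) : Set (Sz F e)) := by
  classical
  haveI := Fact.mk Nat.prime_two
  have huu : ∀ g, g ∈ uni H → g * g = 1 → ∃ b, g = sz H b := by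
    rintro _ ⟨a, b, rfl⟩ h
    rw [su_mul, H.add_self, H.add_self, zero_add] at h
    have h0 := (su_inj H (h.trans (su_zero H).symm)).2
    have ha : a = 0 := by
      rcases mul_eq_zero.1 h0 with h | h
      · exact (pow_eq_zero_iff H.e_ne).1 h
      · exact h
    exact ⟨b, by rw [ha]⟩
  obtain ⟨Q, hQ⟩ : ∃ Q : Sylow 2 M₁, (⟨sz H b0, ht'⟩ : M₁) ∈ (Q : Subgroup M₁) := by
    have hpz : IsPGroup 2 (Subgroup.zpowers (⟨sz H b0, ht'⟩ : M₁)) := by
      refine fun x => ⟨1, ?_⟩
      obtain ⟨i, hi⟩ := Subgroup.mem_zpowers_iff.1 x.2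
      have h2 : (⟨sz H b0, ht'⟩ : M₁) ^ (2 : ℤ) = 1 := by
        rw [zpow_two]
        exact Subtype.ext (by simp [sz_mul, H.add_self, su_zero])
      refine Subtype.ext ?_
      show (x : M₁) ^ (2 ^ 1) = 1
      rw [← hi, ← zpow_natCast, ← _root_.zpow_mul, mul_comm, _root_.zpow_mul]
      norm_num [h2]
    obtain ⟨Q, hQ⟩ := hpz.exists_le_sylow
    exact ⟨Q, hQ (Subgroup.mem_zpowers _)⟩
  obtain ⟨P, hP⟩ := ((Q.isPGroup'.map M₁.subtype)).exists_le_sylow
  have hPuni : (P : Subgroup (Sz F e)) = uni H := by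
    have h2 : sz H b0 ∈ (P : Subgroup (Sz F e)) := hP ⟨_, hQ, rfl⟩
    exact (sylow_eq_of_mem H hF h2 (Q := uniSylow H hF) ⟨0, b0, rfl⟩
      (fun h => hb00 (su_inj H (h.trans (su_zero H).symm)).2)).trans (coe_uniSylow H hF)
  have hQu : ∀ x : M₁, x ∈ (Q : Subgroup M₁) → (x : Sz F e) ∈ uni H := fun x hx =>
    hPuni ▸ hP ⟨x, hx, rfl⟩
  have hQc : IsCyclic Q := by
    by_cases hall : ∀ x : M₁, x ∈ (Q : Subgroup M₁) → x * x = 1
    · refine ⟨⟨⟨⟨sz H b0, ht'⟩, hQ⟩, fun x => ?_⟩⟩
      obtain ⟨b, hb⟩ := huu _ (hQu _ x.2) (congrArg Subtype.val (hall _ x.2))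
      by_cases hb' : b = 0
      · exact ⟨0, Subtype.ext (Subtype.ext (by simp [hb, hb', su_zero]))⟩
      · obtain rfl : b = b0 := by
          by_contra hbne
          exact hother b hb' hbne (hb ▸ (x : M₁).2)
        exact ⟨1, Subtype.ext (Subtype.ext (by simp [hb]))⟩
    · push Not at hall
      obtain ⟨y, hy, hyy⟩ := hall
      obtain ⟨a, b, hab⟩ := hQu y hy
      have hsqz : ∀ x : M₁, ∀ a b, (x : Sz F e) = su H a b → a ^ e * a ≠ 0 → a ^ e * a = b0 := by
        intro x a b hx hne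
        by_contra hne'
        have := M₁.mul_mem x.2 x.2
        rw [hx, su_mul, H.add_self, H.add_self, zero_add] at this
        exact hother _ hne hne' this
      have hane : a ^ e * a ≠ 0 := fun h => hyy (Subtype.ext (by
        show (y : Sz F e) * y = 1
        rw [hab, su_mul, H.add_self, H.add_self, zero_add, h, su_zero]))
      refine ⟨⟨⟨y, hy⟩, fun x => ?_⟩⟩
      obtain ⟨a', b', hab'⟩ := hQu _ x.2
      have hzy : ∀ w : M₁, w ∈ (Q : Subgroup M₁) → ∀ z, (w : Sz F e) = sz H z → z ≠ 0 →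
          (w : Sz F e) = (y : Sz F e) * y := by
        intro w _ z hwz hz
        have hzb : z = b0 := by
          by_contra hne
          exact hother z hz hne (hwz ▸ w.2)
        rw [hwz, hzb, hab, su_mul, H.add_self, H.add_self, zero_add, hsqz y a b hab hane]
      by_cases ha' : a' = 0
      · subst ha'
        by_cases hb' : b' = 0
        · exact ⟨0, Subtype.ext (Subtype.ext (by simp [hab', hb', su_zero]))⟩
        · refine ⟨2, Subtype.ext (Subtype.ext ?_)⟩
          simp [zpow_ofNat, pow_two]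
          exact (hzy _ x.2 b' hab' hb').symm
      · have h1 : a' ^ e * a' = b0 := hsqz _ a' b' hab' (mul_ne_zero (pow_ne_zero _ ha') ha')
        have haa : a' = a := by
          have h2 := hsqz y a b hab hane
          have ha0 : a ≠ 0 := fun h => hane (by rw [h, mul_zero])
          exact congrArg Units.val (pow_e1_inj H (Units.mk0 a' ha') (Units.mk0 a ha0) (Units.ext (by
            rw [Units.val_pow_eq_pow_val, Units.val_pow_eq_pow_val, Units.val_mk0, Units.val_mk0,
              pow_succ, pow_succ, h1, h2])))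
        subst haa
        by_cases hbb : b' = b
        · exact ⟨1, Subtype.ext (Subtype.ext (by simp [hab', hab, hbb]))⟩
        · refine ⟨3, Subtype.ext (Subtype.ext ?_)⟩
          have hw : ((x : M₁) * y⁻¹ : M₁) ∈ (Q : Subgroup M₁) := Subgroup.mul_mem _ x.2 (Subgroup.inv_mem _ hy)
          have hwz : (((x : M₁) * y⁻¹ : M₁) : Sz F e) = sz H (b' + b) := by
            rw [Subgroup.coe_mul, Subgroup.coe_inv, hab', hab, su_inv, su_mul, H.add_self]
            congr 1
            linear_combination (a' ^ e * a') * H.two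
          have h3 := hzy _ hw _ hwz (fun h => hbb (H.eq_of_add h))
          rw [Subgroup.coe_mul, Subgroup.coe_inv, mul_inv_eq_iff_eq_mul] at h3
          simp [zpow_ofNat, pow_succ, h3]
  have hmin : (Nat.card M₁).minFac = 2 := by
    have h2 : 2 ∣ Nat.card M₁ := by
      have h3 := orderOf_dvd_natCard (⟨sz H b0, ht'⟩ : M₁)
      rwa [orderOf_eq_prime (p := 2) (x := (⟨sz H b0, ht'⟩ : M₁))
        (by rw [sq]; exact Subtype.ext (by simp [sz_mul, H.add_self, su_zero]))
        (fun h => hb00 (su_inj H ((congrArg Subtype.val h).trans (su_zero H).symm)).2)] at h3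
    exact (Nat.minFac_eq_two_iff _).2 h2
  obtain ⟨K, hKn, hKQ⟩ : ∃ K : Subgroup M₁, K.Normal ∧ K.IsComplement' (Q : Subgroup M₁) :=
    ⟨_, MonoidHom.normal_ker _, hQc.isComplement' hmin⟩
  have hKodd : Odd (Nat.card K) := by
    have h := hKQ.card_mul
    by_contra hne
    rw [Nat.not_odd_iff_even] at hne
    have hidx := Q.not_dvd_index
    rw [hKQ.index_eq_card] at hidx
    exact hidx hne.two_dvd
  by_cases hKbot : K = ⊥
  · exfalso
    rw [hKbot] at hKQ
    have hQtop : (Q : Subgroup M₁) = ⊤ := Subgroup.isComplement'_bot_left.1 hKQ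
    obtain ⟨u, hu, huu', hum⟩ := hswap
    have hu' : (⟨u, hu⟩ : M₁) ∈ (Q : Subgroup M₁) := hQtop ▸ Subgroup.mem_top _
    simpa using Moves.unique H (borel_moves H (uni_le_borel H (hQu _ hu'))) hum
  have hK' : Odd (Nat.card (K.map M₁.subtype)) := by
    rwa [Subgroup.card_map_of_injective M₁.subtype_injective]
  obtain ⟨g, hg, hle⟩ := le_centralizer_of_odd H hm hF he (K.map M₁.subtype) hK' (fun h => hKbot
    ((Subgroup.map_eq_bot_iff_of_injective _ M₁.subtype_injective).1 h))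
  obtain ⟨a, haK, ha1⟩ : ∃ a ∈ K.map M₁.subtype, a ≠ 1 := by
    by_contra hc
    push Not at hc
    exact hKbot ((Subgroup.map_eq_bot_iff_of_injective _ M₁.subtype_injective).1
      ((Subgroup.eq_bot_iff_forall _).2 hc))
  obtain ⟨ha4, hca⟩ := centralizer_eq_of_mem' H hF hg (hle haK) ha1
  refine ⟨a, ha4, fun y' hy'M => ?_⟩
  have hmemN : ∀ z, z ∈ M₁ → z * a * z⁻¹ ∈ Subgroup.centralizer ({a} : Set (Sz F e)) := by
    intro z hz
    obtain ⟨a', ha', rfl⟩ := haK
    rw [hca]
    refine hle (Subgroup.mem_map.2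
      ⟨⟨z, hz⟩ * a' * ⟨z, hz⟩⁻¹, hKn.conj_mem a' ha' ⟨z, hz⟩, ?_⟩)
    simp only [Subgroup.coe_subtype, Subgroup.coe_mul, Subgroup.coe_inv]
  have h2 := (centralizer_eq_of_mem' H hF ha4 (hmemN y' hy'M)
    (fun h => ha1 (conj_eq_one_iff.1 h))).2
  rw [centralizer_conj H] at h2
  refine Subgroup.mem_normalizer_iff.2 fun z => ⟨fun hz => ?_, fun hz => ?_⟩
  · rw [← h2]; exact ⟨z, hz, rfl⟩
  · rw [← h2] at hz
    obtain ⟨w, hw, hwz⟩ := hz
    have : w = z := conj_injective hwz
    exact this ▸ hw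

include hm hF he in
theorem subgroup_cases (M : Subgroup (Sz F e)) :
    (∃ P : Sylow 2 (Sz F e), M ≤ Subgroup.normalizer ((P : Subgroup (Sz F e)) : Set (Sz F e))) ∨
    (∃ U : Subgroup (Sz F e), IsCyclic U ∧
      Nat.card U ∈ ({2 ^ (2 * m + 1) - 1, kp m, km m} : Set ℕ) ∧
      M ≤ Subgroup.normalizer (U : Set (Sz F e))) ∨
    (∃ c : Sz F e, MovedSetup H (M.map (MulAut.conj c).toMonoidHom) 1 ∧
      su H (1 : F) 0 ∈ M.map (MulAut.conj c).toMonoidHom) := by
  classical
  haveI := Fact.mk Nat.prime_two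
  have htorus : ∀ g : Sz F e, g ^ 4 ≠ 1 → M ≤ Subgroup.normalizer
      ((Subgroup.centralizer ({g} : Set (Sz F e)) : Subgroup (Sz F e)) : Set (Sz F e)) →
      ∃ U : Subgroup (Sz F e), IsCyclic U ∧
        Nat.card U ∈ ({2 ^ (2 * m + 1) - 1, kp m, km m} : Set ℕ) ∧
        M ≤ Subgroup.normalizer (U : Set (Sz F e)) := fun g hg hle =>
    ⟨_, isCyclic_centralizer H hg, by simpa using natCard_centralizer_cases H hm hF he hg, hle⟩
  by_cases hbot : M = ⊥
  · exact Or.inl ⟨uniSylow H hF, hbot ▸ bot_le⟩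
  by_cases hodd : Odd (Nat.card M)
  · obtain ⟨g, hg, hle⟩ := le_centralizer_of_odd H hm hF he M hodd hbot
    exact Or.inr (Or.inl (htorus g hg (hle.trans Subgroup.le_normalizer)))
  obtain ⟨t, ht⟩ := exists_prime_orderOf_dvd_card' (G := M) 2
    (Nat.not_odd_iff_even.1 hodd).two_dvd
  have htt : (t : Sz F e) * t = 1 := by
    rw [← sq, ← Subgroup.coe_pow, ← ht, pow_orderOf_eq_one, Subgroup.coe_one]
  have ht1 : (t : Sz F e) ≠ 1 := fun h => by
    rw [show t = 1 from Subtype.ext h, orderOf_one] at ht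
    exact absurd ht (by norm_num)
  obtain ⟨p, hp, hpu⟩ := exists_unique_fixed H hF (g := (t : Sz F e))
    (by simp only [pow_succ, pow_zero, one_mul, htt]) ht1
  by_cases hfix : ∀ g ∈ M, Moves H g p p
  · refine Or.inl ?_
    obtain ⟨k, hk⟩ : ∃ k, Moves H k none p := ⟨_, toSL_rep H p⟩
    let P : Sylow 2 (Sz F e) := k • uniSylow H hF
    refine ⟨P, fun g hg => ?_⟩
    have hP : (P : Subgroup (Sz F e)) = (uni H).map (MulAut.conj k).toMonoidHom := rfl
    rw [hP, ← Subgroup.map_equiv_normalizer_eq, normalizer_uni, Subgroup.mem_map_equiv]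
    simpa using mem_borel_of_moves H (Moves.conj H hk (hfix g hg))
  push Not at hfix
  obtain ⟨g0, hg0, hg0p⟩ := hfix
  obtain ⟨p2, hp2⟩ := exists_moves H g0 p
  have hp12 : p ≠ p2 := fun h => hg0p (by rw [← h] at hp2; exact hp2)
  -- the involution moving `p`
  set t2 := g0 * (t : Sz F e) * g0⁻¹ with ht2
  have ht2M : t2 ∈ M := M.mul_mem (M.mul_mem hg0 t.2) (M.inv_mem hg0)
  have ht22 : t2 * t2 = 1 := by rw [ht2, conj_mul, htt]; simp
  have ht2p : ¬ Moves H t2 p p := by
    intro h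
    have hcm : Moves H (t : Sz F e) (p2) (p2) → False := fun h' => hp12 ((hpu _ h').symm)
    obtain ⟨q, hq⟩ := exists_moves H g0⁻¹ p
    have h' : Moves H (t : Sz F e) q q := by
      rw [show (t : Sz F e) = g0⁻¹ * t2 * g0⁻¹⁻¹ by rw [ht2]; group]
      exact Moves.trans H (Moves.symm H hq) (Moves.trans H h hq)
    have hq' := hpu q h'
    rw [hq'] at hq
    exact hp12 (Moves.unique H (Moves.symm H hq) (by rwa [inv_inv]))
  obtain ⟨p3, hp3⟩ := exists_moves H t2 p
  have hp13 : p ≠ p3 := fun h => ht2p (by rw [← h] at hp3; exact hp3)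
  obtain ⟨k, hk1, hk2⟩ := exists_moves_pair H hp13
  -- move to the base points
  let M₁ : Subgroup (Sz F e) := M.map (MulAut.conj k⁻¹).toMonoidHom
  have hmem : ∀ g, g ∈ M₁ ↔ k * g * k⁻¹ ∈ M := fun g => by
    rw [show M₁ = M.map (MulAut.conj k⁻¹).toMonoidHom from rfl, Subgroup.mem_map_equiv,
      MulAut.conj_symm_apply, inv_inv]
  have ht' : k⁻¹ * (t : Sz F e) * k ∈ M₁ := (hmem _).2 (by simpa [mul_assoc] using t.2)
  have htfix : Moves H (k⁻¹ * (t : Sz F e) * k) none none := Moves.conj H hk1 hp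
  have htne : k⁻¹ * (t : Sz F e) * k ≠ 1 := fun h => ht1 (by
    have := congrArg (fun x => k * x * k⁻¹) h
    simpa [mul_assoc] using this)
  have httt : k⁻¹ * (t : Sz F e) * k * (k⁻¹ * (t : Sz F e) * k) = 1 := by
    rw [show k⁻¹ * (t : Sz F e) * k * (k⁻¹ * (t : Sz F e) * k) = k⁻¹ * ((t : Sz F e) * t) * k by group,
      htt]
    simp
  have hswap : ∃ u ∈ M₁, u * u = 1 ∧ Moves H u none (some (0, 0)) :=
    ⟨k⁻¹ * t2 * k, (hmem _).2 (by simpa [mul_assoc] using ht2M), by
      rw [show k⁻¹ * t2 * k * (k⁻¹ * t2 * k) = k⁻¹ * (t2 * t2) * k by group, ht22]; simp,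
      Moves.trans H hk1 (Moves.trans H hp3 (Moves.symm H hk2))⟩
  have huu : ∀ g, g ∈ uni H → g * g = 1 → ∃ b, g = sz H b := by
    rintro _ ⟨a, b, rfl⟩ h
    rw [su_mul, H.add_self, H.add_self, zero_add] at h
    have h0 := (su_inj H (h.trans (su_zero H).symm)).2
    have ha : a = 0 := by
      rcases mul_eq_zero.1 h0 with h | h
      · exact (pow_eq_zero_iff H.e_ne).1 h
      · exact h
    exact ⟨b, by rw [ha]⟩
  obtain ⟨b0, hb0⟩ : ∃ b, k⁻¹ * (t : Sz F e) * k = sz H b := by
    refine huu _ ?_ httt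
    obtain ⟨P, hP⟩ := exists_sylow_mem H hF (g := k⁻¹ * (t : Sz F e) * k)
      (by simp only [pow_succ, pow_zero, one_mul, httt])
    obtain ⟨l, hl⟩ := exists_sylow_conj_uni H hF P
    obtain ⟨q, hq⟩ := exists_moves H l none
    have hqfix := Moves.conj' H hq (borel_moves H (uni_le_borel H ((hl _).1 hP)))
    obtain ⟨p', -, hp'⟩ := exists_unique_fixed H hF (g := k⁻¹ * (t : Sz F e) * k)
      (by simp only [pow_succ, pow_zero, one_mul, httt]) htne
    obtain rfl : q = none := (hp' q hqfix).trans (hp' none htfix).symm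
    have hlb : l ∈ Subgroup.normalizer (uni H : Set (Sz F e)) := by
      rw [normalizer_uni]; exact mem_borel_of_moves H hq
    have h2 := (Subgroup.mem_normalizer_iff.1 hlb _).1 ((hl _).1 hP)
    simpa [mul_assoc] using h2
  have hb00 : b0 ≠ 0 := fun h => htne (by rw [hb0, h]; exact su_zero H)
  rw [hb0] at ht'
  by_cases hother : ∃ b, b ≠ 0 ∧ b ≠ b0 ∧ sz H b ∈ M₁
  · refine Or.inr (Or.inr ?_)
    have S₁ : MovedSetup H M₁ b0 := ⟨ht', hb00, hother, hswap⟩
    obtain ⟨htwo, hzval, htor, horb⟩ := movedFacts H hF M₁ S₁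
    obtain ⟨u, hu, huu', hum⟩ := hswap
    obtain ⟨d, hd⟩ := swap_form H huu' hum
    set c := ((d⁻¹ : Fˣ) : F) ^ (e + 2) * b0 with hc
    have hc0 : c ≠ 0 := mul_ne_zero (pow_ne_zero _ (Units.ne_zero _)) hb00
    set x := c / c ^ e with hx
    have hx0 : x ≠ 0 := div_ne_zero hc0 (pow_ne_zero _ hc0)
    have hp1 : Moves H (sz H b0) (some (0, 0)) (some (0, b0)) := by
      simpa [zero_pow H.e_ne] using su_moves H 0 b0 0 0
    have hp2' : Moves H (sh H d) (some (0, b0)) (some (0, c)) := by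
      have := toSL_sh_some H d 0 b0
      rw [mul_zero] at this
      exact this
    have hmv := Moves.trans H (Moves.trans H (Moves.trans H hum hp1) hp2') (sw_moves_vertical H hc0)
    have hxM : su H x 0 ∈ M₁ := horb _ (by
      rw [← mul_assoc, ← hd]
      exact M₁.mul_mem hu (M₁.mul_mem ht' hu)) _ _ hmv
    obtain ⟨s, hs⟩ := Finite.surjective_of_injective (f := fun y : Fˣ => y ^ e)
      (fun y z h => pow_e_inj H y z h) (Units.mk0 x hx0)
    have hsx : (s : F) ^ e = x := congrArg Units.val hs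
    let M₂ : Subgroup (Sz F e) := M₁.map (MulAut.conj (sh H s)).toMonoidHom
    have hmem2 : ∀ g, g ∈ M₂ ↔ (sh H s)⁻¹ * g * sh H s ∈ M₁ := fun g => by
      rw [show M₂ = M₁.map (MulAut.conj (sh H s)).toMonoidHom from rfl, Subgroup.mem_map_equiv,
        MulAut.conj_symm_apply]
    have hconj : ∀ a b, (sh H s)⁻¹ * su H a b * sh H s = su H ((s : F) ^ e * a) ((s : F) ^ (e + 2) * b) := by
      intro a b
      rw [mul_assoc, sh_conj, inv_mul_cancel_left]
    have h1M : su H (1 : F) 0 ∈ M₂ := by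
      rw [hmem2, hconj, mul_one, mul_zero, hsx]
      exact hxM
    have h1z : sz H (1 : F) ∈ M₂ := by
      have := M₂.mul_mem h1M h1M
      rwa [su_mul, H.add_self, H.add_self, zero_add, one_pow, one_mul] at this
    obtain ⟨b, hb, hb1, hbM⟩ : ∃ b, b ≠ 0 ∧ b ≠ 1 ∧ sz H b ∈ M₂ := by
      obtain ⟨b', hb', hbne, hbM'⟩ := hother
      have hfac : ∀ y, sz H ((((s : F) ^ (e + 2))⁻¹) * y) ∈ M₂ ↔ sz H y ∈ M₁ := fun y => by
        rw [hmem2, hconj, mul_zero, ← mul_assoc, mul_inv_cancel₀ (pow_ne_zero _ s.ne_zero), one_mul]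
      have hs0 : ((s : F) ^ (e + 2))⁻¹ ≠ 0 := inv_ne_zero (pow_ne_zero _ s.ne_zero)
      by_cases hb1 : ((s : F) ^ (e + 2))⁻¹ * b' = 1
      · refine ⟨_, mul_ne_zero hs0 hb00, fun h => hbne ?_, (hfac b0).2 ht'⟩
        exact mul_left_cancel₀ hs0 (hb1.trans h.symm)
      · exact ⟨_, mul_ne_zero hs0 hb', hb1, (hfac b').2 hbM'⟩
    have hswap2 : ∃ v ∈ M₂, v * v = 1 ∧ Moves H v none (some (0, 0)) := by
      refine ⟨sh H s * u * (sh H s)⁻¹, (hmem2 _).2 ?_, ?_, ?_⟩
      · simpa [mul_assoc] using hu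
      · rw [conj_mul, huu']; simp
      · exact Moves.trans H (Moves.symm H (toSL_sh_none H s))
          (Moves.trans H hum (sh_moves_zero H s))
    refine ⟨sh H s * k⁻¹, ?_⟩
    have hc : M.map (MulAut.conj (sh H s * k⁻¹)).toMonoidHom = M₂ := by
      show _ = (M.map (MulAut.conj k⁻¹).toMonoidHom).map (MulAut.conj (sh H s)).toMonoidHom
      rw [Subgroup.map_map, map_mul]
      rfl
    rw [hc]
    exact ⟨⟨h1z, one_ne_zero, ⟨b, hb, hb1, hbM⟩, hswap2⟩, h1M⟩
  · push Not at hother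
    obtain ⟨a, ha4, hle⟩ :=
      le_normalizer_of_unique_involution H hm hF he M₁ ht' hb00 hother hswap
    refine Or.inr (Or.inl (htorus (k * a * k⁻¹) (fun h => ha4 (by
      rw [conj_pow] at h; exact conj_eq_one_iff.1 h)) fun y hy => ?_))
    rw [centralizer_conj H, ← Subgroup.map_equiv_normalizer_eq, Subgroup.mem_map_equiv,
      MulAut.conj_symm_apply]
    exact hle ((hmem _).2 (by simpa [mul_assoc] using hy))

include hm hF he in
theorem subgroup_classification (M : Subgroup (Sz F e)) (hM : M ≠ ⊤) :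
    (∃ P : Sylow 2 (Sz F e), M ≤ Subgroup.normalizer ((P : Subgroup (Sz F e)) : Set (Sz F e))) ∨
    (∃ U : Subgroup (Sz F e), IsCyclic U ∧
      Nat.card U ∈ ({2 ^ (2 * m + 1) - 1, kp m, km m} : Set ℕ) ∧
      M ≤ Subgroup.normalizer (U : Set (Sz F e))) ∨
    (∃ k : ℕ, 1 ≤ k ∧ k < m ∧ 2 * k + 1 ∣ 2 * m + 1 ∧
      ∃ (K : Type) (_ : Field K) (_ : Fintype K), Fintype.card K = 2 ^ (2 * k + 1) ∧
        ∃ Sg : Subgroup (Sz F e), Nonempty (Sz K (2 ^ (k + 1)) ≃* Sg) ∧ M ≤ Sg) := by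
  rcases subgroup_cases H hm hF he M with h | h | ⟨c, hS, h1⟩
  · exact Or.inl h
  · exact Or.inr (Or.inl h)
  refine Or.inr (Or.inr ?_)
  set M₂ := M.map (MulAut.conj c).toMonoidHom
  have hM₂ : M₂ ≠ ⊤ := fun h => hM (by
    refine Subgroup.map_injective (f := (MulAut.conj c).toMonoidHom) (MulAut.conj c).injective ?_
    rw [Subgroup.map_top_of_surjective _ (MulAut.conj c).surjective]
    exact h)
  obtain ⟨k', h1', h2, h3, K, iK, iK', hK, Sg, ⟨f⟩, hle⟩ := le_subfield_group H hm hF he M₂ hM₂ hS h1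
  refine ⟨k', h1', h2, h3, K, iK, iK', hK, Sg.map (MulAut.conj c⁻¹).toMonoidHom,
    ⟨f.trans (Subgroup.equivMapOfInjective Sg (MulAut.conj c⁻¹).toMonoidHom (MulAut.conj c⁻¹).injective)⟩,
    fun g hg => ?_⟩
  refine ⟨c * g * c⁻¹, hle (Subgroup.mem_map_of_mem _ hg), ?_⟩
  show c⁻¹ * (c * g * c⁻¹) * c⁻¹⁻¹ = g
  group

end CfsgLib.KnownA.Suzuki
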