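import Cfsg.Agent.Lib.KnownA.Suzuki.Facts

/-!
The action of a Suzuki group on the cosets of a Sylow normaliser.
-/

set_option autoImplicit false

namespace CfsgLib.KnownA.Suzuki

open Matrix Cfsg.Lie MulAction

variable {F : Type*} [Field F] {e : ℕ} (H : TitsField F e)
include H

theorem mk_eq_iff {g k : Sz F e} :
    (g : Sz F e ⧸ borel H) = (k : Sz F e ⧸ borel H) ↔
      ∃ p, Moves H g none p ∧ Moves H k none p := by
  rw [QuotientGroup.eq]
  constructor
  · intro h
    obtain ⟨p, hp⟩ := exists_moves H g none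
    refine ⟨p, hp, ?_⟩
    simpa using Moves.trans H (borel_moves H h) hp
  · rintro ⟨p, hg, hk⟩
    exact mem_borel_of_moves H (Moves.trans H hk (Moves.symm H hg))

theorem two_pretransitive : IsMultiplyPretransitive (Sz F e) (Sz F e ⧸ borel H) 2 := by
  rw [is_two_pretransitive_iff]
  intro a b c d hab hcd
  induction a using QuotientGroup.induction_on with | H a => ?_
  induction b using QuotientGroup.induction_on with | H b => ?_
  induction c using QuotientGroup.induction_on with | H c => ?_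
  induction d using QuotientGroup.induction_on with | H d => ?_
  obtain ⟨pa, ha⟩ := exists_moves H a none
  obtain ⟨pb, hb⟩ := exists_moves H b none
  obtain ⟨pc, hc⟩ := exists_moves H c none
  obtain ⟨pd, hd⟩ := exists_moves H d none
  obtain ⟨g, g1, g2⟩ := exists_moves_pair H (p := pa) (p' := pb) fun e => hab
    ((mk_eq_iff H).2 ⟨pa, ha, e ▸ hb⟩)
  obtain ⟨k, k1, k2⟩ := exists_moves_pair H (p := pc) (p' := pd) fun e => hcd
    ((mk_eq_iff H).2 ⟨pc, hc, e ▸ hd⟩)
  exact ⟨k * g⁻¹,
    (mk_eq_iff H).2 ⟨pc, Moves.trans H ha (Moves.trans H (Moves.symm H g1) k1), hc⟩,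
    (mk_eq_iff H).2 ⟨pd, Moves.trans H hb (Moves.trans H (Moves.symm H g2) k2), hd⟩⟩

theorem regular (x y : Sz F e ⧸ borel H) (hx : x ≠ QuotientGroup.mk 1) (hy : y ≠ QuotientGroup.mk 1) :
    ∃! s : uni H, (s : Sz F e) • x = y := by
  induction x using QuotientGroup.induction_on with | H g => ?_
  induction y using QuotientGroup.induction_on with | H k => ?_
  have h1 : Moves H (1 : Sz F e) none none := borel_moves H (borel H).one_mem
  obtain ⟨p, hp⟩ := exists_moves H g none
  obtain ⟨p', hp'⟩ := exists_moves H k none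
  rcases p with _ | ⟨a, b⟩
  · exact absurd ((mk_eq_iff H).2 ⟨none, hp, h1⟩) hx
  rcases p' with _ | ⟨c, d⟩
  · exact absurd ((mk_eq_iff H).2 ⟨none, hp', h1⟩) hy
  refine ⟨⟨su H (c + a) (d + b + (c + a) ^ e * a), _, _, rfl⟩, ?_, ?_⟩
  · refine (mk_eq_iff H).2 ⟨some (c, d), ?_, hp'⟩
    have := Moves.trans H hp (su_moves H (c + a) (d + b + (c + a) ^ e * a) a b)
    have e1 : c + a + a = c := by linear_combination a * H.two
    have e2 : d + b + (c + a) ^ e * a + b + (c + a) ^ e * a = d := by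
      linear_combination (b + (c + a) ^ e * a) * H.two
    rwa [e1, e2] at this
  · rintro ⟨_, u, v, rfl⟩ hs
    obtain ⟨q, q1, q2⟩ := (mk_eq_iff H).1 hs
    obtain rfl := Moves.unique H hp' q2
    have := Moves.unique H (Moves.trans H hp (su_moves H u v a b)) q1
    simp only [Option.some.injEq, Prod.mk.injEq] at this
    obtain ⟨e1, e2⟩ := this
    have hu : u = c + a := by linear_combination e1 - a * H.two
    have hv : v = d + b + (c + a) ^ e * a := by
      rw [← hu]
      linear_combination e2 - (b + u ^ e * a) * H.two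
    simp only [hu, hv]

/-- Sylow normaliser, index, double transitivity and regularity. -/
theorem sylow_package [Fintype F] {m : ℕ} (hF : Fintype.card F = 2 ^ (2 * m + 1)) :
    ∃ S : Sylow 2 (Sz F e),
      Nat.card (Subgroup.normalizer ((S : Subgroup (Sz F e)) : Set (Sz F e))) =
        (2 ^ (2 * m + 1)) ^ 2 * (2 ^ (2 * m + 1) - 1) ∧
      (Subgroup.normalizer ((S : Subgroup (Sz F e)) : Set (Sz F e))).index = (2 ^ (2 * m + 1)) ^ 2 + 1 ∧
      IsMultiplyPretransitive (Sz F e) (Sz F e ⧸ Subgroup.normalizer ((S : Subgroup (Sz F e)) : Set (Sz F e))) 2 ∧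
      ∀ x y : Sz F e ⧸ Subgroup.normalizer ((S : Subgroup (Sz F e)) : Set (Sz F e)),
        x ≠ (QuotientGroup.mk 1) → y ≠ (QuotientGroup.mk 1) →
          ∃! s : ↥(S : Subgroup (Sz F e)), (s : Sz F e) • x = y := by
  refine ⟨uniSylow H hF, ?_⟩
  rw [coe_uniSylow, normalizer_uni]
  have hb : Nat.card (borel H) = (2 ^ (2 * m + 1)) ^ 2 * (2 ^ (2 * m + 1) - 1) := by
    rw [natCard_borel, Nat.card_eq_fintype_card, hF]
  refine ⟨hb, ?_, two_pretransitive H, regular H⟩
  have h1 := (borel H).card_mul_index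
  rw [hb, natCard_Sz H, hF, mul_comm ((2 ^ (2 * m + 1)) ^ 2 + 1)] at h1
  refine Nat.eq_of_mul_eq_mul_left ?_ h1
  have : 2 ≤ 2 ^ (2 * m + 1) := le_self_pow₀ one_le_two (by omega)
  exact Nat.mul_pos (by positivity) (by omega)

end CfsgLib.KnownA.Suzuki
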