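import Cfsg.Agent.Lib.KnownA.Suzuki.Fpf

/-!
Counting the fixed-point-free elements of a Suzuki group: the two classes of self-centralising
cyclic subgroups of orders `q ± r + 1`.
-/

set_option autoImplicit false

namespace CfsgLib.KnownA.Suzuki

open Matrix Cfsg.Lie Finset

variable {F : Type*} [Field F] {e : ℕ} (H : TitsField F e)
include H

variable [Fintype F] {m : ℕ} (hm : 1 ≤ m) (hF : Fintype.card F = 2 ^ (2 * m + 1))
  (he : e = 2 ^ (m + 1))

theorem natCard_fix (p : Option (F × F)) :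
    Nat.card {g : Sz F e // Moves H g p p} = Nat.card (borel H) := by
  have hk : Moves H (rep H p) none p := toSL_rep H p
  refine Nat.card_congr
    { toFun := fun g => ⟨(rep H p)⁻¹ * g.1 * rep H p, mem_borel_of_moves H (Moves.conj H hk g.2)⟩
      invFun := fun b => ⟨rep H p * b.1 * (rep H p)⁻¹,
        Moves.trans H (Moves.symm H hk) (Moves.trans H (borel_moves H b.2) hk)⟩
      left_inv := fun g => Subtype.ext (by group)
      right_inv := fun b => Subtype.ext (by group) }

theorem natCard_fix_two {p q : Option (F × F)} (h : p ≠ q) :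
    Nat.card {g : Sz F e // Moves H g p p ∧ Moves H g q q} = Fintype.card F - 1 := by
  rw [← Nat.card_eq_fintype_card, ← natCard_tor H]
  obtain ⟨k, hk1, hk2⟩ := exists_moves_pair H h
  refine Nat.card_congr
    { toFun := fun g => ⟨k⁻¹ * g.1 * k,
        exists_sh_of_moves H (Moves.conj H hk1 g.2.1) (Moves.conj H hk2 g.2.2)⟩
      invFun := fun b => ⟨k * b.1 * k⁻¹, ?_⟩
      left_inv := fun g => Subtype.ext (by group)
      right_inv := fun b => Subtype.ext (by group) }
  obtain ⟨t, ht⟩ := b.2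
  rw [ht]
  refine ⟨Moves.trans H (Moves.symm H hk1) (Moves.trans H (toSL_sh_none H t) hk1),
    Moves.trans H (Moves.symm H hk2) (Moves.trans H ?_ hk2)⟩
  have := toSL_sh_some H t 0 0
  simpa [Moves] using this

include hF in
/-- The number of fixed-point-free elements. -/
theorem natCard_fpf :
    2 * Nat.card {g : Sz F e // Fpf H g} =
      (2 ^ (2 * m + 1)) ^ 3 * (2 ^ (2 * m + 1) - 1) ^ 2 := by
  classical
  letI : Fintype (Sz F e) := Fintype.ofFinite _
  set q := 2 ^ (2 * m + 1) with hq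
  set n := Fintype.card (Option (F × F)) with hn
  have hnq : n = q ^ 2 + 1 := by rw [hn, Fintype.card_option, Fintype.card_prod, hF, sq]
  set f : Sz F e → ℕ := fun g => (univ.filter fun p => Moves H g p p).card with hf
  have hone : ∀ p : Option (F × F), Moves H (1 : Sz F e) p p := fun p =>
    show toSL H 1 • _ = _ by rw [map_one, one_smul]
  have h1 : ∑ g : Sz F e, f g = n * (q ^ 2 * (q - 1)) := by
    simp only [hf, Finset.card_filter]
    rw [Finset.sum_comm]
    refine (Finset.sum_const_nat fun p _ => ?_).trans (by rw [card_univ])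
    rw [← Finset.card_filter, ← Fintype.card_subtype, ← Nat.card_eq_fintype_card, natCard_fix H,
      natCard_borel, Nat.card_eq_fintype_card, hF]
  have h2 : ∑ g : Sz F e, f g * (f g - 1) = n * (n - 1) * (q - 1) := by
    have key : ∀ g : Sz F e, f g * (f g - 1) =
        ∑ x ∈ (univ : Finset (Option (F × F))).offDiag,
          (if Moves H g x.1 x.1 ∧ Moves H g x.2 x.2 then 1 else 0) := by
      intro g
      rw [← Finset.card_filter, Nat.mul_sub, mul_one, ← Finset.offDiag_card]
      congr 1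
      ext x
      simp [Finset.mem_offDiag]
      tauto
    simp only [key]
    rw [Finset.sum_comm]
    refine (Finset.sum_const_nat (m := q - 1) fun x hx => ?_).trans ?_
    · rw [← Finset.card_filter, ← Fintype.card_subtype, ← Nat.card_eq_fintype_card,
        natCard_fix_two H (Finset.mem_offDiag.1 hx).2.2, hF]
    · rw [Finset.offDiag_card, card_univ, ← hn]
      congr 1
      rw [Nat.mul_sub, mul_one]
  set R := (univ.filter fun g : Sz F e => f g = 0).card with hR
  set T₁ := (univ.filter fun g : Sz F e => g ≠ 1 ∧ f g = 1).card with hT₁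
  set T₂ := (univ.filter fun g : Sz F e => g ≠ 1 ∧ f g = 2).card with hT₂
  have hf2 : ∀ g : Sz F e, g ≠ 1 → f g ≤ 2 := by
    intro g hg
    by_contra hlt
    obtain ⟨a, b, c, ha, hb, hc, hab, hac, hbc⟩ := Finset.two_lt_card_iff.1 (not_le.1 hlt)
    exact hg (eq_one_of_three H hab hbc hac (mem_filter.1 ha).2 (mem_filter.1 hb).2 (mem_filter.1 hc).2)
  have hf1 : f 1 = n := by
    simp only [hf]
    rw [Finset.filter_true_of_mem fun p _ => hone p, card_univ]
  have hn0 : n ≠ 0 := by omega
  have hn1 : n ≠ 1 := by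
    have : 0 < q ^ 2 := by positivity
    omega
  have hn2 : n ≠ 2 := by
    have : 2 ^ 2 ≤ q ^ 2 := Nat.pow_le_pow_left (le_self_pow₀ one_le_two (by omega)) 2
    omega
  have expand : ∀ φ : ℕ → ℕ, ∑ g : Sz F e, φ (f g) = φ n + R * φ 0 + T₁ * φ 1 + T₂ * φ 2 := by
    intro φ
    have hsplit : ∀ g : Sz F e, φ (f g) = (if g = 1 then φ n else 0) + (if f g = 0 then φ 0 else 0) +
        (if g ≠ 1 ∧ f g = 1 then φ 1 else 0) + (if g ≠ 1 ∧ f g = 2 then φ 2 else 0) := by
      intro g
      by_cases hg : g = 1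
      · subst hg
        simp [hf1, hn0]
      · have := hf2 g hg
        rcases (by omega : f g = 0 ∨ f g = 1 ∨ f g = 2) with h | h | h <;> simp [h, hg]
    simp only [hsplit, sum_add_distrib, sum_ite_eq', mem_univ, if_true, ← Finset.sum_filter,
      sum_const, smul_eq_mul, hR, hT₁, hT₂]
  have hG : n * (q ^ 2 * (q - 1)) = 1 + R + T₁ + T₂ := by
    have h := expand fun _ => 1
    simp only [Finset.sum_const, card_univ, smul_eq_mul, mul_one] at h
    rw [← h, ← Nat.card_eq_fintype_card, natCard_Sz H, hF, hnq]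
  have hA : n * (q ^ 2 * (q - 1)) = n + T₁ + 2 * T₂ := by
    have h := expand fun x => x
    rw [h1] at h
    rw [h]; ring
  have hB : n * (n - 1) * (q - 1) = n * (n - 1) + 2 * T₂ := by
    have h := expand fun x => x * (x - 1)
    rw [h2] at h
    rw [h]; ring
  have hRS : Nat.card {g : Sz F e // Fpf H g} = R := by
    rw [Nat.card_eq_fintype_card, Fintype.card_subtype, hR]
    congr 1
    ext g
    simp only [Finset.mem_filter, hf, Finset.card_eq_zero, Finset.filter_eq_empty_iff, Finset.mem_univ,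
      true_and, true_implies]
    exact ⟨fun h p => h p, fun h p => @h p⟩
  rw [hRS]
  obtain ⟨d, hd⟩ : ∃ d, q = d + 1 := ⟨q - 1, by have : 1 ≤ q := Nat.one_le_two_pow; omega⟩
  rw [hnq, hd] at hG hA hB
  simp only [Nat.add_sub_cancel] at hG hA hB
  rw [hd, Nat.add_sub_cancel]
  zify at hG hA hB ⊢
  linear_combination (-2 : ℤ) * hG + 2 * hA - hB

include hF hm in
theorem fpf_of_coprime {x : Sz F e} (hx : x ≠ 1) (hodd : Odd (orderOf x))
    (hco : Nat.Coprime (orderOf x) (2 ^ (2 * m + 1) - 1)) : Fpf H x := by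
  intro p hp
  apply hx
  rw [← orderOf_eq_one_iff]
  by_cases hu : ∀ r, Moves H x r r → r = p
  · have h4 := orderOf_dvd_of_pow_eq_one (pow_four_of_unique H hp hu)
    have h2 : Nat.Coprime (orderOf x) 4 := Nat.Coprime.pow_right 2 (Nat.coprime_two_right.2 hodd)
    exact Nat.eq_one_of_dvd_coprimes h2 dvd_rfl h4
  · push Not at hu
    obtain ⟨r, hr, hne⟩ := hu
    have h1 := orderOf_dvd_of_pow_eq_one (pow_card_sub_one_of_two H hne hr hp)
    rw [Nat.card_eq_fintype_card, hF] at h1
    exact Nat.eq_one_of_dvd_coprimes hco dvd_rfl h1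

include hF in
theorem centralizer_eq_of_mem {g x : Sz F e} (hg : Fpf H g)
    (hx : x ∈ Subgroup.centralizer ({g} : Set (Sz F e))) (hx1 : x ≠ 1) :
    Subgroup.centralizer ({x} : Set (Sz F e)) = Subgroup.centralizer ({g} : Set (Sz F e)) := by
  have hxg : g * x = x * g := (Subgroup.mem_centralizer_singleton_iff.1 hx).symm
  have hxf := fpf_of_commute H hF hg hxg hx1
  haveI := isCyclic_centralizer H (fpf_pow_four H hF hg)
  haveI := isCyclic_centralizer H (fpf_pow_four H hF hxf)
  apply le_antisymm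
  · intro y hy
    have := (IsCyclic.commGroup (α := Subgroup.centralizer ({x} : Set (Sz F e)))).mul_comm
      ⟨y, hy⟩ ⟨g, Subgroup.mem_centralizer_singleton_iff.2 hxg⟩
    exact Subgroup.mem_centralizer_singleton_iff.2 (congrArg Subtype.val this)
  · intro y hy
    have := (IsCyclic.commGroup (α := Subgroup.centralizer ({g} : Set (Sz F e)))).mul_comm
      ⟨y, hy⟩ ⟨x, hx⟩
    exact Subgroup.mem_centralizer_singleton_iff.2 (congrArg Subtype.val this)

theorem centralizer_conj (k g : Sz F e) :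
    Subgroup.centralizer ({k * g * k⁻¹} : Set (Sz F e)) =
      (Subgroup.centralizer ({g} : Set (Sz F e))).map (MulAut.conj k).toMonoidHom := by
  ext y
  rw [Subgroup.mem_map_equiv, Subgroup.mem_centralizer_singleton_iff,
    Subgroup.mem_centralizer_singleton_iff, ← (MulAut.conj k).injective.eq_iff (a := _ * g)]
  simp only [map_mul, MulEquiv.apply_symm_apply, MulAut.conj_apply]

theorem fpf_conj {g : Sz F e} (hg : Fpf H g) (k : Sz F e) : Fpf H (k * g * k⁻¹) := by
  intro p hp
  obtain ⟨r, hr⟩ := exists_moves H k⁻¹ p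
  refine hg r ?_
  have hr' : Moves H k r p := by simpa using Moves.symm H hr
  simpa [mul_assoc] using Moves.conj H hr' hp

/-- The fixed-point-free elements whose centraliser is conjugate to `C`. -/
def cls (C : Subgroup (Sz F e)) : Set (Sz F e) :=
  {y | Fpf H y ∧ ∃ k : Sz F e, Subgroup.centralizer ({y} : Set (Sz F e)) = C.map (MulAut.conj k).toMonoidHom}

include hF in
theorem natCard_cls {g : Sz F e} (hg : Fpf H g) :
    Nat.card (cls H (Subgroup.centralizer ({g} : Set (Sz F e)))) *
      Nat.card (Subgroup.normalizer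
        ((Subgroup.centralizer ({g} : Set (Sz F e)) : Subgroup (Sz F e)) : Set (Sz F e))) =
      Nat.card (Sz F e) * (Nat.card (Subgroup.centralizer ({g} : Set (Sz F e))) - 1) := by
  classical
  set C := Subgroup.centralizer ({g} : Set (Sz F e)) with hC
  set N := Subgroup.normalizer (C : Set (Sz F e)) with hN
  have hx : ∀ y : cls H C, ∃ k : Sz F e, C.map (MulAut.conj k).toMonoidHom =
      Subgroup.centralizer ({(y : Sz F e)} : Set (Sz F e)) ∧ k⁻¹ * y * k ∈ C := fun y => by
    obtain ⟨k, hk⟩ := y.2.2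
    refine ⟨k, hk.symm, ?_⟩
    have : (y : Sz F e) ∈ C.map (MulAut.conj k).toMonoidHom :=
      hk ▸ Subgroup.mem_centralizer_singleton_iff.2 rfl
    rw [Subgroup.mem_map_equiv] at this
    simpa [mul_assoc] using this
  choose n hn hnx using hx
  have hne : ∀ y : cls H C, (y : Sz F e) ≠ 1 := fun y h => y.2.1 none (h ▸ borel_moves H (borel H).one_mem)
  let Φ : cls H C × N → Sz F e × {x : C // x ≠ 1} := fun p =>
    (n p.1 * p.2, ⟨⟨(p.2 : Sz F e)⁻¹ * ((n p.1)⁻¹ * p.1 * n p.1) * p.2, by
      have := (Subgroup.mem_normalizer_iff.1 (N.inv_mem p.2.2) _).1 (hnx p.1)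
      simpa using this⟩, fun h => hne p.1 (by
        have h1 : (p.2 : Sz F e)⁻¹ * ((n p.1)⁻¹ * p.1 * n p.1) * p.2 = 1 := congrArg Subtype.val h
        have h2 := congrArg (fun z => n p.1 * (p.2 * z * (p.2 : Sz F e)⁻¹) * (n p.1)⁻¹) h1
        simpa [mul_assoc] using h2)⟩)
  have hbij : Function.Bijective Φ := by
    constructor
    · rintro ⟨y, j⟩ ⟨y', j'⟩ h
      simp only [Φ, Prod.mk.injEq, Subtype.mk.injEq] at h
      obtain ⟨h1, h2⟩ := h
      have hy : y = y' := by
        apply Subtype.ext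
        have h3 := congrArg (fun z => (n y * j) * z * (n y * j)⁻¹) h2
        nth_rewrite 3 [h1] at h3
        nth_rewrite 3 [h1] at h3
        simpa [mul_assoc] using h3
      subst hy
      exact Prod.ext rfl (Subtype.ext (mul_left_cancel h1))
    · rintro ⟨k, x, hx1⟩
      have hx1' : (x : Sz F e) ≠ 1 := fun h => hx1 (Subtype.ext h)
      have hxC := centralizer_eq_of_mem H hF hg x.2 hx1'
      have hxf := fpf_of_commute H hF hg (Subgroup.mem_centralizer_singleton_iff.1 x.2).symm hx1'
      have hyC : Subgroup.centralizer ({k * x * k⁻¹} : Set (Sz F e)) =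
          C.map (MulAut.conj k).toMonoidHom := by rw [centralizer_conj H, hxC]
      let y : cls H C := ⟨k * x * k⁻¹, fpf_conj H hxf k, k, hyC⟩
      have hj : (n y)⁻¹ * k ∈ N := by
        rw [hN, Subgroup.mem_normalizer_iff]
        intro c
        have h3 := congrArg (fun D : Subgroup (Sz F e) => k * c * k⁻¹ ∈ D) ((hn y).trans hyC)
        simp only [Subgroup.mem_map_equiv, MulAut.conj_symm_apply] at h3
        constructor
        · intro hc
          have h4 : (n y)⁻¹ * (k * c * k⁻¹) * n y ∈ C := h3.mpr (by simpa [mul_assoc] using hc)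
          simpa [mul_assoc] using h4
        · intro hc
          have h4 := h3.mp (by simpa [mul_assoc] using hc)
          simpa [mul_assoc] using h4
      refine ⟨(y, ⟨(n y)⁻¹ * k, hj⟩), ?_⟩
      simp only [Φ, Prod.mk.injEq]
      refine ⟨by group, Subtype.ext (Subtype.ext ?_)⟩
      show ((n y)⁻¹ * k)⁻¹ * ((n y)⁻¹ * (k * x * k⁻¹) * n y) * ((n y)⁻¹ * k) = x
      group
  have h := Nat.card_eq_of_bijective Φ hbij
  rw [Nat.card_prod, Nat.card_prod] at h
  rw [h]
  congr 1
  letI := Fintype.ofFinite C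
  rw [Nat.card_eq_fintype_card, Nat.card_eq_fintype_card, Fintype.card_subtype_compl]
  simp

include hm hF he in
theorem natCard_centralizer_dvd {g : Sz F e} (hg : Fpf H g) :
    (Nat.card (Subgroup.centralizer ({g} : Set (Sz F e))) ∣ kp m ∨
      Nat.card (Subgroup.centralizer ({g} : Set (Sz F e))) ∣ km m) ∧
    3 ≤ Nat.card (Subgroup.centralizer ({g} : Set (Sz F e))) := by
  haveI := isCyclic_centralizer H (fpf_pow_four H hF hg)
  obtain ⟨y, hy⟩ := IsCyclic.exists_generator (α := Subgroup.centralizer ({g} : Set (Sz F e)))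
  have hy' : orderOf (y : Sz F e) = Nat.card (Subgroup.centralizer ({g} : Set (Sz F e))) := by
    rw [Subgroup.orderOf_coe]
    exact orderOf_eq_card_of_forall_mem_zpowers hy
  have hg1 : g ≠ 1 := fun h => hg none (h ▸ borel_moves H (borel H).one_mem)
  have hy1 : (y : Sz F e) ≠ 1 := by
    intro h
    obtain ⟨i, hi⟩ := Subgroup.mem_zpowers_iff.1 (hy ⟨g, Subgroup.mem_centralizer_singleton_iff.2 rfl⟩)
    exact hg1 (by simpa [h] using (congrArg Subtype.val hi).symm)
  have hyf := fpf_of_commute H hF hg (Subgroup.mem_centralizer_singleton_iff.1 y.2).symm hy1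
  refine ⟨hy' ▸ orderOf_fpf H hm hF he hyf, ?_⟩
  rw [← hy']
  obtain ⟨j, hj⟩ := odd_orderOf_fpf H hF hyf
  have : orderOf (y : Sz F e) ≠ 1 := fun h => hy1 (orderOf_eq_one_iff.1 h)
  omega

include hm hF in
/-- Sylow subgroups for primes dividing `q ^ 2 + 1` lie in centralisers. -/
theorem exists_sylow_le {g : Sz F e} (hg : Fpf H g) {p : ℕ} [hp : Fact p.Prime]
    (hpc : p ∣ Nat.card (Subgroup.centralizer ({g} : Set (Sz F e)))) :
    ∃ P : Sylow p (Sz F e), (P : Subgroup (Sz F e)) ≤ Subgroup.centralizer ({g} : Set (Sz F e)) := by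
  obtain ⟨x, hx⟩ := exists_prime_orderOf_dvd_card' p hpc
  have hx' : orderOf (x : Sz F e) = p := by rw [Subgroup.orderOf_coe, hx]
  have hx1 : (x : Sz F e) ≠ 1 := fun h => hp.out.ne_one (by rw [← hx', h, orderOf_one])
  have hxf := fpf_of_commute H hF hg (Subgroup.mem_centralizer_singleton_iff.1 x.2).symm hx1
  obtain ⟨P, hP⟩ := (IsPGroup.of_card (n := 1) (G := Subgroup.zpowers (x : Sz F e))
    (by rw [Nat.card_zpowers, hx', pow_one])).exists_le_sylow
  have hxP : (x : Sz F e) ∈ (P : Subgroup (Sz F e)) := hP (Subgroup.mem_zpowers _)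
  haveI : Nontrivial P := ⟨⟨⟨x, hxP⟩, 1, fun h => hx1 (congrArg Subtype.val h)⟩⟩
  haveI := P.2.center_nontrivial
  obtain ⟨z, hz⟩ := exists_ne (1 : Subgroup.center P)
  have hz1 : ((z : P) : Sz F e) ≠ 1 := fun h => hz (Subtype.ext (Subtype.ext h))
  have hzx : (x : Sz F e) * z = z * x :=
    congrArg Subtype.val (Subgroup.mem_center_iff.1 z.2 ⟨x, hxP⟩)
  have hzf := fpf_of_commute H hF hxf hzx hz1
  refine ⟨P, fun u hu => ?_⟩
  have huz : u ∈ Subgroup.centralizer ({((z : P) : Sz F e)} : Set (Sz F e)) :=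
    Subgroup.mem_centralizer_singleton_iff.2 (congrArg Subtype.val (Subgroup.mem_center_iff.1 z.2 ⟨u, hu⟩))
  rw [centralizer_eq_of_mem H hF hxf (Subgroup.mem_centralizer_singleton_iff.2 hzx.symm) hz1,
    centralizer_eq_of_mem H hF hg x.2 hx1] at huz
  exact huz

omit H in
theorem kp_coprime_km (m : ℕ) : Nat.Coprime (kp m) (km m) := by
  refine Nat.coprime_of_dvd fun p hp h1 h2 => ?_
  have h3 : p ∣ 2 * 2 ^ (m + 1) := by
    have := Nat.dvd_sub h1 h2
    have e1 : kp m - km m = 2 * 2 ^ (m + 1) := by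
      have := pow_succ_le m
      simp only [kp, km]
      omega
    rwa [e1] at this
  rw [← pow_succ'] at h3
  have hp2 := (Nat.prime_dvd_prime_iff_eq hp Nat.prime_two).1 (hp.dvd_of_dvd_pow h3)
  subst hp2
  simp only [kp, Nat.two_pow_pos] at h1
  have h4 : 2 ∣ 2 ^ (2 * m + 1) + 2 ^ (m + 1) :=
    dvd_add (dvd_pow_self 2 (by omega)) (dvd_pow_self 2 (by omega))
  have := (Nat.dvd_add_right h4).1 h1
  omega

include hm hF in
theorem exists_fpf_of_prime {p : ℕ} (hp : p.Prime) (hpn : p ∣ (2 ^ (2 * m + 1)) ^ 2 + 1) :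
    ∃ x : Sz F e, orderOf x = p ∧ Fpf H x := by
  haveI := Fact.mk hp
  have hG : p ∣ Nat.card (Sz F e) := by
    rw [natCard_Sz H, hF]
    exact hpn.mul_right _
  obtain ⟨x, hx⟩ := exists_prime_orderOf_dvd_card' p hG
  refine ⟨x, hx, ?_⟩
  set q := 2 ^ (2 * m + 1) with hq
  have hp2 : p ≠ 2 := by
    rintro rfl
    have : 2 ∣ q ^ 2 := dvd_pow (hq ▸ dvd_pow_self 2 (by omega)) two_ne_zero
    have := (Nat.dvd_add_right this).1 hpn
    omega
  refine fpf_of_coprime H hm hF (fun h => hp.ne_one (by rw [← hx, h, orderOf_one]))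
    (hx ▸ hp.odd_of_ne_two hp2) (hx ▸ ?_)
  rw [Nat.Prime.coprime_iff_not_dvd hp]
  intro h
  have h1 : q ^ 2 + 1 = (q - 1) * (q + 1) + 2 := by
    obtain ⟨d, hd⟩ : ∃ d, q = d + 1 := ⟨q - 1, by have : 1 ≤ q := Nat.one_le_two_pow; omega⟩
    rw [hd, Nat.add_sub_cancel]
    ring
  rw [h1] at hpn
  exact hp2 ((Nat.prime_dvd_prime_iff_eq hp Nat.prime_two).1
    ((Nat.dvd_add_right (h.mul_right _)).1 hpn))

include hm hF in
theorem cls_disjoint_card {g g' : Sz F e}
    (hne : Nat.card (Subgroup.centralizer ({g} : Set (Sz F e))) ≠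
      Nat.card (Subgroup.centralizer ({g'} : Set (Sz F e)))) :
    Disjoint (cls H (Subgroup.centralizer ({g} : Set (Sz F e))))
      (cls H (Subgroup.centralizer ({g'} : Set (Sz F e)))) := by
  rw [Set.disjoint_left]
  rintro y ⟨-, k, hk⟩ ⟨-, k', hk'⟩
  apply hne
  have h1 := congrArg (fun D : Subgroup (Sz F e) => Nat.card D) (hk.symm.trans hk')
  simp only [Subgroup.card_map_of_injective (f := (MulAut.conj k).toMonoidHom) (MulAut.conj k).injective,
    Subgroup.card_map_of_injective (f := (MulAut.conj k').toMonoidHom) (MulAut.conj k').injective] at h1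
  exact h1

theorem two_le_pow (m : ℕ) : 2 ≤ 2 ^ (2 * m + 1) := le_self_pow₀ one_le_two (by omega)

include hm in
theorem one_lt_km : 1 < km m := by
  have h1 : 2 ^ (m + 1) < 2 ^ (2 * m + 1) := Nat.pow_lt_pow_right one_lt_two (by omega)
  simp only [km]
  omega

theorem one_lt_kp (m : ℕ) : 1 < kp m := by
  have := two_le_pow H m
  have := Nat.two_pow_pos (m + 1)
  simp only [kp]
  omega

include hm hF in
/-- There are not three classes. -/
theorem not_three_classes (he : e = 2 ^ (m + 1)) {x y z : Sz F e} (hx : Fpf H x) (hy : Fpf H y)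
    (hz : Fpf H z)
    (hxy : Nat.card (Subgroup.centralizer ({x} : Set (Sz F e))) ≠
      Nat.card (Subgroup.centralizer ({y} : Set (Sz F e))))
    (hxz : Nat.card (Subgroup.centralizer ({x} : Set (Sz F e))) ≠
      Nat.card (Subgroup.centralizer ({z} : Set (Sz F e))))
    (hyz : Nat.card (Subgroup.centralizer ({y} : Set (Sz F e))) ≠
      Nat.card (Subgroup.centralizer ({z} : Set (Sz F e)))) : False := by
  classical
  set G := Nat.card (Sz F e) with hGdef
  set q := 2 ^ (2 * m + 1) with hq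
  have hw : ∀ u : Sz F e, Fpf H u →
      G ≤ 6 * Nat.card (cls H (Subgroup.centralizer ({u} : Set (Sz F e)))) := by
    intro u hu
    have h1 := natCard_cls H hF hu
    have h2 := natCard_normalizer_le H hF hu
    have h3 := (natCard_centralizer_dvd H hm hF he hu).2
    set c := Nat.card (Subgroup.centralizer ({u} : Set (Sz F e)))
    set w := Nat.card (cls H (Subgroup.centralizer ({u} : Set (Sz F e))))
    have h4 : G * (c - 1) ≤ w * (4 * c) := h1 ▸ Nat.mul_le_mul_left w h2
    refine Nat.le_of_mul_le_mul_left ?_ (show 0 < 2 * c by omega)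
    calc 2 * c * G ≤ 3 * (c - 1) * G := Nat.mul_le_mul_right G (by omega)
      _ = 3 * (G * (c - 1)) := by ring
      _ ≤ 3 * (w * (4 * c)) := Nat.mul_le_mul_left 3 h4
      _ = 2 * c * (6 * w) := by ring
  have hsum : Nat.card (cls H (Subgroup.centralizer ({x} : Set (Sz F e)))) +
      Nat.card (cls H (Subgroup.centralizer ({y} : Set (Sz F e)))) +
      Nat.card (cls H (Subgroup.centralizer ({z} : Set (Sz F e)))) ≤
      Nat.card {g : Sz F e // Fpf H g} := by
    rw [Nat.card_coe_set_eq, Nat.card_coe_set_eq, Nat.card_coe_set_eq,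
      ← Set.ncard_union_eq (cls_disjoint_card H hm hF hxy),
      ← Set.ncard_union_eq (Set.disjoint_union_left.2
        ⟨cls_disjoint_card H hm hF hxz, cls_disjoint_card H hm hF hyz⟩)]
    rw [show Nat.card {g : Sz F e // Fpf H g} = Set.ncard {g : Sz F e | Fpf H g} from
      Nat.card_coe_set_eq _]
    exact Set.ncard_le_ncard (by rintro u ((h | h) | h) <;> exact h.1)
  have hR := natCard_fpf H hF
  rw [← hq] at hR
  have hlt : q ^ 3 * (q - 1) ^ 2 < G := by
    rw [hGdef, natCard_Sz H, hF]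
    obtain ⟨d, hd⟩ : ∃ d, q = d + 2 := ⟨q - 2, by have := two_le_pow H m; omega⟩
    rw [hd, show d + 2 - 1 = d + 1 by omega]
    calc (d + 2) ^ 3 * (d + 1) ^ 2 = ((d + 2) * (d + 1)) * ((d + 2) ^ 2 * (d + 1)) := by ring
      _ < ((d + 2) ^ 2 + 1) * ((d + 2) ^ 2 * (d + 1)) := by
          refine Nat.mul_lt_mul_of_pos_right ?_ (by positivity)
          nlinarith
  have := hw x hx
  have := hw y hy
  have := hw z hz
  omega

include hm hF he in
theorem natCard_centralizer_eq {g : Sz F e} (hg : Fpf H g) :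
    Nat.card (Subgroup.centralizer ({g} : Set (Sz F e))) = kp m ∨
      Nat.card (Subgroup.centralizer ({g} : Set (Sz F e))) = km m := by
  have hn := kp_mul_km m
  set c := Nat.card (Subgroup.centralizer ({g} : Set (Sz F e))) with hc
  have key : ∀ a b : ℕ, a * b = (2 ^ (2 * m + 1)) ^ 2 + 1 → Nat.Coprime a b → 1 < b → c ∣ a →
      (∀ x : Sz F e, Fpf H x → Nat.card (Subgroup.centralizer ({x} : Set (Sz F e))) ∣ a ∨
        Nat.card (Subgroup.centralizer ({x} : Set (Sz F e))) ∣ b) → c = a := by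
    intro a b hab hcop hb hca hall
    by_contra hne
    obtain ⟨d, hd⟩ := hca
    have hd1 : d ≠ 1 := fun h => hne (by rw [hd, h, mul_one])
    obtain ⟨p, hp, hpd⟩ := Nat.exists_prime_and_dvd hd1
    haveI := Fact.mk hp
    have hpc : ¬ p ∣ c := by
      intro hpc
      obtain ⟨P, hP⟩ := exists_sylow_le H hm hF hg (hc ▸ hpc)
      have h1 : Nat.card (P : Subgroup (Sz F e)) * p ∣ Nat.card (Sz F e) := by
        rw [natCard_Sz H, hF]
        refine Dvd.dvd.mul_right ?_ _
        rw [← hab, hd, mul_assoc]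
        exact mul_dvd_mul (hc ▸ Subgroup.card_dvd_of_le hP) (hpd.mul_right b)
      have h2 := P.not_dvd_index
      apply h2
      rw [← Subgroup.card_mul_index (P : Subgroup (Sz F e))] at h1
      exact Nat.dvd_of_mul_dvd_mul_left Nat.card_pos h1
    have hpa : p ∣ a := hd ▸ hpd.mul_left c
    obtain ⟨x, hx, hxf⟩ := exists_fpf_of_prime H hm hF hp (hab ▸ hpa.mul_right b)
    obtain ⟨r, hr, hrb⟩ := Nat.exists_prime_and_dvd (show b ≠ 1 by omega)
    obtain ⟨z, hz, hzf⟩ := exists_fpf_of_prime H hm hF hr (hab ▸ hrb.mul_left a)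
    have hmem : ∀ u : Sz F e, orderOf u ∣ Nat.card (Subgroup.centralizer ({u} : Set (Sz F e))) := fun u =>
      Subgroup.orderOf_dvd_natCard _ (Subgroup.mem_centralizer_singleton_iff.2 rfl)
    have hpx := hx ▸ hmem x
    have hrz := hz ▸ hmem z
    have hra : ¬ r ∣ a := fun h => hr.ne_one (Nat.eq_one_of_dvd_coprimes hcop h hrb)
    refine not_three_classes H hm hF he hg hxf hzf (fun h => hpc (by rw [hc, h]; exact hpx))
      (fun h => hra (dvd_trans hrz (h ▸ ⟨d, hd⟩))) fun h => ?_
    rcases hall x hxf with h1 | h1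
    · exact hra ((h ▸ hrz).trans h1)
    · exact hp.ne_one (Nat.eq_one_of_dvd_coprimes hcop hpa (hpx.trans h1))
  rcases (natCard_centralizer_dvd H hm hF he hg).1 with h | h
  · exact Or.inl (key _ _ hn (kp_coprime_km m) (one_lt_km H hm) h
      fun x hx => (natCard_centralizer_dvd H hm hF he hx).1)
  · exact Or.inr (key _ _ (by rw [mul_comm]; exact hn) (kp_coprime_km m).symm (one_lt_kp H m) h
      fun x hx => ((natCard_centralizer_dvd H hm hF he hx).1).symm)

include hm hF he in
/-- Both orders occur. -/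
theorem exists_centralizer_card {k : ℕ} (hk : k = kp m ∨ k = km m) :
    ∃ g : Sz F e, Fpf H g ∧ Nat.card (Subgroup.centralizer ({g} : Set (Sz F e))) = k := by
  have hk1 : k ≠ 1 := by
    rcases hk with rfl | rfl
    · exact (one_lt_kp H m).ne'
    · exact (one_lt_km H hm).ne'
  obtain ⟨p, hp, hpk⟩ := Nat.exists_prime_and_dvd hk1
  have hkn : k ∣ (2 ^ (2 * m + 1)) ^ 2 + 1 := by
    rw [← kp_mul_km m]
    rcases hk with rfl | rfl
    · exact dvd_mul_right _ _
    · exact dvd_mul_left _ _
  obtain ⟨x, hx, hxf⟩ := exists_fpf_of_prime H hm hF hp (hpk.trans hkn)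
  refine ⟨x, hxf, ?_⟩
  have hd : p ∣ Nat.card (Subgroup.centralizer ({x} : Set (Sz F e))) :=
    hx ▸ Subgroup.orderOf_dvd_natCard _ (Subgroup.mem_centralizer_singleton_iff.2 rfl)
  rcases natCard_centralizer_eq H hm hF he hxf with h | h <;> rcases hk with rfl | rfl
  · exact h
  · exact absurd (Nat.eq_one_of_dvd_coprimes (kp_coprime_km m) (h ▸ hd) hpk) hp.ne_one
  · exact absurd (Nat.eq_one_of_dvd_coprimes (kp_coprime_km m) hpk (h ▸ hd)) hp.ne_one
  · exact h

include hm hF in
/-- Centralisers of equal order are conjugate. -/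
theorem exists_conj_centralizer {g g' : Sz F e} (hg : Fpf H g) (hg' : Fpf H g')
    (hcard : Nat.card (Subgroup.centralizer ({g} : Set (Sz F e))) =
      Nat.card (Subgroup.centralizer ({g'} : Set (Sz F e)))) :
    ∃ k : Sz F e, Subgroup.centralizer ({g'} : Set (Sz F e)) =
      (Subgroup.centralizer ({g} : Set (Sz F e))).map (MulAut.conj k).toMonoidHom := by
  have hg1 : g ≠ 1 := fun h => hg none (h ▸ borel_moves H (borel H).one_mem)
  have hne : Nat.card (Subgroup.centralizer ({g} : Set (Sz F e))) ≠ 1 := by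
    intro h
    have hbot := Subgroup.eq_bot_of_card_eq _ h
    exact hg1 ((Subgroup.mem_bot).1 (hbot ▸ Subgroup.mem_centralizer_singleton_iff.2 rfl))
  obtain ⟨p, hp, hpc⟩ := Nat.exists_prime_and_dvd hne
  haveI := Fact.mk hp
  obtain ⟨P, hP⟩ := exists_sylow_le H hm hF hg hpc
  obtain ⟨Q, hQ⟩ := exists_sylow_le H hm hF hg' (hcard ▸ hpc)
  obtain ⟨k, hk⟩ := MulAction.exists_smul_eq (Sz F e) P Q
  have hPne : (P : Subgroup (Sz F e)) ≠ ⊥ := P.ne_bot_of_dvd_card (hpc.trans (Subgroup.card_subgroup_dvd_card _))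
  obtain ⟨x, hxP, hx1⟩ : ∃ x ∈ (P : Subgroup (Sz F e)), x ≠ 1 := by
    by_contra hc
    push Not at hc
    exact hPne ((Subgroup.eq_bot_iff_forall _).2 hc)
  have hxQ : k * x * k⁻¹ ∈ (Q : Subgroup (Sz F e)) := by
    rw [← hk]
    exact ⟨x, hxP, rfl⟩
  refine ⟨k, ?_⟩
  rw [← centralizer_eq_of_mem H hF hg (hP hxP) hx1, ← centralizer_conj H,
    centralizer_eq_of_mem H hF hg' (hQ hxQ) fun h => hx1 (conj_eq_one_iff.1 h)]

include hm hF he in
/-- The normaliser has exactly four times the order. -/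
theorem natCard_normalizer {g : Sz F e} (hg : Fpf H g) :
    Nat.card (Subgroup.normalizer
      ((Subgroup.centralizer ({g} : Set (Sz F e)) : Subgroup (Sz F e)) : Set (Sz F e))) =
      4 * Nat.card (Subgroup.centralizer ({g} : Set (Sz F e))) := by
  classical
  obtain ⟨a, ha, hca⟩ := exists_centralizer_card H hm hF he (k := kp m) (Or.inl rfl)
  obtain ⟨b, hb, hcb⟩ := exists_centralizer_card H hm hF he (k := km m) (Or.inr rfl)
  have hne : kp m ≠ km m := fun h => by
    have hc := kp_coprime_km m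
    rw [h, Nat.coprime_self] at hc
    exact (one_lt_km H hm).ne' hc
  have hcover : cls H (Subgroup.centralizer ({a} : Set (Sz F e))) ∪
      cls H (Subgroup.centralizer ({b} : Set (Sz F e))) = {u | Fpf H u} := by
    ext u
    refine ⟨by rintro (h | h) <;> exact h.1, fun hu => ?_⟩
    rcases natCard_centralizer_eq H hm hF he hu with h | h
    · exact Or.inl ⟨hu, exists_conj_centralizer H hm hF ha hu (hca.trans h.symm)⟩
    · exact Or.inr ⟨hu, exists_conj_centralizer H hm hF hb hu (hcb.trans h.symm)⟩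
  have hsum : Nat.card (cls H (Subgroup.centralizer ({a} : Set (Sz F e)))) +
      Nat.card (cls H (Subgroup.centralizer ({b} : Set (Sz F e)))) =
      Nat.card {u : Sz F e // Fpf H u} := by
    rw [Nat.card_coe_set_eq, Nat.card_coe_set_eq,
      ← Set.ncard_union_eq (cls_disjoint_card H hm hF (by rw [hca, hcb]; exact hne)), hcover]
    exact (Nat.card_coe_set_eq _).symm
  set Na := Nat.card (Subgroup.normalizer
    ((Subgroup.centralizer ({a} : Set (Sz F e)) : Subgroup (Sz F e)) : Set (Sz F e))) with hNa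
  set Nb := Nat.card (Subgroup.normalizer
    ((Subgroup.centralizer ({b} : Set (Sz F e)) : Subgroup (Sz F e)) : Set (Sz F e))) with hNb
  have ea := natCard_cls H hF ha
  have eb := natCard_cls H hF hb
  have la := natCard_normalizer_le H hF ha
  have lb := natCard_normalizer_le H hF hb
  rw [hca, ← hNa] at ea la
  rw [hcb, ← hNb] at eb lb
  set wa := Nat.card (cls H (Subgroup.centralizer ({a} : Set (Sz F e))))
  set wb := Nat.card (cls H (Subgroup.centralizer ({b} : Set (Sz F e))))
  set G := Nat.card (Sz F e) with hG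
  have hkey : Na = 4 * kp m ∧ Nb = 4 * km m := by
    have hR := natCard_fpf H hF
    rw [← hsum] at hR
    set q := 2 ^ (2 * m + 1) with hq
    have hmul : kp m * km m = q ^ 2 + 1 := kp_mul_km m
    have hadd : kp m + km m = 2 * q + 2 := by
      have := pow_succ_le m
      simp only [kp, km, hq]
      omega
    have h1kp : 1 ≤ kp m := by simp [kp]
    have h1km : 1 ≤ km m := by simp [km]
    have heq : wa * (4 * kp m) * km m + wb * (4 * km m) * kp m =
        G * (kp m - 1) * km m + G * (km m - 1) * kp m := by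
      obtain ⟨a', ha'⟩ := Nat.exists_eq_add_of_le h1kp
      obtain ⟨b', hb'⟩ := Nat.exists_eq_add_of_le h1km
      have hGq : G = (q ^ 2 + 1) * (q ^ 2 * (q - 1)) := by rw [hG, natCard_Sz H, hF]
      obtain ⟨d, hd⟩ : ∃ d, q = d + 1 := ⟨q - 1, by have := two_le_pow H m; omega⟩
      rw [hd, Nat.add_sub_cancel] at hR hGq
      rw [hd] at hmul hadd
      rw [ha', hb'] at hmul hadd ⊢
      simp only [Nat.add_sub_cancel_left]
      zify at hR hGq hmul hadd ⊢
      linear_combination (2 * ((1 + (a' : ℤ)) * (1 + b'))) * hR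
        - (2 * ((1 + (a' : ℤ)) * (1 + b')) - (1 + a') - (1 + b')) * hGq
        + (2 * ((d : ℤ) + 1) ^ 3 * d ^ 2 - 2 * (((d : ℤ) + 1) ^ 2 + 1) * ((d + 1) ^ 2 * d)) * hmul
        + (((d : ℤ) + 1) ^ 2 + 1) * ((d + 1) ^ 2 * d) * hadd
    have hA : G * (kp m - 1) * km m ≤ wa * (4 * kp m) * km m :=
      Nat.mul_le_mul_right _ (ea ▸ Nat.mul_le_mul_left wa la)
    have hB : G * (km m - 1) * kp m ≤ wb * (4 * km m) * kp m :=
      Nat.mul_le_mul_right _ (eb ▸ Nat.mul_le_mul_left wb lb)
    have hGpos : 0 < G := Nat.card_pos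
    have hwa : 0 < wa := Nat.pos_of_mul_pos_right (ea.symm ▸ Nat.mul_pos hGpos
      (by have := one_lt_kp H m; omega) : 0 < wa * Na)
    have hwb : 0 < wb := Nat.pos_of_mul_pos_right (eb.symm ▸ Nat.mul_pos hGpos
      (by have := one_lt_km H hm; omega) : 0 < wb * Nb)
    have hA' : G * (kp m - 1) * km m = wa * (4 * kp m) * km m := by omega
    have hB' : G * (km m - 1) * kp m = wb * (4 * km m) * kp m := by omega
    rw [← ea, Nat.mul_left_inj (by omega), Nat.mul_right_inj hwa.ne'] at hA'
    rw [← eb, Nat.mul_left_inj (by omega), Nat.mul_right_inj hwb.ne'] at hB'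
    exact ⟨hA', hB'⟩
  have htrans : ∀ u : Sz F e, Fpf H u →
      Nat.card (Subgroup.centralizer ({u} : Set (Sz F e))) =
        Nat.card (Subgroup.centralizer ({g} : Set (Sz F e))) →
      Nat.card (Subgroup.normalizer
        ((Subgroup.centralizer ({g} : Set (Sz F e)) : Subgroup (Sz F e)) : Set (Sz F e))) =
      Nat.card (Subgroup.normalizer
        ((Subgroup.centralizer ({u} : Set (Sz F e)) : Subgroup (Sz F e)) : Set (Sz F e))) := by
    intro u hu hcard
    obtain ⟨k, hk⟩ := exists_conj_centralizer H hm hF hu hg hcard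
    rw [hk, ← Subgroup.map_equiv_normalizer_eq,
      Subgroup.card_map_of_injective (f := (MulAut.conj k).toMonoidHom) (MulAut.conj k).injective]
  rcases natCard_centralizer_eq H hm hF he hg with h | h
  · rw [htrans a ha (hca.trans h.symm), h]
    exact hkey.1
  · rw [htrans b hb (hcb.trans h.symm), h]
    exact hkey.2

end CfsgLib.KnownA.Suzuki
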