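import Cfsg.Agent.Lib.KnownA.Suzuki.Values

/-!
# Every non-trivial element of a Suzuki group is a product of two conjugates of a given element of
# order greater than two
-/

set_option autoImplicit false
set_option linter.unusedSectionVars false

namespace CfsgLib.KnownA.Suzuki

open Cfsg.Lie CfsgLib Finset
open scoped ComplexConjugate

theorem neg_le_re_of_norm_le {z : ℂ} {r : ℝ} (h : ‖z‖ ≤ r) : -r ≤ z.re :=
  (abs_le.1 ((Complex.abs_re_le_norm z).trans h)).1

/-- In a group, a subgroup of odd order which is the centraliser of each of its non-trivial elements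
and has index four in its normaliser is inverted by an element. -/
theorem isConj_inv_of_torus {G : Type*} [Group G] [Finite G] {U : Subgroup G}
    (hU : ∀ u ∈ U, u ≠ 1 → Subgroup.centralizer ({u} : Set G) = U)
    (hN : Nat.card (Subgroup.normalizer (U : Set G)) = 4 * Nat.card U) (hodd : Odd (Nat.card U))
    {u : G} (hu : u ∈ U) : IsConj u u⁻¹ := by
  haveI := Fact.mk Nat.prime_two
  obtain ⟨⟨w, hw⟩, ho⟩ := exists_prime_orderOf_dvd_card' (G := Subgroup.normalizer (U : Set G)) 2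
    (by rw [hN]; exact (by norm_num : 2 ∣ 4).mul_right _)
  have hw2 : w * w = 1 := by
    have := congrArg Subtype.val (pow_orderOf_eq_one (⟨w, hw⟩ : Subgroup.normalizer (U : Set G)))
    rwa [ho, sq] at this
  have hwU : w ∉ U := fun h => by
    have hd := Subgroup.orderOf_dvd_natCard U h
    rw [← Subgroup.orderOf_mk w hw, ho] at hd
    exact Nat.not_even_iff_odd.2 hodd (even_iff_two_dvd.2 hd)
  have hu' : w * u * w⁻¹ ∈ U := (Subgroup.mem_normalizer_iff.1 hw u).1 hu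
  have hc : u * (w * u * w⁻¹) = w * u * w⁻¹ * u := by
    by_cases hu1 : u = 1
    · simp [hu1]
    rw [← hU u hu hu1, Subgroup.mem_centralizer_singleton_iff] at hu'
    exact hu'.symm
  refine isConj_iff.2 ⟨w, eq_inv_of_mul_eq_one_right ?_⟩
  by_contra ht
  apply hwU
  rw [← hU _ (mul_mem hu hu') ht, Subgroup.mem_centralizer_singleton_iff]
  have hinv : w⁻¹ = w := inv_eq_of_mul_eq_one_right hw2
  calc w * (u * (w * u * w⁻¹)) = w * u * w⁻¹ * (w * w) * u * w⁻¹ := by group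
    _ = (w * u * w⁻¹ * u) * w⁻¹ := by rw [hw2, mul_one]
    _ = u * (w * u * w⁻¹) * w := by rw [← hc]; nth_rewrite 2 [hinv]; rfl

variable {F : Type*} [Field F] [Fintype F] {e m : ℕ} (H : TitsField F e) (hm : 1 ≤ m)
  (hF : Fintype.card F = 2 ^ (2 * m + 1)) (he : e = 2 ^ (m + 1))
  [Fintype (Sz F e)] [Fintype (Cfsg.IrrCharacter (Sz F e))] (T : CharTable H m)

/-- One family in the sum deciding whether `g` is a product of two conjugates of `x`. -/
noncomputable def term (X : Finset (Cfsg.IrrCharacter (Sz F e))) (x g : Sz F e) : ℂ :=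
  ∑ χ ∈ X, (χ : Sz F e → ℂ) x * (χ : Sz F e → ℂ) x * conj ((χ : Sz F e → ℂ) g) /
    (χ : Sz F e → ℂ) 1

theorem term_eq_zero {X : Finset (Cfsg.IrrCharacter (Sz F e))} {x g : Sz F e}
    (h : ∀ χ ∈ X, (χ : Sz F e → ℂ) x = 0 ∨ (χ : Sz F e → ℂ) g = 0) : term X x g = 0 :=
  Finset.sum_eq_zero fun χ hχ => by rcases h χ hχ with h | h <;> simp [h]

include H hm hF he T

theorem covers_of_re {x g : Sz F e}
    (h : 0 < 1 + ((T.St : Sz F e → ℂ) x * (T.St : Sz F e → ℂ) x * conj ((T.St : Sz F e → ℂ) g) /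
      (T.St : Sz F e → ℂ) 1).re + (term T.X0 x g).re + (term T.Xp x g).re + (term T.Xn x g).re +
      (term T.W x g).re) :
    ∃ u v : Sz F e, g = (u * x * u⁻¹) * (v * x * v⁻¹) := by
  refine Chars.exists_two_conjugates fun h0 => ?_
  rw [T.split, T.one_apply, T.one_apply, T.one_apply] at h0
  have h1 := congrArg Complex.re h0
  simp only [Complex.add_re, Complex.zero_re, map_one, mul_one, div_one, Complex.one_re] at h1
  simp only [term] at h
  linarith

/-- The bound on the Steinberg term. -/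
theorem re_St_term {x g : Sz F e} (hx : Complex.normSq ((T.St : Sz F e → ℂ) x) ≤ 1)
    (hg : Complex.normSq ((T.St : Sz F e → ℂ) g) ≤ 1) :
    -(1 / (4 * ((2 : ℝ) ^ m) ^ 4)) ≤ ((T.St : Sz F e → ℂ) x * (T.St : Sz F e → ℂ) x *
      conj ((T.St : Sz F e → ℂ) g) / (T.St : Sz F e → ℂ) 1).re := by
  refine neg_le_re_of_norm_le ?_
  have hd : (T.St : Sz F e → ℂ) 1 = ((4 * ((2 : ℝ) ^ m) ^ 4 : ℝ) : ℂ) := by
    rw [CharApps.deg_eq, T.St_one, ← Complex.ofReal_natCast, Nat.cast_pow,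
      (table_reals H hm hF he T).2.1]
    congr 1; ring
  have h := Chars.norm_sum_le_of_degree (s := {T.St}) (x := x) (g := g) (B := 1)
    (by positivity : (0 : ℝ) < 4 * ((2 : ℝ) ^ m) ^ 4) (by simpa using hd) (by simpa using hg)
    zero_le_one
  simp only [Finset.sum_singleton, one_mul] at h
  exact h.trans (div_le_div_of_nonneg_right hx (by positivity))

/-- The representatives of the non-trivial classes satisfy the uniform bounds. -/
theorem St_and_family_bounds {g : Sz F e} (hg1 : g ≠ 1)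
    (hg : g ^ 4 = 1 ∨ g ∈ tor H ∨ g ∈ T.Up ∨ g ∈ T.Um) :
    Complex.normSq ((T.St : Sz F e → ℂ) g) ≤ 1 ∧
      ∀ χ ∈ T.X0, Complex.normSq ((χ : Sz F e → ℂ) g) ≤ (2 * ((2 : ℝ) ^ m) ^ 2) ^ 2 := by
  obtain ⟨hM, hq, -, -, -⟩ := table_reals H hm hF he T
  have hM4 : (4 : ℝ) ≤ (2 ^ m) ^ 2 := by nlinarith
  rcases hg with hg | hg | hg | hg
  · obtain ⟨hb, -, hp, hn⟩ := normSum_four H hm hF he T hg hg1
    refine ⟨by rw [T.St_four g hg hg1, map_zero]; exact zero_le_one, fun χ hχ => ?_⟩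
    refine (normSq_le_normSum hχ g).trans ?_
    obtain ⟨a, b, hab⟩ := exists_isConj_su H hF hg
    obtain ⟨k, hk⟩ := isConj_iff.1 hab
    have hne : su H a b ≠ 1 := fun h => hg1 (by rw [← hk] at h; exact conj_eq_one_iff.1 h)
    have hc : Nat.card (Subgroup.centralizer ({g} : Set (Sz F e))) ≤ Fintype.card F ^ 2 := by
      refine le_trans (le_of_eq ?_) (natCard_centralizer_su_le H hF hne)
      rw [← hk, centralizer_conj H,
        Subgroup.card_map_of_injective (f := (MulAut.conj k).toMonoidHom) (MulAut.conj k).injective]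
    have hc' : (Nat.card (Subgroup.centralizer ({g} : Set (Sz F e))) : ℝ) ≤
        (Fintype.card F : ℝ) ^ 2 := by exact_mod_cast hc
    rw [hq] at hc'
    linarith [normSum_nonneg T.Xp g, normSum_nonneg T.Xn g, normSum_nonneg T.W g]
  · obtain ⟨hs, h0⟩ := normSum_tor H hm hF he T hg hg1
    refine ⟨by rw [hs, map_one], fun χ hχ => (normSq_le_normSum hχ g).trans ?_⟩
    rw [h0]; nlinarith
  · refine ⟨by rw [T.St_fpf g (T.fpf_Up g hg hg1), Complex.normSq_neg, map_one], fun χ hχ => ?_⟩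
    rw [T.Up_zero g hg hg1 χ (mem_union_left _ hχ), map_zero]; positivity
  · refine ⟨by rw [T.St_fpf g (T.fpf_Um g hg hg1), Complex.normSq_neg, map_one], fun χ hχ => ?_⟩
    rw [T.Um_zero g hg hg1 χ (mem_union_left _ hχ), map_zero]; positivity

theorem covers_tor {x g : Sz F e} (hx : x ∈ tor H) (hx1 : x ≠ 1) (hg1 : g ≠ 1)
    (hg : g ^ 4 = 1 ∨ g ∈ tor H ∨ g ∈ T.Up ∨ g ∈ T.Um) :
    ∃ u v : Sz F e, g = (u * x * u⁻¹) * (v * x * v⁻¹) := by
  obtain ⟨hM, -⟩ := table_reals H hm hF he T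
  obtain ⟨hsg, hB⟩ := St_and_family_bounds H hm hF he T hg1 hg
  obtain ⟨hSt, hS0⟩ := normSum_tor H hm hF he T hx hx1
  refine covers_of_re H hm hF he T ?_
  have hz : ∀ X ⊆ T.Xp ∪ T.Xn ∪ T.W, term X x g = 0 := fun X hX =>
    term_eq_zero fun χ hχ => Or.inl (T.tor_zero x hx hx1 χ (hX hχ))
  rw [hz T.Xp fun χ h => by simp [h], hz T.Xn fun χ h => by simp [h], hz T.W fun χ h => by simp [h]]
  have h1 := re_St_term H hm hF he T (x := x) (g := g) (by rw [hSt, map_one]) hsg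
  have h2 := neg_le_re_of_norm_le (Chars.norm_sum_le_of_degree (x := x) (g := g)
    (by positivity) (deg_reals H hm hF he T).1 hB (by positivity))
  rw [← term, ← normSum, hS0] at h2
  set M := (2 : ℝ) ^ m
  have h3 : 2 * M ^ 2 * (2 * M ^ 2 - 3) / (4 * M ^ 4 + 1) + 1 / (4 * M ^ 4) < 1 := by
    rw [div_add_div _ _ (by positivity) (by positivity), div_lt_one (by positivity)]
    nlinarith [pow_le_pow_left₀ zero_le_two hM 6]
  simp only [Complex.zero_re]
  linarith

set_option maxHeartbeats 1000000 in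
theorem covers_Up {x g : Sz F e} (hx : x ∈ T.Up) (hx1 : x ≠ 1) (hg1 : g ≠ 1)
    (hg : (g = sz H 1) ∨ (∃ a b, a ≠ 0 ∧ g = su H a b) ∨ g ∈ tor H ∨ g ∈ T.Up ∨ g ∈ T.Um) :
    ∃ u v : Sz F e, g = (u * x * u⁻¹) * (v * x * v⁻¹) := by
  obtain ⟨hM, hq, -, -, ht0, htp, htn⟩ := table_reals H hm hF he T
  obtain ⟨-, hdp, -, hdW⟩ := deg_reals H hm hF he T
  obtain ⟨hSp, hSW⟩ := normSum_Up H hm hF he T hx hx1
  refine covers_of_re H hm hF he T ?_
  have hz : ∀ X ⊆ T.X0 ∪ T.Xn, term X x g = 0 := fun X hX =>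
    term_eq_zero fun χ hχ => Or.inl (T.Up_zero x hx hx1 χ (hX hχ))
  rw [hz T.X0 fun χ h => by simp [h], hz T.Xn fun χ h => by simp [h]]
  simp only [Complex.zero_re, add_zero]
  have hM4 : 2 * (2 : ℝ) ^ m ≤ (2 ^ m) ^ 2 := by nlinarith
  have hsx : Complex.normSq ((T.St : Sz F e → ℂ) x) ≤ 1 := by
    rw [T.St_fpf x (T.fpf_Up x hx hx1), Complex.normSq_neg, map_one]
  -- the bounds on the two families
  have hbp : ∀ B : ℝ, 0 ≤ B → (∀ χ ∈ T.Xp, Complex.normSq ((χ : Sz F e → ℂ) g) ≤ B ^ 2) →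
      -(B * (2 * ((2 : ℝ) ^ m) ^ 2 + 2 * 2 ^ m - 3) /
        ((2 * ((2 : ℝ) ^ m) ^ 2 - 1) * (2 * (2 ^ m) ^ 2 - 2 * 2 ^ m + 1))) ≤ (term T.Xp x g).re := by
    intro B hB0 hB
    rw [← hSp]
    exact neg_le_re_of_norm_le (Chars.norm_sum_le_of_degree (by nlinarith) hdp hB hB0)
  have hbW : ∀ B : ℝ, 0 ≤ B → (∀ χ ∈ T.W, Complex.normSq ((χ : Sz F e → ℂ) g) ≤ B ^ 2) →
      -(B * 2 / ((2 * ((2 : ℝ) ^ m) ^ 2 - 1) * 2 ^ m)) ≤ (term T.W x g).re := by
    intro B hB0 hB
    have h := neg_le_re_of_norm_le (Chars.norm_sum_le_of_degree (x := x) (g := g) (by nlinarith)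
      hdW hB hB0)
    rwa [← term, ← normSum, hSW] at h
  have hSt : g ^ 4 = 1 → ((T.St : Sz F e → ℂ) x * (T.St : Sz F e → ℂ) x *
      conj ((T.St : Sz F e → ℂ) g) / (T.St : Sz F e → ℂ) 1).re = 0 := fun h => by
    rw [T.St_four g h hg1]; simp
  rcases hg with rfl | ⟨a, b, ha, rfl⟩ | hg | hg | hg
  · obtain ⟨hvp, hvW, -⟩ := values_involution H hm hF he T
    rw [hSt (by have h : sz H (1 : F) * sz H 1 = 1 := by rw [sz_mul, H.add_self, sz, su_zero]
                simp only [pow_succ, pow_zero, one_mul, h])]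
    have h0 : 0 ≤ (term T.Xp x (sz H 1)).re := by
      rw [term, Complex.re_sum]
      refine Finset.sum_nonneg fun χ hχ => ?_
      obtain ⟨k, hk⟩ := isConj_iff.1 (isConj_inv_of_torus T.cent_Up (by rw [T.normalizer_Up, T.natCard_Up])
        (by
          rw [T.natCard_Up]
          have hodd : Odd ((2 ^ (2 * m + 1)) ^ 2 + 1) :=
            (Nat.even_pow.2 ⟨Nat.even_pow.2 ⟨even_two, by omega⟩, two_ne_zero⟩).add_one
          rw [← kp_mul_km] at hodd
          exact (Nat.odd_mul.1 hodd).1) hx)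
      have hreal : conj ((χ : Sz F e → ℂ) x) = (χ : Sz F e → ℂ) x := by
        rw [← Chars.irr_inv, ← hk, Chars.isClassFunction_irr]
      obtain ⟨r, hr⟩ := Complex.conj_eq_iff_real.1 hreal
      rw [hvp χ hχ, hdp χ hχ, hr, Complex.conj_ofReal, ← Complex.ofReal_mul, ← Complex.ofReal_mul,
        ← Complex.ofReal_div, Complex.ofReal_re]
      exact div_nonneg (mul_nonneg (mul_self_nonneg r) (by linarith)) (by nlinarith)
    have h2 := hbW (2 ^ m) (by positivity) fun χ hχ => by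
      rw [hvW χ hχ, Complex.normSq_ofReal, neg_mul_neg, sq]
    set M := (2 : ℝ) ^ m
    have h3 : M * 2 / ((2 * M ^ 2 - 1) * M) < 1 := by rw [div_lt_one (by nlinarith)]; nlinarith
    linarith
  · have hg4 := pow_four_uni H (g := su H a b) ⟨a, b, rfl⟩
    rw [hSt hg4]
    obtain ⟨hb, h0, hp, hn⟩ := normSum_four H hm hF he T hg4 hg1
    have hc : (Nat.card (Subgroup.centralizer ({su H a b} : Set (Sz F e))) : ℝ) ≤
        2 * (Fintype.card F : ℝ) := by exact_mod_cast natCard_centralizer_su_four H hF ha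
    rw [hq] at hc
    have h1 := hbp (9 / 4) (by norm_num) fun χ hχ => by
      have h := normSum_of_agree (T.agreep _ (not_isConj_four H hm hF he T hg4).1) hχ
      have hpos : (0 : ℝ) < T.Xp.card := Nat.cast_pos.2 (Finset.card_pos.2 ⟨χ, hχ⟩)
      refine le_of_mul_le_mul_left ?_ hpos
      rw [← h]
      nlinarith [normSum_nonneg T.W (su H a b)]
    have h2 := hbW (17 / 12 * 2 ^ m) (by positivity) fun χ hχ => by
      refine (normSq_le_normSum hχ _).trans ?_
      nlinarith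
    set M := (2 : ℝ) ^ m
    have h3 : 9 / 4 * (2 * M ^ 2 + 2 * M - 3) / ((2 * M ^ 2 - 1) * (2 * M ^ 2 - 2 * M + 1)) ≤
        29 / 50 := by
      rw [div_le_div_iff₀ (by nlinarith) (by norm_num)]
      nlinarith only [hM, pow_nonneg (sub_nonneg.2 hM) 2, pow_nonneg (sub_nonneg.2 hM) 3,
        pow_nonneg (sub_nonneg.2 hM) 4]
    have h4 : 17 / 12 * M * 2 / ((2 * M ^ 2 - 1) * M) ≤ 17 / 42 := by
      rw [div_le_div_iff₀ (by nlinarith) (by norm_num)]
      nlinarith only [hM, pow_nonneg (sub_nonneg.2 hM) 2, pow_nonneg (sub_nonneg.2 hM) 3]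
    linarith
  · rw [term_eq_zero fun χ hχ => Or.inr (T.tor_zero g hg hg1 χ (by simp [hχ])),
      term_eq_zero fun χ hχ => Or.inr (T.tor_zero g hg hg1 χ (by simp [hχ]))]
    have h1 := re_St_term H hm hF he T (x := x) (g := g) hsx
      (St_and_family_bounds H hm hF he T hg1 (Or.inr (Or.inl hg))).1
    have h3 : 1 / (4 * ((2 : ℝ) ^ m) ^ 4) < 1 := by
      rw [div_lt_one (by positivity)]; nlinarith
    simp only [Complex.zero_re]
    linarith
  · obtain ⟨hgp, hgW⟩ := normSum_Up H hm hF he T hg hg1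
    have h1 := re_St_term H hm hF he T (x := x) (g := g) hsx
      (St_and_family_bounds H hm hF he T hg1 (Or.inr (Or.inr (Or.inl hg)))).1
    have h2 := hbp (2 * 2 ^ m - 1) (by linarith) fun χ hχ =>
      (normSq_le_normSum hχ g).trans (by rw [hgp]; nlinarith)
    have h2' := hbW 1 zero_le_one fun χ hχ => by rw [T.Up_W g hg hg1 χ hχ, map_one, one_pow]
    set M := (2 : ℝ) ^ m
    have h3 : (2 * M - 1) * (2 * M ^ 2 + 2 * M - 3) / ((2 * M ^ 2 - 1) * (2 * M ^ 2 - 2 * M + 1)) ≤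
        4 / 5 := by
      rw [div_le_div_iff₀ (by nlinarith) (by norm_num)]
      nlinarith only [hM, pow_nonneg (sub_nonneg.2 hM) 2, pow_nonneg (sub_nonneg.2 hM) 3, pow_nonneg (sub_nonneg.2 hM) 4]
    have h4 : 1 * 2 / ((2 * M ^ 2 - 1) * M) ≤ 1 / 7 := by
      rw [div_le_div_iff₀ (by nlinarith) (by norm_num)]
      nlinarith
    have h5 : 1 / (4 * M ^ 4) ≤ 1 / 64 := by
      rw [div_le_div_iff₀ (by positivity) (by norm_num)]
      nlinarith
    linarith
  · rw [term_eq_zero (X := T.Xp) fun χ hχ => Or.inr (T.Um_zero g hg hg1 χ (mem_union_right _ hχ))]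
    have h1 := re_St_term H hm hF he T (x := x) (g := g) hsx
      (St_and_family_bounds H hm hF he T hg1 (Or.inr (Or.inr (Or.inr hg)))).1
    have h2 := hbW 1 zero_le_one fun χ hχ => by
      rw [T.Um_W g hg hg1 χ hχ, Complex.normSq_neg, map_one, one_pow]
    set M := (2 : ℝ) ^ m
    have h4 : 1 * 2 / ((2 * M ^ 2 - 1) * M) ≤ 1 / 7 := by
      rw [div_le_div_iff₀ (by nlinarith) (by norm_num)]
      nlinarith
    have h5 : 1 / (4 * M ^ 4) ≤ 1 / 64 := by
      rw [div_le_div_iff₀ (by positivity) (by norm_num)]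
      nlinarith
    simp only [Complex.zero_re]
    linarith

theorem covers_Um {x g : Sz F e} (hx : x ∈ T.Um) (hx1 : x ≠ 1) (hg1 : g ≠ 1)
    (hg : (g = sz H 1) ∨ (∃ a b, a ≠ 0 ∧ g = su H a b) ∨ g ∈ tor H ∨ g ∈ T.Up ∨ g ∈ T.Um) :
    ∃ u v : Sz F e, g = (u * x * u⁻¹) * (v * x * v⁻¹) := by
  obtain ⟨hM, hq, -, -, ht0, htp, htn⟩ := table_reals H hm hF he T
  obtain ⟨-, -, hdn, hdW⟩ := deg_reals H hm hF he T
  obtain ⟨hSn, hSW⟩ := normSum_Um H hm hF he T hx hx1
  have hs4 : (sz H (1 : F)) ^ 4 = 1 := by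
    have h : sz H (1 : F) * sz H 1 = 1 := by rw [sz_mul, H.add_self, sz, su_zero]
    simp only [pow_succ, pow_zero, one_mul, h]
  have hg' : g ^ 4 = 1 ∨ g ∈ tor H ∨ g ∈ T.Up ∨ g ∈ T.Um := by
    rcases hg with rfl | ⟨a, b, -, rfl⟩ | h
    exacts [Or.inl hs4, Or.inl (pow_four_uni H ⟨a, b, rfl⟩), Or.inr h]
  refine covers_of_re H hm hF he T ?_
  have hz : ∀ X ⊆ T.X0 ∪ T.Xp, term X x g = 0 := fun X hX =>
    term_eq_zero fun χ hχ => Or.inl (T.Um_zero x hx hx1 χ (hX hχ))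
  rw [hz T.X0 fun χ h => by simp [h], hz T.Xp fun χ h => by simp [h]]
  have hM4 : 2 * (2 : ℝ) ^ m ≤ (2 ^ m) ^ 2 := by nlinarith
  have hsx : Complex.normSq ((T.St : Sz F e → ℂ) x) ≤ 1 := by
    rw [T.St_fpf x (T.fpf_Um x hx hx1), Complex.normSq_neg, map_one]
  have hB : (∀ χ ∈ T.Xn, Complex.normSq ((χ : Sz F e → ℂ) g) ≤ (2 * 2 ^ m + 1) ^ 2) ∧
      ∀ χ ∈ T.W, Complex.normSq ((χ : Sz F e → ℂ) g) ≤ (3 / 2 * 2 ^ m) ^ 2 := by
    rcases hg with rfl | ⟨a, b, ha, rfl⟩ | hg | hg | hg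
    · obtain ⟨-, hvW, hvn⟩ := values_involution H hm hF he T
      refine ⟨hvn, fun χ hχ => ?_⟩
      rw [hvW χ hχ, Complex.normSq_ofReal]
      nlinarith
    · have hg4 := pow_four_uni H (g := su H a b) ⟨a, b, rfl⟩
      obtain ⟨hb, h0, hp, hn⟩ := normSum_four H hm hF he T hg4 hg1
      have hc : (Nat.card (Subgroup.centralizer ({su H a b} : Set (Sz F e))) : ℝ) ≤
          2 * (Fintype.card F : ℝ) := by exact_mod_cast natCard_centralizer_su_four H hF ha
      rw [hq] at hc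
      refine ⟨fun χ hχ => (normSq_le_normSum hχ _).trans ?_, fun χ hχ =>
        (normSq_le_normSum hχ _).trans ?_⟩
      · nlinarith [normSum_nonneg T.W (su H a b)]
      · nlinarith
    · refine ⟨fun χ hχ => ?_, fun χ hχ => ?_⟩ <;>
        rw [T.tor_zero g hg hg1 χ (by simp [hχ]), map_zero] <;> positivity
    · refine ⟨fun χ hχ => ?_, fun χ hχ => ?_⟩
      · rw [T.Up_zero g hg hg1 χ (mem_union_right _ hχ), map_zero]; positivity
      · rw [T.Up_W g hg hg1 χ hχ, map_one]; nlinarith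
    · refine ⟨fun χ hχ => (normSq_le_normSum hχ g).trans ?_, fun χ hχ => ?_⟩
      · rw [(normSum_Um H hm hF he T hg hg1).1]; nlinarith
      · rw [T.Um_W g hg hg1 χ hχ, Complex.normSq_neg, map_one]; nlinarith
  have h1 := re_St_term H hm hF he T (x := x) (g := g) hsx
    (St_and_family_bounds H hm hF he T hg1 hg').1
  have h2 := neg_le_re_of_norm_le (Chars.norm_sum_le_of_degree (x := x) (g := g)
    (by nlinarith) hdn hB.1 (by positivity))
  have h2' := neg_le_re_of_norm_le (Chars.norm_sum_le_of_degree (x := x) (g := g)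
    (by nlinarith) hdW hB.2 (by positivity))
  rw [← term, ← normSum, hSn] at h2
  rw [← term, ← normSum, hSW] at h2'
  set M := (2 : ℝ) ^ m
  have h3 : (2 * M + 1) * (2 * M ^ 2 - 2 * M - 3) / ((2 * M ^ 2 - 1) * (2 * M ^ 2 + 2 * M + 1)) ≤
      2 / 5 := by
    rw [div_le_div_iff₀ (by nlinarith) (by norm_num)]
    nlinarith only [hM, pow_nonneg (sub_nonneg.2 hM) 2, pow_nonneg (sub_nonneg.2 hM) 3, pow_nonneg (sub_nonneg.2 hM) 4]
  have h4 : 3 / 2 * M * 2 / ((2 * M ^ 2 - 1) * M) ≤ 3 / 7 := by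
    rw [div_le_div_iff₀ (by nlinarith) (by norm_num)]
    nlinarith
  have h5 : 1 / (4 * M ^ 4) ≤ 1 / 64 := by
    rw [div_le_div_iff₀ (by positivity) (by norm_num)]
    nlinarith
  simp only [Complex.zero_re]
  linarith

set_option maxHeartbeats 1000000 in
theorem covers_four {a b : F} (ha : a ≠ 0) {g : Sz F e} (hg1 : g ≠ 1)
    (hg : (g = sz H 1) ∨ (∃ a b, a ≠ 0 ∧ g = su H a b) ∨ g ∈ tor H ∨ g ∈ T.Up ∨ g ∈ T.Um) :
    ∃ u v : Sz F e, g = (u * su H a b * u⁻¹) * (v * su H a b * v⁻¹) := by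
  rcases hg with rfl | ⟨A, B, hA, rfl⟩ | hg
  · obtain ⟨l, hl⟩ := exists_conj_involution H hF (w := su H a b * su H a b)
      (by have h := pow_four_uni H (g := su H a b) ⟨a, b, rfl⟩
          simpa [pow_succ, mul_assoc] using h)
      (fun h => by
        rw [su_mul, H.add_self, H.add_self, zero_add] at h
        exact mul_ne_zero (pow_ne_zero _ ha) ha (su_inj H (h.trans (su_zero H).symm)).2)
    refine ⟨l, l, ?_⟩
    have h' : sz H 1 = l * (su H a b * su H a b) * l⁻¹ := by rw [← hl]; group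
    rw [h']; group
  · exact exists_two_conjugates_four H hF hm ha hA
  set x := su H a b with hxdef
  have hx4 : x ^ 4 = 1 := pow_four_uni H ⟨a, b, rfl⟩
  have hx1 : x ≠ 1 := fun h => ha (su_inj H (h.trans (su_zero H).symm)).1
  obtain ⟨hM, hq, -, -, ht0, htp, htn⟩ := table_reals H hm hF he T
  obtain ⟨hd0, hdp, hdn, hdW⟩ := deg_reals H hm hF he T
  obtain ⟨hbud, h0, hp, hn⟩ := normSum_four H hm hF he T hx4 hx1
  have hc : (Nat.card (Subgroup.centralizer ({x} : Set (Sz F e))) : ℝ) ≤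
      2 * (Fintype.card F : ℝ) := by exact_mod_cast natCard_centralizer_su_four H hF ha
  rw [hq] at hc
  have hnW := normSum_nonneg T.W x
  refine covers_of_re H hm hF he T ?_
  rw [T.St_four x hx4 hx1]
  simp only [zero_mul, zero_div, Complex.zero_re, add_zero]
  rcases hg with hg | hg | hg
  · obtain ⟨-, hg0⟩ := normSum_tor H hm hF he T hg hg1
    have hz : ∀ X ⊆ T.Xp ∪ T.Xn ∪ T.W, term X x g = 0 := fun X hX =>
      term_eq_zero fun χ hχ => Or.inr (T.tor_zero g hg hg1 χ (hX hχ))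
    rw [hz T.Xp fun χ h => by simp [h], hz T.Xn fun χ h => by simp [h], hz T.W fun χ h => by simp [h]]
    have h2 := neg_le_re_of_norm_le (Chars.norm_sum_le_of_degree (x := x) (g := g) (B := 2 * 2 ^ m)
      (by positivity) hd0 (fun χ hχ => (normSq_le_normSum hχ g).trans (by rw [hg0]; nlinarith))
      (by positivity))
    rw [← term, ← normSum] at h2
    set M := (2 : ℝ) ^ m
    have h3 : 2 * M * normSum T.X0 x / (4 * M ^ 4 + 1) ≤ 2 * M * (4 * M ^ 2) / (4 * M ^ 4 + 1) :=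
      div_le_div_of_nonneg_right (mul_le_mul_of_nonneg_left (by linarith) (by positivity))
        (by positivity)
    have h4 : 2 * M * (4 * M ^ 2) / (4 * M ^ 4 + 1) < 1 := by
      rw [div_lt_one (by positivity)]; nlinarith only [hM, pow_nonneg (sub_nonneg.2 hM) 2, pow_nonneg (sub_nonneg.2 hM) 3, pow_nonneg (sub_nonneg.2 hM) 4]
    simp only [Complex.zero_re]
    linarith
  · have hz : ∀ X ⊆ T.X0 ∪ T.Xn, term X x g = 0 := fun X hX =>
      term_eq_zero fun χ hχ => Or.inr (T.Up_zero g hg hg1 χ (hX hχ))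
    rw [hz T.X0 fun χ h => by simp [h], hz T.Xn fun χ h => by simp [h]]
    obtain ⟨hgp, -⟩ := normSum_Up H hm hF he T hg hg1
    have h2 := neg_le_re_of_norm_le (Chars.norm_sum_le_of_degree (x := x) (g := g) (B := 2 * 2 ^ m - 1)
      (by nlinarith) hdp (fun χ hχ => (normSq_le_normSum hχ g).trans (by rw [hgp]; nlinarith))
      (by linarith))
    have h2' := neg_le_re_of_norm_le (Chars.norm_sum_le_of_degree (x := x) (g := g) (B := 1)
      (by nlinarith) hdW (fun χ hχ => by rw [T.Up_W g hg hg1 χ hχ, map_one, one_pow]) zero_le_one)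
    rw [← term, ← normSum] at h2 h2'
    set M := (2 : ℝ) ^ m
    have hc1 : (2 * M - 1) / ((2 * M ^ 2 - 1) * (2 * M ^ 2 - 2 * M + 1)) * ((5 * M ^ 2 + M) / 2)
        < 1 := by
      rw [div_mul_div_comm, div_lt_one (by nlinarith)]
      nlinarith only [hM, pow_nonneg (sub_nonneg.2 hM) 2, pow_nonneg (sub_nonneg.2 hM) 3, pow_nonneg (sub_nonneg.2 hM) 4]
    have hc2 : 1 / ((2 * M ^ 2 - 1) * M) * ((5 * M ^ 2 + M) / 2) < 1 := by
      rw [div_mul_div_comm, div_lt_one (by nlinarith)]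
      nlinarith only [hM, pow_nonneg (sub_nonneg.2 hM) 2, pow_nonneg (sub_nonneg.2 hM) 3, pow_nonneg (sub_nonneg.2 hM) 4]
    have key := combine (p := (2 * M - 1) / ((2 * M ^ 2 - 1) * (2 * M ^ 2 - 2 * M + 1)))
      (r := 1 / ((2 * M ^ 2 - 1) * M)) (normSum_nonneg T.Xp x) hnW
      (show normSum T.Xp x + normSum T.W x ≤ (5 * M ^ 2 + M) / 2 by linarith) hc1 hc2
    rw [mul_div_right_comm] at h2 h2'
    simp only [Complex.zero_re]
    linarith
  · have hz : ∀ X ⊆ T.X0 ∪ T.Xp, term X x g = 0 := fun X hX =>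
      term_eq_zero fun χ hχ => Or.inr (T.Um_zero g hg hg1 χ (hX hχ))
    rw [hz T.X0 fun χ h => by simp [h], hz T.Xp fun χ h => by simp [h]]
    obtain ⟨hgn, -⟩ := normSum_Um H hm hF he T hg hg1
    have h2 := neg_le_re_of_norm_le (Chars.norm_sum_le_of_degree (x := x) (g := g) (B := 2 * 2 ^ m + 1)
      (by nlinarith) hdn (fun χ hχ => (normSq_le_normSum hχ g).trans (by rw [hgn]; nlinarith))
      (by linarith))
    have h2' := neg_le_re_of_norm_le (Chars.norm_sum_le_of_degree (x := x) (g := g) (B := 1)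
      (by nlinarith) hdW (fun χ hχ => by
        rw [T.Um_W g hg hg1 χ hχ, Complex.normSq_neg, map_one, one_pow]) zero_le_one)
    rw [← term, ← normSum] at h2 h2'
    set M := (2 : ℝ) ^ m
    have hc1 : (2 * M + 1) / ((2 * M ^ 2 - 1) * (2 * M ^ 2 + 2 * M + 1)) * ((5 * M ^ 2 - M) / 2)
        < 1 := by
      rw [div_mul_div_comm, div_lt_one (by nlinarith)]
      nlinarith only [hM, pow_nonneg (sub_nonneg.2 hM) 2, pow_nonneg (sub_nonneg.2 hM) 3, pow_nonneg (sub_nonneg.2 hM) 4]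
    have hc2 : 1 / ((2 * M ^ 2 - 1) * M) * ((5 * M ^ 2 - M) / 2) < 1 := by
      rw [div_mul_div_comm, div_lt_one (by nlinarith)]
      nlinarith only [hM, pow_nonneg (sub_nonneg.2 hM) 2, pow_nonneg (sub_nonneg.2 hM) 3, pow_nonneg (sub_nonneg.2 hM) 4]
    have key := combine (p := (2 * M + 1) / ((2 * M ^ 2 - 1) * (2 * M ^ 2 + 2 * M + 1)))
      (r := 1 / ((2 * M ^ 2 - 1) * M)) (normSum_nonneg T.Xn x) hnW
      (show normSum T.Xn x + normSum T.W x ≤ (5 * M ^ 2 - M) / 2 by linarith) hc1 hc2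
    rw [mul_div_right_comm] at h2 h2'
    simp only [Complex.zero_re]
    linarith
where
  combine {p r S S' K : ℝ} (hS : 0 ≤ S) (hS' : 0 ≤ S') (h : S + S' ≤ K) (hp : p * K < 1)
      (hr : r * K < 1) : p * S + r * S' < 1 := by
    rcases le_total p r with hle | hle
    · have h1 := mul_le_mul_of_nonneg_right hle hS
      rcases le_total 0 r with h0 | h0
      · have := mul_le_mul_of_nonneg_left h h0; linarith
      · have := mul_nonpos_of_nonpos_of_nonneg h0 (add_nonneg hS hS'); linarith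
    · have h1 := mul_le_mul_of_nonneg_right hle hS'
      rcases le_total 0 p with h0 | h0
      · have := mul_le_mul_of_nonneg_left h h0; linarith
      · have := mul_nonpos_of_nonpos_of_nonneg h0 (add_nonneg hS hS'); linarith

omit T [Fintype (Sz F e)] [Fintype (Cfsg.IrrCharacter (Sz F e))] in
/-- Every non-trivial element is a product of two conjugates of an element of order greater than two. -/
theorem exists_two_conjugates_of_two_lt {x g : Sz F e} (hx : 2 < orderOf x) (hg : g ≠ 1) :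
    ∃ u v : Sz F e, g = (u * x * u⁻¹) * (v * x * v⁻¹) := by
  classical
  haveI := Fintype.ofFinite (Sz F e)
  haveI := Chars.irrFintype (Sz F e)
  obtain ⟨T⟩ := exists_charTable H hm hF he
  -- representatives
  have hrep : ∀ y : Sz F e, y ≠ 1 → ∃ y', IsConj y y' ∧ y' ≠ 1 ∧
      (y' = sz H 1 ∨ (∃ a b, a ≠ 0 ∧ y' = su H a b) ∨ y' ∈ tor H ∨ y' ∈ T.Up ∨ y' ∈ T.Um) := by
    intro y hy
    rcases class_cases H hm hF he T y with h | ⟨w, hw, hw1, hc⟩ | ⟨w, hw, hw1, hc⟩ | ⟨w, hw, hw1, hc⟩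
    · obtain ⟨a, b, hc⟩ := exists_isConj_su H hF h
      have hne : su H a b ≠ 1 := fun h1 => hy (by rwa [h1, isConj_one_left] at hc)
      by_cases ha : a = 0
      · subst ha
        obtain ⟨l, hl⟩ := exists_conj_involution H hF (w := sz H b)
          (by rw [sz_mul, H.add_self, sz, su_zero]) hne
        have hs1 : sz H (1 : F) ≠ 1 := fun h => one_ne_zero (su_inj H (h.trans (su_zero H).symm)).2
        refine ⟨sz H 1, hc.trans ((isConj_iff.2 ⟨l⁻¹, ?_⟩).symm), hs1, Or.inl rfl⟩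
        rw [inv_inv]; exact hl
      · exact ⟨_, hc, hne, Or.inr (Or.inl ⟨a, b, ha, rfl⟩)⟩
    · exact ⟨w, hc, hw1, Or.inr (Or.inr (Or.inl hw))⟩
    · exact ⟨w, hc, hw1, Or.inr (Or.inr (Or.inr (Or.inl hw)))⟩
    · exact ⟨w, hc, hw1, Or.inr (Or.inr (Or.inr (Or.inr hw)))⟩
  obtain ⟨g', hgg, hg1', hg'⟩ := hrep g hg
  obtain ⟨x', hxx, hx1', hx'⟩ := hrep x (by rintro rfl; simp at hx)
  suffices h : ∃ u v : Sz F e, g' = (u * x' * u⁻¹) * (v * x' * v⁻¹) by
    obtain ⟨u, v, huv⟩ := h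
    obtain ⟨c, hc⟩ := isConj_iff.1 hgg
    obtain ⟨d, hd⟩ := isConj_iff.1 hxx
    refine ⟨c⁻¹ * u * d, c⁻¹ * v * d, ?_⟩
    rw [← hd] at huv
    have h' : g = c⁻¹ * g' * c := by rw [← hc]; group
    rw [h', huv]; group
  have hgw : g' ^ 4 = 1 ∨ g' ∈ tor H ∨ g' ∈ T.Up ∨ g' ∈ T.Um := by
    rcases hg' with rfl | ⟨a, b, -, rfl⟩ | h
    exacts [Or.inl (pow_four_uni H ⟨0, 1, rfl⟩), Or.inl (pow_four_uni H ⟨a, b, rfl⟩), Or.inr h]
  rcases hx' with rfl | ⟨a, b, ha, rfl⟩ | h | h | h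
  · exfalso
    obtain ⟨c, hc⟩ := isConj_iff.1 hxx
    have h2 : x ^ 2 = 1 := by
      have h2' : (c * x * c⁻¹) ^ 2 = 1 := by rw [hc, sq, sz_mul, H.add_self, sz, su_zero]
      rw [conj_pow] at h2'
      exact conj_eq_one_iff.1 h2'
    exact absurd (Nat.le_of_dvd two_pos (orderOf_dvd_of_pow_eq_one h2)) (not_le.2 hx)
  · exact covers_four H hm hF he T ha hg1' hg'
  · exact covers_tor H hm hF he T h hx1' hg1' hgw
  · exact covers_Up H hm hF he T h hx1' hg1' hg'
  · exact covers_Um H hm hF he T h hx1' hg1' hg'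

end CfsgLib.KnownA.Suzuki
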