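import Mathlib

/-!
The arithmetic that pins down the character degrees of a Suzuki group.
-/

set_option autoImplicit false

namespace CfsgLib.KnownA.Suzuki.DegreeArith

open Finset

variable {ι : Type*} [DecidableEq ι]

theorem eq_sdiff_union {R X Y : Finset ι} (hX : X ⊆ R) (hY : Y ⊆ R \ X) :
    ∀ f : ι → ℤ, ∑ i ∈ R, f i = ∑ i ∈ X, f i + ∑ i ∈ Y, f i + ∑ i ∈ (R \ X) \ Y, f i := by
  intro f
  rw [← Finset.sum_sdiff hX (f := f), ← Finset.sum_sdiff hY (f := f)]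
  ring

/-- The degrees, for a field with at least 32 elements. -/
theorem core {R X Y : Finset ι} (N a : ι → ℤ) {M t1 t2 u w ε r : ℤ} (hM : 4 ≤ M)
    (hpos : ∀ i ∈ R, 0 < N i) (hX : X ⊆ R) (hY : Y ⊆ R \ X)
    (ht1 : 2 * t1 = M ^ 2 + M) (ht2 : 2 * t2 = M ^ 2 - M)
    (hXc : (X.card : ℤ) = t1) (hYc : (Y.card : ℤ) = t2)
    (hXu : ∀ i ∈ X, N i = u) (hYw : ∀ i ∈ Y, N i = w)
    (hu : 2 * M ^ 2 - 2 * M + 1 ∣ u) (hw : 2 * M ^ 2 + 2 * M + 1 ∣ w)
    (hT : 2 * ∑ i ∈ R, N i ^ 2 = (M ^ 2 + M) * (2 * M ^ 2 - 2 * M + 1) ^ 2 +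
      (M ^ 2 - M) * (2 * M ^ 2 + 2 * M + 1) ^ 2 + 4 * M ^ 2)
    (hε : ε = 1 ∨ ε = -1) (ha : ∀ i ∈ Y, a i = 0)
    (hnorm : ∑ i ∈ R \ X, a i * a i + t1 * r * r - 2 * ε * r = 2)
    (hweight : -(2 * M ^ 2 + 1) + ∑ i ∈ R \ X, a i * N i + (t1 * r - ε) * u = 0) :
    u = 2 * M ^ 2 - 2 * M + 1 ∧ w = 2 * M ^ 2 + 2 * M + 1 ∧
      (∀ i ∈ (R \ X) \ Y, N i = M) ∧ ((R \ X) \ Y).Nonempty := by
  have ht1' : 10 ≤ t1 := by nlinarith only [ht1, hM]
  have ht2' : 6 ≤ t2 := by nlinarith only [ht2, hM]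
  obtain ⟨x, hx⟩ : X.Nonempty := Finset.card_pos.1 (by omega)
  obtain ⟨y, hy⟩ : Y.Nonempty := Finset.card_pos.1 (by omega)
  have hupos : 0 < u := hXu x hx ▸ hpos x (hX hx)
  have hwpos : 0 < w := hYw y hy ▸ hpos y (mem_sdiff.1 (hY hy)).1
  obtain ⟨c, hc⟩ := hu
  obtain ⟨d, hd⟩ := hw
  set A := 2 * M ^ 2 - 2 * M + 1 with hA
  set B := 2 * M ^ 2 + 2 * M + 1 with hB
  have hApos : 0 < A := by nlinarith only [hA, hM]
  have hBpos : 0 < B := by nlinarith only [hB, hM]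
  have hc1 : 1 ≤ c := by nlinarith only [hc, hupos, hApos]
  have hd1 : 1 ≤ d := by nlinarith only [hd, hwpos, hBpos]
  have hsum : 2 * (t1 * u ^ 2) + 2 * (t2 * w ^ 2) + 2 * ∑ i ∈ (R \ X) \ Y, N i ^ 2 =
      (M ^ 2 + M) * A ^ 2 + (M ^ 2 - M) * B ^ 2 + 4 * M ^ 2 := by
    rw [← hT, eq_sdiff_union hX hY, Finset.sum_congr rfl (fun i hi => by rw [hXu i hi] : ∀ i ∈ X, N i ^ 2 = u ^ 2),
      Finset.sum_congr rfl (fun i hi => by rw [hYw i hi] : ∀ i ∈ Y, N i ^ 2 = w ^ 2),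
      Finset.sum_const, Finset.sum_const, nsmul_eq_mul, nsmul_eq_mul, hXc, hYc]
    ring
  have hO : 0 ≤ ∑ i ∈ (R \ X) \ Y, N i ^ 2 := Finset.sum_nonneg fun i _ => sq_nonneg _
  have hP : (M ^ 2 + M) * A ^ 2 * (c ^ 2 - 1) + (M ^ 2 - M) * B ^ 2 * (d ^ 2 - 1) ≤ 4 * M ^ 2 := by
    rw [hc, hd] at hsum
    linear_combination hsum + 2 * hO - (A * c) ^ 2 * ht1 - (B * d) ^ 2 * ht2
  have hMA : 4 * M ^ 2 < (M ^ 2 + M) * A ^ 2 := by
    have : 25 ≤ A := by nlinarith only [hA, hM]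
    nlinarith only [this, hM]
  have hMB : 4 * M ^ 2 < (M ^ 2 - M) * B ^ 2 := by
    have : 25 ≤ B := by nlinarith only [hB, hM]
    have h2 : 4 * M ≤ M ^ 2 := by nlinarith only [hM]
    have h3 : (625 : ℤ) ≤ B ^ 2 := by nlinarith only [this]
    nlinarith only [hM, h2, mul_le_mul_of_nonneg_left h3 (show 0 ≤ M ^ 2 - M by linarith only [h2, hM])]
  have hcA : c = 1 := by
    by_contra hne
    have h3 : 3 ≤ c ^ 2 - 1 := by nlinarith only [show 2 ≤ c by omega]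
    have h4 : 0 ≤ (M ^ 2 - M) * B ^ 2 * (d ^ 2 - 1) := by
      refine mul_nonneg (le_of_lt ?_) (by nlinarith only [hd1])
      nlinarith only [hMB, hM]
    have h5 : 0 ≤ (M ^ 2 + M) * A ^ 2 := by nlinarith only [hMA, hM]
    nlinarith only [hP, hMA, h4, h3, h5, mul_le_mul_of_nonneg_left h3 h5]
  have hdB : d = 1 := by
    by_contra hne
    have h3 : 3 ≤ d ^ 2 - 1 := by nlinarith only [show 2 ≤ d by omega]
    have h5 : 0 ≤ (M ^ 2 - M) * B ^ 2 := by nlinarith only [hMB, hM]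
    rw [hcA] at hP
    nlinarith only [hP, hMB, h3, h5, mul_le_mul_of_nonneg_left h3 h5]
  rw [hcA, mul_one] at hc
  rw [hdB, mul_one] at hd
  have hq : ∑ i ∈ (R \ X) \ Y, N i ^ 2 = 2 * M ^ 2 := by
    rw [hc, hd] at hsum
    have h2 : 2 * ∑ i ∈ (R \ X) \ Y, N i ^ 2 = 4 * M ^ 2 := by
      linear_combination hsum - A ^ 2 * ht1 - B ^ 2 * ht2
    linarith only [h2]
  have hn : ∀ f : ι → ℤ, (∀ i ∈ Y, f i = 0) → ∑ i ∈ R \ X, f i = ∑ i ∈ (R \ X) \ Y, f i := fun f hf => by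
    rw [← Finset.sum_sdiff hY (f := f), Finset.sum_eq_zero hf, add_zero]
  rw [hn _ fun i hi => by rw [ha i hi, zero_mul]] at hnorm hweight
  have ha2 : 0 ≤ ∑ i ∈ (R \ X) \ Y, a i * a i := Finset.sum_nonneg fun i _ => mul_self_nonneg _
  have hr : r = 0 := by
    by_contra hr
    have h1 : 1 ≤ r ^ 2 := Int.add_one_le_of_lt (show 0 < r ^ 2 by positivity)
    have hp := mul_le_mul_of_nonneg_right ht1' (sq_nonneg r)
    rcases hε with rfl | rfl
    · nlinarith only [hnorm, ha2, hp, h1, sq_nonneg (r - 1)]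
    · nlinarith only [hnorm, ha2, hp, h1, sq_nonneg (r + 1)]
  subst hr
  simp only [mul_zero, sub_zero, add_zero, zero_sub] at hnorm hweight
  have hsq : ∑ i ∈ (R \ X) \ Y, (N i - M * a i) ^ 2 =
      2 * M ^ 2 - 2 * M * (2 * M ^ 2 + 1 + ε * u) + 2 * M ^ 2 := by
    rw [Finset.sum_congr rfl (fun i _ => by ring : ∀ i ∈ (R \ X) \ Y,
      (N i - M * a i) ^ 2 = N i ^ 2 - 2 * M * (a i * N i) + M ^ 2 * (a i * a i)),
      Finset.sum_add_distrib, Finset.sum_sub_distrib, ← Finset.mul_sum, ← Finset.mul_sum, hq, hnorm]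
    linear_combination -2 * M * hweight
  have hsq0 : 0 ≤ ∑ i ∈ (R \ X) \ Y, (N i - M * a i) ^ 2 := Finset.sum_nonneg fun i _ => sq_nonneg _
  have hεm : ε = -1 := by
    refine hε.resolve_left ?_
    rintro rfl
    nlinarith only [hsq, hsq0, hc, hA, hM]
  subst hεm
  rw [hc, hA, show 2 * M ^ 2 - 2 * M * (2 * M ^ 2 + 1 + -1 * (2 * M ^ 2 - 2 * M + 1)) + 2 * M ^ 2 = 0 by ring,
    Finset.sum_eq_zero_iff_of_nonneg fun i _ => sq_nonneg _] at hsq
  refine ⟨hc, hd, fun i hi => ?_, ?_⟩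
  · have h := pow_eq_zero_iff two_ne_zero |>.1 (hsq i hi)
    have hai : a i * a i ≤ 2 := hnorm ▸ Finset.single_le_sum (f := fun j => a j * a j)
      (fun j _ => mul_self_nonneg _) hi
    have hp := hpos i (mem_sdiff.1 (mem_sdiff.1 hi).1).1
    have h1 : 1 ≤ a i := by nlinarith only [h, hp, hM]
    have h2 : a i = 1 := by nlinarith only [h1, hai]
    rw [h2] at h
    linear_combination h
  · refine Finset.nonempty_iff_ne_empty.2 fun h => ?_
    rw [h, Finset.sum_empty] at hnorm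
    norm_num at hnorm

/-- The degrees, for the field with eight elements. -/
theorem core_eight {R X : Finset ι} (N a : ι → ℤ) {u ε r : ℤ}
    (hpos : ∀ i ∈ R, 0 < N i) (hX : X ⊆ R) (hXc : X.card = 3) (hXu : ∀ i ∈ X, N i = u)
    (hu : 5 ∣ u) (hT : ∑ i ∈ R, N i ^ 2 = 252)
    (hε : ε = 1 ∨ ε = -1) (hdvd : ∀ i ∈ R \ X, 13 ∣ 7 * N i - a i)
    (hnorm : ∑ i ∈ R \ X, a i * a i + 3 * r * r - 2 * ε * r = 2)
    (hweight : -9 + ∑ i ∈ R \ X, a i * N i + (3 * r - ε) * u = 0) :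
    u = 5 ∧ (∀ i ∈ R \ X, N i = 2 ∨ N i = 13) ∧
      (∃ i ∈ R \ X, N i = 2) ∧ ∃ i ∈ R \ X, N i = 13 := by
  classical
  obtain ⟨x, hx⟩ : X.Nonempty := Finset.card_pos.1 (by omega)
  have hupos : 0 < u := hXu x hx ▸ hpos x (hX hx)
  rw [← Finset.sum_sdiff hX, Finset.sum_congr rfl (fun i hi => by rw [hXu i hi] : ∀ i ∈ X, N i ^ 2 = u ^ 2),
    Finset.sum_const, hXc] at hT
  simp only [nsmul_eq_mul, Nat.cast_ofNat] at hT
  have hO : 0 ≤ ∑ i ∈ R \ X, N i ^ 2 := Finset.sum_nonneg fun i _ => sq_nonneg _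
  obtain ⟨c, rfl⟩ := hu
  have hc : c = 1 := by nlinarith only [hT, hO, hupos]
  subst hc
  simp only [mul_one] at hT hweight
  have hT' : ∑ i ∈ R \ X, N i ^ 2 = 177 := by linarith only [hT]
  have hN13 : ∀ i ∈ R \ X, 1 ≤ N i ∧ N i ≤ 13 := fun i hi => by
    have h1 := hpos i (mem_sdiff.1 hi).1
    have h2 : N i ^ 2 ≤ 177 := hT' ▸ Finset.single_le_sum (f := fun j => N j ^ 2)
      (fun j _ => sq_nonneg _) hi
    exact ⟨h1, by nlinarith only [h2]⟩
  have hzero : ∀ i ∈ R \ X, a i = 0 → N i = 13 := fun i hi h0 => by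
    have h := hdvd i hi
    rw [h0] at h
    have := hN13 i hi
    omega
  set S := (R \ X).filter fun i => a i ≠ 0 with hS
  have hSsub : S ⊆ R \ X := filter_subset _ _
  have hS1 : ∀ i ∈ S, 1 ≤ a i * a i := fun i hi =>
    Int.add_one_le_of_lt (mul_self_pos.2 (mem_filter.1 hi).2)
  have hsumS : ∀ f : ι → ℤ, (∀ i, a i = 0 → f i = 0) → ∑ i ∈ R \ X, f i = ∑ i ∈ S, f i := fun f hf => by
    refine (Finset.sum_subset hSsub fun i hi hi' => hf i ?_).symm
    by_contra h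
    exact hi' (mem_filter.2 ⟨hi, h⟩)
  rw [hsumS (fun i => a i * a i) fun i h => by rw [h, zero_mul]] at hnorm
  rw [hsumS (fun i => a i * N i) fun i h => by rw [h, zero_mul]] at hweight
  have hcard : (S.card : ℤ) ≤ ∑ i ∈ S, a i * a i := by
    simpa using Finset.card_nsmul_le_sum S (fun i => a i * a i) 1 hS1
  have hr : r = 0 ∨ r = ε := by
    rcases hε with rfl | rfl
    · have : r ≤ 1 ∧ 0 ≤ r := by constructor <;> nlinarith only [hnorm, hcard, S.card.cast_nonneg (α := ℤ)]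
      omega
    · have : r ≤ 0 ∧ -1 ≤ r := by constructor <;> nlinarith only [hnorm, hcard, S.card.cast_nonneg (α := ℤ)]
      omega
  have ha1 : ∀ i ∈ S, a i = 1 ∨ a i = -1 := fun i hi => by
    have h2 : a i * a i ≤ ∑ j ∈ S, a j * a j :=
      Finset.single_le_sum (f := fun j => a j * a j) (fun j _ => mul_self_nonneg _) hi
    have h3 : a i * a i ≤ 3 := by
      rcases hr with rfl | rfl <;> rcases hε with rfl | rfl <;> linarith only [h2, hnorm]
    have : -1 ≤ a i ∧ a i ≤ 1 := by constructor <;> nlinarith only [h3]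
    have := (mem_filter.1 hi).2
    omega
  have hcardS : (S.card : ℤ) = ∑ i ∈ S, a i * a i := by
    rw [Finset.sum_congr rfl (fun i hi => by rcases ha1 i hi with h | h <;> rw [h] <;> norm_num :
      ∀ i ∈ S, a i * a i = 1)]
    simp
  have hval : ∀ i ∈ S, (a i = 1 ∧ N i = 2) ∨ (a i = -1 ∧ N i = 11) := fun i hi => by
    have h := hdvd i (hSsub hi)
    have := hN13 i (hSsub hi)
    rcases ha1 i hi with h' | h' <;> rw [h'] at h ⊢ <;> simp only [true_and, and_true] <;> omega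
  rcases hr with rfl | hr
  · have hS2 : S.card = 2 := by
      simp only [mul_zero, sub_zero, add_zero] at hnorm
      omega
    obtain ⟨i, j, hij, hSij⟩ := Finset.card_eq_two.1 hS2
    have hi : i ∈ S := by rw [hSij]; simp
    have hj : j ∈ S := by rw [hSij]; simp
    rw [hSij, Finset.sum_pair hij] at hweight
    have hN : (a i = 1 ∧ N i = 2) ∧ (a j = 1 ∧ N j = 2) := by
      rcases hval i hi with ⟨h1, h2⟩ | ⟨h1, h2⟩ <;> rcases hval j hj with ⟨h3, h4⟩ | ⟨h3, h4⟩ <;>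
        rw [h1, h2, h3, h4] at hweight <;> rcases hε with rfl | rfl <;>
        first | exact ⟨⟨h1, h2⟩, h3, h4⟩ | (norm_num at hweight)
    refine ⟨rfl, fun k hk => ?_, ⟨i, hSsub hi, hN.1.2⟩, ?_⟩
    · by_cases h : a k = 0
      · exact Or.inr (hzero k hk h)
      · left
        have hk' : k ∈ S := mem_filter.2 ⟨hk, h⟩
        rw [hSij] at hk'
        rcases mem_insert.1 hk' with rfl | hk'
        · exact hN.1.2
        · rw [mem_singleton.1 hk']; exact hN.2.2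
    · by_contra hcon
      push Not at hcon
      have hall : R \ X = S := Finset.Subset.antisymm (fun k hk => mem_filter.2 ⟨hk, fun h => hcon k hk (hzero k hk h)⟩) hSsub
      rw [hall, hSij, Finset.sum_pair hij, hN.1.2, hN.2.2] at hT'
      norm_num at hT'
  · exfalso
    have hS1' : S.card = 1 := by
      rcases hε with rfl | rfl <;> rw [hr] at hnorm <;> omega
    obtain ⟨i, hSi⟩ := Finset.card_eq_one.1 hS1'
    have hi : i ∈ S := by rw [hSi]; simp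
    rw [hSi, Finset.sum_singleton, hr] at hweight
    rcases hval i hi with ⟨h1, h2⟩ | ⟨h1, h2⟩ <;> rw [h1, h2] at hweight <;>
      rcases hε with rfl | rfl <;> norm_num at hweight

end CfsgLib.KnownA.Suzuki.DegreeArith
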