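import Cfsg.Agent.Lib.KnownA.Suzuki.Table
import Cfsg.Prelude.Def_DegreeGraph

/-!
# The character degrees of a Suzuki group
-/

set_option autoImplicit false
set_option linter.unusedSectionVars false

namespace CfsgLib.KnownA.Suzuki

open Cfsg.Lie CfsgLib Finset

variable {F : Type*} [Field F] [Fintype F] {e m : ℕ} (H : TitsField F e) (hm : 1 ≤ m)
  (hF : Fintype.card F = 2 ^ (2 * m + 1)) (he : e = 2 ^ (m + 1))

include H hm hF he

/-- The character degrees of `Sz(q)`. -/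
theorem charDegrees_eq : Cfsg.charDegrees (Sz F e) =
    {1, Fintype.card F ^ 2, Fintype.card F ^ 2 + 1, (Fintype.card F - 1) * kp m,
      (Fintype.card F - 1) * km m, (Fintype.card F - 1) * 2 ^ m} := by
  classical
  haveI := Fintype.ofFinite (Sz F e)
  haveI := Chars.irrFintype (Sz F e)
  obtain ⟨T⟩ := exists_charTable H hm hF he
  have hone : Cfsg.charDegree (T.one : Sz F e → ℂ) = 1 :=
    (CharApps.deg_eq_one_iff T.one).1 (T.one_apply 1)
  have hlt : 2 ^ m < 4 ^ m := Nat.pow_lt_pow_left (by norm_num) (by omega)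
  have h4 : 4 ≤ 4 ^ m := le_self_pow₀ (by norm_num) (by omega)
  have h0 := T.card0
  have hp := T.cardp
  have hn := T.cardn
  have hW := T.cardW
  ext d
  simp only [Cfsg.charDegrees, Set.mem_ofPred_eq, Set.mem_insert_iff, Set.mem_singleton_iff]
  constructor
  · rintro ⟨χ, rfl⟩
    have h := T.split (fun ψ => if ψ = χ then (1 : ℤ) else 0)
    simp only [Finset.sum_ite_eq', Finset.mem_univ, if_true] at h
    by_cases h1 : T.one = χ
    · subst h1; exact Or.inl hone
    by_cases h2 : T.St = χ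
    · subst h2; exact Or.inr (Or.inl T.St_one)
    by_cases h3 : χ ∈ T.X0
    · exact Or.inr (Or.inr (Or.inl (T.deg0 χ h3)))
    by_cases h5 : χ ∈ T.Xn
    · exact Or.inr (Or.inr (Or.inr (Or.inl (T.degn χ h5))))
    by_cases h6 : χ ∈ T.Xp
    · exact Or.inr (Or.inr (Or.inr (Or.inr (Or.inl (T.degp χ h6)))))
    by_cases h7 : χ ∈ T.W
    · exact Or.inr (Or.inr (Or.inr (Or.inr (Or.inr (T.degW χ h7)))))
    simp [h1, h2, h3, h5, h6, h7] at h
  · rintro (rfl | rfl | rfl | rfl | rfl | rfl)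
    · exact ⟨T.one, hone⟩
    · exact ⟨T.St, T.St_one⟩
    · obtain ⟨χ, hχ⟩ := Finset.card_pos.1 (show 0 < T.X0.card by omega)
      exact ⟨χ, T.deg0 χ hχ⟩
    · obtain ⟨χ, hχ⟩ := Finset.card_pos.1 (show 0 < T.Xn.card by omega)
      exact ⟨χ, T.degn χ hχ⟩
    · obtain ⟨χ, hχ⟩ := Finset.card_pos.1 (show 0 < T.Xp.card by omega)
      exact ⟨χ, T.degp χ hχ⟩
    · obtain ⟨χ, hχ⟩ := Finset.card_pos.1 (show 0 < T.W.card by omega)
      exact ⟨χ, T.degW χ hχ⟩

end CfsgLib.KnownA.Suzuki
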