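import Cfsg.Agent.Lib.KnownA.Suzuki.Basic

/-!
Eigenvalues of the elements of a Suzuki group of order not dividing four, and the cyclic centralisers
they give.
-/

set_option autoImplicit false

namespace CfsgLib.KnownA.Suzuki

open Matrix Cfsg.Lie

variable {F : Type*} [Field F] {e : ℕ} (H : TitsField F e)
include H

variable (K : Type*) [Field K] [Algebra F K]

omit H in
/-- The matrix of `g` over an extension field. -/
abbrev matK (g : Sz F e) : Matrix (Fin 4) (Fin 4) K := (mat g).map (algebraMap F K)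

theorem charP_ext : CharP K 2 :=
  haveI := H.charP
  charP_of_injective_algebraMap (algebraMap F K).injective 2

theorem matK_mul (g k : Sz F e) : matK K (g * k) = matK K g * matK K k := by
  rw [matK, mat_mul, Matrix.map_mul]

theorem matK_one : matK K (1 : Sz F e) = 1 := by simp [matK, mat_one]

theorem eq_of_matK {g k : Sz F e} (h : matK K g = matK K k) : g = k := by
  apply mat_ext
  ext i j
  exact (algebraMap F K).injective (congrFun (congrFun h i) j)

/-- The trace. -/
abbrev tr (g : Sz F e) : F := (mat g).trace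

theorem det_add (g : Sz F e) (x : K) :
    (x • (1 : Matrix (Fin 4) (Fin 4) K) + matK K g).det =
      x ^ 4 + algebraMap F K (tr g) * x ^ 3 + algebraMap F K (tr g) ^ e * x ^ 2 +
        algebraMap F K (tr g) * x + 1 := by
  haveI := H.charP
  haveI : CharP K 2 := charP_ext H K
  obtain ⟨hsp, hst⟩ := mem_eqs H g
  obtain ⟨k, hk⟩ := H.two_pow
  have e1 : (matK K g).trace = algebraMap F K (tr g) := by simp [matK, Matrix.trace, map_sum]
  have e2 : CfsgLib.Recog.minorSum2 (matK K g) = algebraMap F K (CfsgLib.Recog.minorSum2 (mat g)) := by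
    simp [CfsgLib.Recog.minorSum2, matK]
  have e3 : (matK K g).adjugate.trace = algebraMap F K (mat g).adjugate.trace := by
    rw [show matK K g = (algebraMap F K).mapMatrix (mat g) from rfl, ← RingHom.map_adjugate]
    simp [Matrix.trace, map_sum]
  have e4 : (matK K g).det = algebraMap F K (mat g).det := (RingHom.map_det _ _).symm
  have e5 : CfsgLib.Recog.minorSum2 (mat g) = tr g ^ e := by
    rw [← CfsgLib.Recog.trace_star4 hsp, hst]
    haveI : ExpChar F 2 := ExpChar.prime Nat.prime_two
    subst hk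
    exact (map_sum (iterateFrobenius F 2 k) _ _).symm
  rw [CfsgLib.Recog.det_smul_one_add, e1, e2, e3, e4, e5, CfsgLib.Recog.trace_adjugate_of_mem_Sp4 hsp,
    CfsgLib.Recog.det_eq_one_of_mem_Sp4 hsp, map_pow, map_one]

/-- Elements of trace zero have order dividing four. -/
theorem pow_four_of_tr {g : Sz F e} (h : tr g = 0) : g ^ 4 = 1 := by
  haveI := H.charP
  obtain ⟨k, hk⟩ := H.two_pow
  have h1 := det_add H F g 1
  simp [h, zero_pow H.e_ne, matK] at h1
  have hdet : (mat g - 1).det = 0 := by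
    have : mat g - 1 = (1 : Matrix (Fin 4) (Fin 4) F) + mat g := by
      ext i j
      simp [CharTwo.sub_eq_add, add_comm]
    rw [this, h1]
    exact H.add_self 1
  have h4 := CfsgLib.Recog.pow_four_eq_one_of_fixed hk g.2 hdet
  apply Subtype.ext
  apply Units.ext
  simpa using h4

variable [IsAlgClosed K]

theorem exists_quad (a b : K) : ∃ x : K, x ^ 2 + a * x + b = 0 := by
  obtain ⟨x, hx⟩ := IsAlgClosed.exists_root
    (Polynomial.X ^ 2 + Polynomial.C a * Polynomial.X + Polynomial.C b) (by
      have : (Polynomial.X ^ 2 + Polynomial.C a * Polynomial.X + Polynomial.C b).degree = 2 := by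
        compute_degree!
      rw [this]; decide)
  exact ⟨x, by simpa using hx⟩

/-- Four distinct eigenvalues, with an eigenbasis; every eigenvalue is among them. -/
theorem exists_eigenbasis {g : Sz F e} (hg : g ^ 4 ≠ 1) :
    ∃ (r : Fin 4 → K) (b : Module.Basis (Fin 4) K (Fin 4 → K)), Function.Injective r ∧
      (∀ i, matK K g *ᵥ b i = r i • b i) ∧
      (∀ (x : K) (v : Fin 4 → K), v ≠ 0 → matK K g *ᵥ v = x • v → ∃ i, x = r i) := by
  haveI := H.charP
  haveI : CharP K 2 := charP_ext H K
  have two : (2 : K) = 0 := CharTwo.two_eq_zero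
  set t := algebraMap F K (tr g) with ht
  have ht0 : t ≠ 0 := by
    rw [ht, Ne, map_eq_zero]
    exact fun h => hg (pow_four_of_tr H h)
  obtain ⟨Y, hY⟩ := exists_quad H K t (t ^ e)
  set Y' := Y + t with hY'
  have hY0 : Y ≠ 0 := by
    intro h
    rw [h] at hY
    simp at hY
    exact ht0 hY.1
  have hY'0 : Y' ≠ 0 := by
    intro h
    apply pow_ne_zero e ht0
    linear_combination hY - Y * h
  have hYY : Y ≠ Y' := fun h => ht0 (by linear_combination -h)
  obtain ⟨l, hl⟩ := exists_quad H K Y 1
  obtain ⟨u, hu⟩ := exists_quad H K Y' 1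
  have hl0 : l ≠ 0 := by rintro rfl; simp at hl
  have hu0 : u ≠ 0 := by rintro rfl; simp at hu
  have hfac : ∀ x : K, x ^ 4 + t * x ^ 3 + t ^ e * x ^ 2 + t * x + 1 =
      (x ^ 2 + Y * x + 1) * (x ^ 2 + Y' * x + 1) := fun x => by
    rw [hY']
    linear_combination x ^ 2 * hY + (-(Y * x ^ 3) - Y * x - x ^ 2 - Y * (Y + t) * x ^ 2) * two
  let r : Fin 4 → K := ![l, l⁻¹, u, u⁻¹]
  have hquad : ∀ {y z : K}, z ^ 2 + y * z + 1 = 0 →
      ∀ {x : K}, x ^ 2 + y * x + 1 = 0 → x = z ∨ x = z⁻¹ := by
    intro y z hz x hx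
    have hz0 : z ≠ 0 := by rintro rfl; simp at hz
    have : (x - z) * (x - z⁻¹) = 0 := by
      field_simp
      linear_combination z * hx - x * hz + (0 : K) * two
    rcases mul_eq_zero.1 this with h | h
    · exact Or.inl (sub_eq_zero.1 h)
    · exact Or.inr (sub_eq_zero.1 h)
  have hinvroot : ∀ {y z : K}, z ^ 2 + y * z + 1 = 0 → z⁻¹ ^ 2 + y * z⁻¹ + 1 = 0 := by
    intro y z hz
    have hz0 : z ≠ 0 := by rintro rfl; simp at hz
    field_simp
    linear_combination hz
  have hne : ∀ {y z : K}, z ^ 2 + y * z + 1 = 0 → y ≠ 0 → z ≠ z⁻¹ := by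
    intro y z hz hy h
    have hz0 : z ≠ 0 := by rintro rfl; simp at hz
    have h1 : z * z = 1 := by nth_rewrite 2 [h]; exact mul_inv_cancel₀ hz0
    exact hy ((mul_eq_zero.1 (show y * z = 0 by linear_combination hz - h1 - two)).resolve_right hz0)
  have hdist : ∀ {x : K}, x ^ 2 + Y * x + 1 = 0 → x ^ 2 + Y' * x + 1 = 0 → False := by
    intro x h1 h2
    have hx0 : x ≠ 0 := by rintro rfl; simp at h1
    exact hYY (mul_right_cancel₀ hx0 (by linear_combination h1 - h2))
  have hli := hinvroot hl
  have hui := hinvroot hu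
  have hrinj : Function.Injective r := by
    intro i j hij
    have n1 : l ≠ l⁻¹ := hne hl hY0
    have n2 : u ≠ u⁻¹ := hne hu hY'0
    have n3 : l ≠ u := fun h => hdist hl (h ▸ hu)
    have n4 : l ≠ u⁻¹ := fun h => hdist hl (h ▸ hui)
    have n5 : l⁻¹ ≠ u := fun h => hdist hli (h ▸ hu)
    have n6 : l⁻¹ ≠ u⁻¹ := fun h => hdist hli (h ▸ hui)
    fin_cases i <;> fin_cases j <;> simp [r, n1, n2, n3, n4, n5, n6, n1.symm, n2.symm, n3.symm,
      n4.symm, n5.symm, n6.symm] at hij ⊢
  have hsmul : ∀ x : K, ∀ v, (x • (1 : Matrix (Fin 4) (Fin 4) K) + matK K g) *ᵥ v =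
      x • v + matK K g *ᵥ v := fun x v => by rw [Matrix.add_mulVec, Matrix.smul_mulVec, Matrix.one_mulVec]
  have hrdet : ∀ i, (r i • (1 : Matrix (Fin 4) (Fin 4) K) + matK K g).det = 0 := by
    intro i
    rw [det_add H K, hfac]
    fin_cases i
    · exact mul_eq_zero_of_left hl _
    · exact mul_eq_zero_of_left hli _
    · exact mul_eq_zero_of_right _ hu
    · exact mul_eq_zero_of_right _ hui
  have hvec : ∀ i, ∃ v : Fin 4 → K, v ≠ 0 ∧ matK K g *ᵥ v = r i • v := by
    intro i
    obtain ⟨v, hv, hv0⟩ := Matrix.exists_mulVec_eq_zero_iff.2 (hrdet i)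
    refine ⟨v, hv, ?_⟩
    rw [hsmul] at hv0
    funext k
    have := congrFun hv0 k
    simp only [Pi.add_apply, Pi.smul_apply, smul_eq_mul, Pi.zero_apply] at this ⊢
    linear_combination this - (r i * v k) * two
  choose v hv0 hv using hvec
  have hlin : LinearIndependent K v :=
    Module.End.eigenvectors_linearIndependent' (Matrix.toLin' (matK K g)) r hrinj v fun i =>
      Module.End.hasEigenvector_iff.2 ⟨Module.End.mem_eigenspace_iff.2 (by
        rw [Matrix.toLin'_apply, hv]), hv0 i⟩
  let b := basisOfLinearIndependentOfCardEqFinrank hlin (by simp)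
  refine ⟨r, b, hrinj, fun i => ?_, fun x w hw hx => ?_⟩
  · simp only [b, coe_basisOfLinearIndependentOfCardEqFinrank]
    exact hv i
  · have hd : (x • (1 : Matrix (Fin 4) (Fin 4) K) + matK K g).det = 0 :=
      Matrix.exists_mulVec_eq_zero_iff.1 ⟨w, hw, by
        rw [hsmul, hx]
        funext k
        simp only [Pi.add_apply, Pi.smul_apply, smul_eq_mul, Pi.zero_apply]
        linear_combination (x * w k) * two⟩
    rw [det_add H K, hfac] at hd
    rcases mul_eq_zero.1 hd with h | h
    · rcases hquad hl h with h | h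
      · exact ⟨0, h⟩
      · exact ⟨1, h⟩
    · rcases hquad hu h with h | h
      · exact ⟨2, h⟩
      · exact ⟨3, h⟩

/-- An element commuting with `g` is scalar on each eigenline. -/
theorem scalar_of_commute {g c : Sz F e} (hc : g * c = c * g) {r : Fin 4 → K}
    {b : Module.Basis (Fin 4) K (Fin 4 → K)} (hr : Function.Injective r)
    (hb : ∀ i, matK K g *ᵥ b i = r i • b i) (i : Fin 4) :
    matK K c *ᵥ b i = b.repr (matK K c *ᵥ b i) i • b i := by
  set w := matK K c *ᵥ b i with hw
  have h1 : matK K g *ᵥ w = r i • w := by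
    rw [hw, Matrix.mulVec_mulVec, ← matK_mul H, hc, matK_mul H, ← Matrix.mulVec_mulVec, hb,
      Matrix.mulVec_smul]
  have h2 : ∀ j, j ≠ i → b.repr w j = 0 := by
    intro j hj
    have h3 : b.repr (matK K g *ᵥ w) j = r j * b.repr w j := by
      conv_lhs => rw [← b.sum_repr w, Matrix.mulVec_sum]
      simp only [Matrix.mulVec_smul, hb, smul_smul, map_sum, map_smul, Finsupp.coe_finset_sum,
        Finset.sum_apply, Module.Basis.repr_self, Finsupp.smul_single, smul_eq_mul, mul_one]
      rw [Finset.sum_eq_single j (fun k _ hk => Finsupp.single_eq_of_ne hk.symm) (by simp),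
        Finsupp.single_eq_same, mul_comm]
    rw [h1, map_smul, Finsupp.smul_apply, smul_eq_mul] at h3
    exact (mul_eq_zero.1 (show (r i - r j) * b.repr w j = 0 by linear_combination h3)).resolve_left
      (sub_ne_zero.2 (hr.ne hj.symm))
  conv_lhs => rw [← b.sum_repr w]
  exact Finset.sum_eq_single i (fun j _ hj => by rw [h2 j hj, zero_smul]) (by simp)

/-- An element of order two cannot commute with an element of trace non-zero. -/
theorem eq_one_of_sq_commute {g c : Sz F e} (hg : g ^ 4 ≠ 1) (hc : g * c = c * g) (h2 : c * c = 1) :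
    c = 1 := by
  let K' := AlgebraicClosure F
  obtain ⟨r, b, hr, hb, -⟩ := exists_eigenbasis H K' hg
  haveI : CharP K' 2 := charP_ext H K'
  refine eq_of_matK H K' ?_
  refine Matrix.toLin'.injective (b.ext fun i => ?_)
  rw [Matrix.toLin'_apply, Matrix.toLin'_apply, matK_one H, Matrix.one_mulVec]
  have hs := scalar_of_commute H K' hc hr hb i
  set s := b.repr (matK K' c *ᵥ b i) i
  have h3 : matK K' (c * c) *ᵥ b i = (s * s) • b i := by
    rw [matK_mul H, ← Matrix.mulVec_mulVec, hs, Matrix.mulVec_smul, hs, smul_smul]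
  rw [h2, matK_one H, Matrix.one_mulVec] at h3
  have hs1 : s * s = 1 := by
    have h4 := congrArg (fun v => b.repr v i) h3
    simpa using h4.symm
  have : s = 1 := by
    have h5 : (s + 1) * (s + 1) = 0 := by
      linear_combination hs1 + (s + 1) * (CharTwo.two_eq_zero (R := K'))
    rw [mul_self_eq_zero] at h5
    exact CharTwo.add_eq_zero.1 h5
  rw [hs, this, one_smul]

/-- An element has order dividing four or odd order. -/
theorem odd_or_pow_four [Finite F] (g : Sz F e) : Odd (orderOf g) ∨ g ^ 4 = 1 := by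
  by_cases hg : g ^ 4 = 1
  · exact Or.inr hg
  left
  rw [← Nat.not_even_iff_odd]
  rintro ⟨k, hk⟩
  have hpos : 0 < orderOf g := orderOf_pos g
  have h1 : g ^ k = 1 := eq_one_of_sq_commute H hg (Commute.self_pow g k) (by
    rw [← pow_add, ← hk, pow_orderOf_eq_one])
  have := orderOf_le_of_pow_eq_one (by omega) h1
  omega

theorem pow_four_of_commute_involution {g z : Sz F e} (hz : z * z = 1) (hz1 : z ≠ 1)
    (h : g * z = z * g) : g ^ 4 = 1 := by
  by_contra hg
  exact hz1 (eq_one_of_sq_commute H hg h hz)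

/-- The eigenvalue of an element of the centraliser on a chosen eigenline of `g`. -/
theorem exists_character [Finite F] {g : Sz F e} (hg : g ^ 4 ≠ 1) :
    ∃ χ : Subgroup.centralizer ({g} : Set (Sz F e)) →* K, Function.Injective χ ∧
      ∃ v : Fin 4 → K, v ≠ 0 ∧ ∀ c : Subgroup.centralizer ({g} : Set (Sz F e)), matK K (c : Sz F e) *ᵥ v = χ c • v := by
  obtain ⟨r, b, hr, hb, -⟩ := exists_eigenbasis H K hg
  have hcom : ∀ c : Subgroup.centralizer ({g} : Set (Sz F e)), g * (c : Sz F e) = c * g := fun c =>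
    Subgroup.mem_centralizer_singleton_iff.1 c.2 |>.symm
  have hs := fun c : Subgroup.centralizer ({g} : Set (Sz F e)) =>
    scalar_of_commute H K (hcom c) hr hb 0
  let χ : Subgroup.centralizer ({g} : Set (Sz F e)) →* K :=
    { toFun := fun c => b.repr (matK K (c : Sz F e) *ᵥ b 0) 0
      map_one' := by simp [matK_one H]
      map_mul' := fun c d => by
        rw [Subgroup.coe_mul, matK_mul H, ← Matrix.mulVec_mulVec, hs d, Matrix.mulVec_smul, hs c]
        simp [smul_smul, mul_comm] }
  refine ⟨χ, (injective_iff_map_eq_one χ).2 fun c hc => ?_, b 0, b.ne_zero 0, hs⟩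
  have h1 : matK K (c : Sz F e) *ᵥ b 0 = b 0 := by
    rw [hs c, show b.repr (matK K (c : Sz F e) *ᵥ b 0) 0 = 1 from hc, one_smul]
  obtain ⟨k, hk⟩ := H.two_pow
  have hdet : (mat (c : Sz F e) - 1).det = 0 := by
    apply (algebraMap F K).injective
    rw [map_zero, RingHom.map_det, map_sub, map_one]
    refine Matrix.exists_mulVec_eq_zero_iff.1 ⟨b 0, b.ne_zero 0, ?_⟩
    show (matK K (c : Sz F e) - 1) *ᵥ b 0 = 0
    rw [Matrix.sub_mulVec, Matrix.one_mulVec, h1, sub_self]
  haveI := H.charP
  have h4 : (c : Sz F e) ^ 4 = 1 := Subtype.ext (Units.ext (by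
    simpa using CfsgLib.Recog.pow_four_eq_one_of_fixed hk (c : Sz F e).2 hdet))
  apply Subtype.ext
  have h2 : (c : Sz F e) ^ 2 = 1 := eq_one_of_sq_commute H hg
    (by simpa using (Commute.pow_right (show Commute g (c : Sz F e) from hcom c) 2).eq)
    (by rw [← pow_add]; exact h4)
  exact eq_one_of_sq_commute H hg (hcom c) (by rw [← sq]; exact h2)

omit [IsAlgClosed K] in
/-- The centraliser of an element of order not dividing four is cyclic. -/
theorem isCyclic_centralizer [Finite F] {g : Sz F e} (hg : g ^ 4 ≠ 1) :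
    IsCyclic (Subgroup.centralizer ({g} : Set (Sz F e))) := by
  obtain ⟨χ, hχ, -⟩ := exists_character H (AlgebraicClosure F) hg
  exact isCyclic_of_injective_ringHom χ hχ

end CfsgLib.KnownA.Suzuki
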