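import Cfsg.Agent.Lib.KnownA.Suzuki.Real
import Cfsg.Prelude.Def_Transfer

/-!
Trivial-intersection elementary abelian `2`-subgroups of the Suzuki groups.
-/

set_option autoImplicit false

namespace CfsgLib.KnownA.Suzuki

open Matrix Cfsg.Lie

/-- An elementary abelian subgroup of order `2 ^ n` with trivial intersections. -/
def HasTIElementary (G : Type*) [Group G] (n : ℕ) : Prop :=
  ∃ E : Subgroup G, Cfsg.IsElementaryAbelian 2 E ∧ Nat.card E = 2 ^ n ∧
    ∀ x : G, E ⊓ E.map (MulAut.conj x).toMonoidHom ≠ ⊥ → x ∈ Subgroup.normalizer (E : Set G)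

theorem HasTIElementary.of_equiv {G G' : Type*} [Group G] [Group G'] (f : G ≃* G') {n : ℕ}
    (h : HasTIElementary G n) : HasTIElementary G' n := by
  obtain ⟨E, ⟨hc, h2⟩, hcard, hti⟩ := h
  refine ⟨E.map f.toMonoidHom, ⟨?_, ?_⟩, ?_, fun x hx => ?_⟩
  · constructor
    constructor
    rintro ⟨_, a, ha, rfl⟩ ⟨_, b, hb, rfl⟩
    apply Subtype.ext
    show f a * f b = f b * f a
    rw [← map_mul, ← map_mul]
    exact congrArg f (congrArg Subtype.val (hc.is_comm.comm ⟨a, ha⟩ ⟨b, hb⟩))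
  · rintro _ ⟨a, ha, rfl⟩
    show f a ^ 2 = 1
    rw [← map_pow, h2 a ha, map_one]
  · rw [Subgroup.card_map_of_injective f.injective, hcard]
  · obtain ⟨x, rfl⟩ := f.surjective x
    rw [← Subgroup.map_equiv_normalizer_eq]
    refine ⟨x, hti x fun hbot => hx ?_, rfl⟩
    have e1 : (E.map f.toMonoidHom).map (MulAut.conj (f x)).toMonoidHom =
        (E.map (MulAut.conj x).toMonoidHom).map f.toMonoidHom := by
      rw [Subgroup.map_map, Subgroup.map_map]
      congr 1
      ext y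
      simp
    rw [e1, ← Subgroup.map_inf _ _ _ f.injective, hbot, Subgroup.map_bot]

variable {F : Type*} [Field F] [Fintype F] {e m : ℕ} (H : TitsField F e)
  (hF : Fintype.card F = 2 ^ (2 * m + 1))

include H hF

theorem exists_conj_sz {g : Sz F e} (P : Sylow 2 (Sz F e)) {k : Sz F e}
    (hk : ∀ g, g ∈ (P : Subgroup (Sz F e)) ↔ k⁻¹ * g * k ∈ uni H) (hg : g ∈ (P : Subgroup (Sz F e)))
    (h2 : g ^ 2 = 1) : ∃ b, g = k * sz H b * k⁻¹ := by
  obtain ⟨a, b, hu⟩ := (hk g).1 hg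
  have h : (k⁻¹ * g * k) ^ 2 = 1 := by
    rw [show k⁻¹ * g * k = k⁻¹ * g * k⁻¹⁻¹ by rw [inv_inv], conj_pow, h2, mul_one, mul_inv_cancel]
  rw [hu, sq, su_mul, H.add_self, H.add_self, zero_add] at h
  have ha := (su_inj H (h.trans (su_zero H).symm)).2
  have ha0 : a = 0 := by
    rw [← pow_succ] at ha
    exact (pow_eq_zero_iff (Nat.succ_ne_zero e)).1 ha
  refine ⟨b, ?_⟩
  rw [ha0] at hu
  rw [show sz H b = k⁻¹ * g * k from hu.symm]
  group

theorem dvd_of_hasTIElementary {n : ℕ} (hn : 1 ≤ n) (h : HasTIElementary (Sz F e) n) :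
    n ∣ 2 * m + 1 := by
  haveI := Fact.mk Nat.prime_two
  obtain ⟨E, ⟨-, h2⟩, hcard, hti⟩ := h
  obtain ⟨P, hP⟩ := (IsPGroup.of_card (p := 2) hcard).exists_le_sylow
  obtain ⟨k, hk⟩ := exists_sylow_conj_uni H hF P
  let A : AddSubgroup F :=
    { carrier := {b | k * sz H b * k⁻¹ ∈ E}
      zero_mem' := by
        show k * su H 0 0 * k⁻¹ ∈ E
        rw [su_zero, mul_one, mul_inv_cancel]
        exact E.one_mem
      add_mem' := fun {a c} ha hc => by
        show k * sz H (a + c) * k⁻¹ ∈ E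
        have := E.mul_mem ha hc
        rwa [show k * sz H a * k⁻¹ * (k * sz H c * k⁻¹) = k * (sz H a * sz H c) * k⁻¹ by group,
          sz_mul] at this
      neg_mem' := fun {a} h => by rwa [H.neg_eq] }
  have hA : Nat.card A = 2 ^ n := by
    rw [← hcard]
    refine Nat.card_eq_of_bijective (fun b : A => (⟨k * sz H b.1 * k⁻¹, b.2⟩ : E)) ⟨fun a b hab => ?_, ?_⟩
    · exact Subtype.ext (su_inj H (conj_injective (congrArg Subtype.val hab))).2
    · rintro ⟨g, hg⟩
      obtain ⟨b, rfl⟩ := exists_conj_sz H hF P hk (hP hg) (h2 g hg)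
      exact ⟨⟨b, hg⟩, rfl⟩
  have hscale : ∀ r : F, ∀ b ∈ A, b ≠ 0 → r * b ∈ A → ∀ a ∈ A, r * a ∈ A := by
    intro r b hb hb0 hrb a ha
    by_cases hr : r = 0
    · rw [hr, zero_mul]; exact A.zero_mem
    have hsurj : Function.Surjective fun x : Fˣ => x ^ (e + 2) :=
      Finite.surjective_of_injective fun x y hxy => by
        have h0 : x ^ (e + 2) = y ^ (e + 2) := hxy
        have h' : ((x * y⁻¹ : Fˣ) : F) ^ (e + 2) = 1 := by
          rw [← Units.val_pow_eq_pow_val, mul_pow, inv_pow, h0, mul_inv_cancel, Units.val_one]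
        exact mul_inv_eq_one.1 (Units.ext (H.eq_one_of_pow_add_two h'))
    obtain ⟨s, hs⟩ := hsurj (Units.mk0 r hr)
    have hs' : (s : F) ^ (e + 2) = r := congrArg Units.val hs
    have hact : ∀ c : F, k * sh H s⁻¹ * k⁻¹ * (k * sz H c * k⁻¹) * (k * sh H s⁻¹ * k⁻¹)⁻¹ =
        k * sz H (r * c) * k⁻¹ := by
      intro c
      rw [show k * sh H s⁻¹ * k⁻¹ * (k * sz H c * k⁻¹) * (k * sh H s⁻¹ * k⁻¹)⁻¹ =
        k * (sh H s⁻¹ * (sz H c * (sh H s⁻¹)⁻¹)) * k⁻¹ by group, sh_inv, inv_inv, sz_mul_sh,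
        ← mul_assoc (sh H s⁻¹), sh_mul, inv_mul_cancel, sh_one, one_mul, hs']
    have hx : k * sh H s⁻¹ * k⁻¹ ∈ Subgroup.normalizer (E : Set (Sz F e)) := by
      refine hti _ fun hbot => ?_
      have hmem : k * sz H (r * b) * k⁻¹ ∈ E ⊓ E.map (MulAut.conj (k * sh H s⁻¹ * k⁻¹)).toMonoidHom :=
        ⟨hrb, ⟨_, hb, hact b⟩⟩
      rw [hbot, Subgroup.mem_bot, conj_eq_one_iff, ← su_zero H] at hmem
      exact mul_ne_zero hr hb0 (su_inj H hmem).2
    have := (Subgroup.mem_normalizer_iff.1 hx _).1 ha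
    rw [hact] at this
    exact this
  let K : _root_.Subfield F :=
    { carrier := {r | ∀ a ∈ A, r * a ∈ A}
      one_mem' := fun a ha => by rwa [one_mul]
      zero_mem' := fun a _ => by rw [zero_mul]; exact A.zero_mem
      mul_mem' := fun {x y} hx hy a ha => by rw [mul_assoc]; exact hx _ (hy a ha)
      add_mem' := fun {x y} hx hy a ha => by rw [add_mul]; exact A.add_mem (hx a ha) (hy a ha)
      neg_mem' := fun {x} hx a ha => by rw [neg_mul]; exact A.neg_mem (hx a ha)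
      inv_mem' := fun x hx a ha => by
        by_cases hx0 : x = 0
        · rw [hx0, _root_.inv_zero, zero_mul]; exact A.zero_mem
        have hsurj : Function.Surjective fun c : A => (⟨x * c.1, hx c.1 c.2⟩ : A) :=
          Finite.surjective_of_injective fun c d hcd =>
            Subtype.ext (mul_left_cancel₀ hx0 (congrArg Subtype.val hcd))
        obtain ⟨⟨c, hc⟩, hca⟩ := hsurj ⟨a, ha⟩
        rw [← show x * c = a from congrArg Subtype.val hca, inv_mul_cancel_left₀ hx0]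
        exact hc }
  obtain ⟨⟨a0, ha0⟩, hne⟩ : ∃ a : A, a ≠ 0 := by
    haveI : Nontrivial A := Finite.one_lt_card_iff_nontrivial.1 (by
      rw [hA]; exact Nat.one_lt_two_pow (by omega))
    exact exists_ne 0
  have ha00 : a0 ≠ 0 := fun h => hne (Subtype.ext h)
  have hK : Nat.card K = 2 ^ n := by
    rw [← hA]
    refine Nat.card_eq_of_bijective (fun r : K => (⟨(r : F) * a0, r.2 a0 ha0⟩ : A)) ⟨fun r s hrs => ?_, ?_⟩
    · exact Subtype.ext (mul_right_cancel₀ ha00 (congrArg Subtype.val hrs))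
    · rintro ⟨a, ha⟩
      refine ⟨⟨a / a0, fun b hb => hscale _ a0 ha0 ha00 ?_ b hb⟩, Subtype.ext (div_mul_cancel₀ a ha00)⟩
      rwa [div_mul_cancel₀ a ha00]
  haveI : Module.Finite K F := Module.Finite.of_finite
  have h3 := Module.natCard_eq_pow_finrank (K := K) (V := F)
  rw [hK, Nat.card_eq_fintype_card, hF, ← pow_mul] at h3
  exact ⟨_, Nat.pow_right_injective le_rfl h3⟩

theorem hasTIElementary_of_dvd {n : ℕ} (hn : n ∣ 2 * m + 1) : HasTIElementary (Sz F e) n := by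
  classical
  have hchar := H.two
  have hfrob : ∀ x y : F, (x + y) ^ 2 ^ n = x ^ 2 ^ n + y ^ 2 ^ n := by
    haveI := H.charP
    haveI := Fact.mk Nat.prime_two
    exact fun x y => add_pow_char_pow x y 2 n
  let E : Subgroup (Sz F e) :=
    { carrier := {g | ∃ a : F, a ^ 2 ^ n = a ∧ g = sz H a}
      one_mem' := ⟨0, zero_pow (by positivity), (su_zero H).symm⟩
      mul_mem' := by
        rintro _ _ ⟨a, ha, rfl⟩ ⟨c, hc, rfl⟩
        exact ⟨a + c, by rw [hfrob, ha, hc], sz_mul H a c⟩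
      inv_mem' := by
        rintro _ ⟨a, ha, rfl⟩
        exact ⟨a, ha, by rw [su_inv]; simp [zero_pow H.e_ne]⟩ }
  refine ⟨E, ⟨?_, ?_⟩, ?_, ?_⟩
  · constructor
    constructor
    rintro ⟨_, a, -, rfl⟩ ⟨_, c, -, rfl⟩
    exact Subtype.ext (by show sz H a * sz H c = sz H c * sz H a; rw [sz_mul, sz_mul, add_comm])
  · rintro _ ⟨a, -, rfl⟩
    rw [sq, sz_mul, H.add_self]
    exact su_zero H
  · have hA : Nat.card E = Set.ncard {a : F | a ^ 2 ^ n = a} := by
      rw [← Nat.card_coe_set_eq]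
      exact (Nat.card_eq_of_bijective (fun a : {a : F | a ^ 2 ^ n = a} =>
        (⟨sz H a.1, a.1, a.2, rfl⟩ : E)) ⟨fun a c h => Subtype.ext (su_inj H (congrArg Subtype.val h)).2,
        fun ⟨_, a, ha, h⟩ => ⟨⟨a, ha⟩, Subtype.ext h.symm⟩⟩).symm
    have hset : {a : F | a ^ 2 ^ n = a} =
        insert 0 (Units.val '' ((powMonoidHom (2 ^ n - 1) : Fˣ →* Fˣ).ker : Set Fˣ)) := by
      ext a
      by_cases ha : a = 0
      · simp [ha]
      have hsplit : a ^ 2 ^ n = a ^ (2 ^ n - 1) * a := by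
        rw [← pow_succ, Nat.sub_add_cancel Nat.one_le_two_pow]
      simp only [Set.mem_setOf_eq, hsplit, mul_eq_right₀ ha, Set.mem_insert_iff, ha, false_or,
        Set.mem_image, SetLike.mem_coe, MonoidHom.mem_ker, powMonoidHom_apply]
      refine ⟨fun h => ⟨Units.mk0 a ha, Units.ext (by simpa using h), rfl⟩, ?_⟩
      rintro ⟨u, hu, rfl⟩
      rw [← Units.val_pow_eq_pow_val, hu, Units.val_one]
    rw [hA, hset, Set.ncard_insert_of_notMem (by simp) (Set.toFinite _),
      Set.ncard_image_of_injective _ Units.val_injective, ← Nat.card_coe_set_eq, SetLike.coe_sort_coe,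
      IsCyclic.card_powMonoidHom_ker, Nat.card_units, Nat.card_eq_fintype_card, hF,
      Nat.pow_sub_one_gcd_pow_sub_one, Nat.gcd_eq_right hn,
      Nat.sub_add_cancel Nat.one_le_two_pow]
  · intro x hx
    obtain ⟨g, hg, hg1⟩ : ∃ g ∈ E ⊓ E.map (MulAut.conj x).toMonoidHom, g ≠ 1 := by
      by_contra hc
      push Not at hc
      exact hx ((Subgroup.eq_bot_iff_forall _).2 hc)
    obtain ⟨⟨a, ha, rfl⟩, g', ⟨c, hc, rfl⟩, hgx⟩ := hg
    have hxc : x * sz H c * x⁻¹ = sz H a := hgx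
    have hxb : x ∈ borel H := by
      refine mem_borel_of_moves H ?_
      obtain ⟨p, hp⟩ := exists_moves H x none
      have hfix : Moves H (su H 0 a) p p := by
        show Moves H (sz H a) p p
        rw [← hxc]
        exact Moves.trans H (Moves.symm H hp) (Moves.trans H (borel_moves H (su_mem_borel H 0 c)) hp)
      rw [su_unique_fixed H hF hg1 hfix] at hp
      exact hp
    obtain ⟨u, v, s, rfl⟩ := hxb
    set r : F := ((s⁻¹ : Fˣ) : F) ^ (e + 2) with hr
    have hact : ∀ d : F, su H u v * sh H s * sz H d * (su H u v * sh H s)⁻¹ = sz H (r * d) := by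
      intro d
      rw [mul_inv_eq_iff_eq_mul, mul_assoc, sh_mul_su, mul_zero, ← mul_assoc, ← sz_mul_su, ← mul_assoc,
        ← hr]
    rw [hact] at hxc
    have hrc := (su_inj H hxc).2
    have hc0 : c ≠ 0 := by
      rintro rfl
      rw [mul_zero] at hrc
      exact hg1 (by rw [← hrc]; exact su_zero H)
    have hr0 : r ≠ 0 := pow_ne_zero _ (Units.ne_zero _)
    have hrK : r ^ 2 ^ n = r := by
      have h1 : r = a / c := by rw [eq_div_iff hc0, hrc]
      rw [h1, div_pow, ha, hc]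
    rw [Subgroup.mem_normalizer_iff]
    refine fun g => ⟨?_, ?_⟩
    · rintro ⟨d, hd, rfl⟩
      exact ⟨r * d, by rw [mul_pow, hrK, hd], hact d⟩
    · rintro ⟨d, hd, hgd⟩
      refine ⟨r⁻¹ * d, by rw [mul_pow, inv_pow, hrK, hd], ?_⟩
      have h1 := hact (r⁻¹ * d)
      rw [← mul_assoc, mul_inv_cancel₀ hr0, one_mul, ← hgd] at h1
      exact (conj_injective h1).symm

end CfsgLib.KnownA.Suzuki
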