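import Cfsg.Agent.Lib.KnownA.Suzuki.Subgroups
import Cfsg.Agent.Lib.KnownA.Suzuki.Coset
import Cfsg.Agent.Lib.KnownA.Suzuki.Subfield

/-!
Point stabilisers of transitive actions of a Suzuki group in which no non-trivial element fixes three points.
-/

set_option autoImplicit false

namespace CfsgLib.KnownA.Suzuki

open MulAction Cfsg.Lie

/-- Counting the points fixed by an element in a transitive action. -/
theorem natCard_fixedBy_mul {G Ω : Type*} [Group G] [MulAction G Ω] [IsPretransitive G Ω] (α : Ω)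
    (g : G) :
    Nat.card (fixedBy Ω g) * Nat.card (stabilizer G α) =
      Nat.card {k : G // k⁻¹ * g * k ∈ stabilizer G α} := by
  rw [← Nat.card_prod]
  have hex : ∀ ω : fixedBy Ω g, ∃ k : G, k • α = ω := fun ω => exists_smul_eq G α (ω : Ω)
  choose s hs using hex
  have hkey : ∀ (k : G) (h : k⁻¹ * g * k ∈ stabilizer G α), g • (k • α) = k • α := by
    intro k h
    rw [mem_stabilizer_iff, mul_smul, mul_smul, inv_smul_eq_iff] at h
    exact h
  refine Nat.card_eq_of_bijective
    (fun p : fixedBy Ω g × stabilizer G α => (⟨s p.1 * p.2, ?_⟩ : {k : G // k⁻¹ * g * k ∈ stabilizer G α}))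
    ⟨?_, ?_⟩
  · have hω : g • ((p.1 : Ω)) = p.1 := p.1.2
    have hp : (p.2 : G) • α = α := p.2.2
    rw [mem_stabilizer_iff, mul_smul, mul_smul, inv_smul_eq_iff, mul_smul, hp, hs, hω]
  · rintro ⟨ω, h⟩ ⟨ω', h'⟩ he
    have e : s ω * h = s ω' * h' := congrArg Subtype.val he
    have hh : (h : G) • α = α := h.2
    have hh' : (h' : G) • α = α := h'.2
    have e1 : (s ω * h) • α = s ω • α := by rw [mul_smul, hh]
    have e2 : (s ω' * h') • α = s ω' • α := by rw [mul_smul, hh']
    have hω : ω = ω' := Subtype.ext (by rw [← hs ω, ← hs ω', ← e1, e, e2])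
    subst hω
    exact Prod.ext rfl (Subtype.ext (mul_left_cancel e))
  · rintro ⟨k, hk⟩
    let ω : fixedBy Ω g := ⟨k • α, hkey k hk⟩
    refine ⟨(ω, ⟨(s ω)⁻¹ * k, ?_⟩), Subtype.ext (by simp)⟩
    rw [mem_stabilizer_iff, mul_smul, inv_smul_eq_iff, hs]

/-- The index of a normal subgroup can only drop in a subgroup. -/
theorem relIndex_dvd_of_normal_le {G : Type*} [Group G] {U S N : Subgroup G} (hS : S ≤ N)
    (hN : N ≤ Subgroup.normalizer (U : Set G)) : U.relIndex S ∣ U.relIndex N := by
  haveI : (U.subgroupOf N).Normal := Subgroup.normal_subgroupOf_of_le_normalizer hN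
  have h := Subgroup.relIndex_dvd_index_of_normal (U.subgroupOf N) (S.subgroupOf N)
  rwa [Subgroup.relIndex_subgroupOf hS] at h

variable {F : Type*} [Field F] [Fintype F] {e m : ℕ} (H : TitsField F e) (hm : 1 ≤ m)
  (hF : Fintype.card F = 2 ^ (2 * m + 1)) (he : e = 2 ^ (m + 1))

include H

/-- All involutions are conjugate to the standard one. -/
theorem exists_conj_involution (hF : Fintype.card F = 2 ^ (2 * m + 1)) {w : Sz F e} (hw : w * w = 1)
    (hw1 : w ≠ 1) : ∃ l : Sz F e, l⁻¹ * sz H 1 * l = w := by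
  obtain ⟨P, hP⟩ := exists_sylow_mem H hF (g := w) (by simp only [pow_succ, pow_zero, one_mul, hw])
  obtain ⟨k, hk⟩ := exists_sylow_conj_uni H hF P
  obtain ⟨b, hb⟩ := exists_conj_sz H hF P hk hP (by rw [sq, hw])
  have hb0 : b ≠ 0 := by
    rintro rfl
    rw [show sz H (0 : F) = 1 from su_zero H, mul_one, mul_inv_cancel] at hb
    exact hw1 hb
  obtain ⟨t, ht⟩ := Finite.surjective_of_injective (f := fun x : Fˣ => x ^ (e + 2))
    (fun x y h => pow_e2_inj H x y h) (Units.mk0 b hb0)
  refine ⟨sh H t * k⁻¹, ?_⟩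
  have ht' : (t : F) ^ (e + 2) = b := congrArg Units.val ht
  rw [hb, _root_.mul_inv_rev, inv_inv, sh_inv,
    show k * sh H t⁻¹ * sz H 1 * (sh H t * k⁻¹) = k * (sh H t⁻¹ * (sz H 1 * sh H t)) * k⁻¹ by group,
    sz_mul_sh, mul_one, ← mul_assoc (sh H t⁻¹), sh_mul, inv_mul_cancel, sh_one, one_mul, ht']

omit [Fintype F] in
/-- The normaliser of the diagonal torus permutes its two fixed points. -/
theorem mem_normalizer_tor_cases {t : Fˣ} (ht1 : t ≠ 1) {w : Sz F e}
    (hw : w ∈ Subgroup.normalizer (tor H : Set (Sz F e))) : w ∈ tor H ∨ sw H * w ∈ tor H := by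
  have htwo : ∀ a, Moves H (sh H t) a a → ∀ b, Moves H w a b → b = none ∨ b = some (0, 0) := by
    intro a ha b hb
    obtain ⟨s, hs⟩ := (Subgroup.mem_normalizer_iff.1 hw _).1 (⟨t, rfl⟩ : sh H t ∈ tor H)
    have hs1 : sh H s ≠ 1 := by
      rw [← hs]
      intro h
      exact ht1 (sh_inj H ((conj_eq_one_iff.1 h).trans (sh_one H).symm))
    have hbfix : Moves H (sh H s) b b := by
      rw [← hs]
      exact Moves.trans H (Moves.symm H hb) (Moves.trans H ha hb)
    by_contra hne'
    push Not at hne'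
    exact hs1 (eq_one_of_three H (p := none) (q := some (0, 0)) (r := b) (by simp)
      hne'.2.symm hne'.1.symm (toSL_sh_none H s) (sh_moves_zero H s) hbfix)
  obtain ⟨b, hb⟩ := exists_moves H w none
  obtain ⟨c, hc⟩ := exists_moves H w (some (0, 0))
  have hb' := htwo none (toSL_sh_none H t) b hb
  have hc' := htwo _ (sh_moves_zero H t) c hc
  have hbc : b ≠ c := by
    rintro rfl
    simpa using Moves.unique H (Moves.symm H hb) (Moves.symm H hc)
  have hw' : Moves H (sw H) (some (0, 0)) none := by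
    have := Moves.symm H (sw_moves_none H)
    rwa [inv_eq_of_mul_eq_one_right (sw_sq H)] at this
  rcases hb' with rfl | rfl <;> rcases hc' with rfl | rfl
  · exact absurd rfl hbc
  · exact Or.inl (exists_sh_of_moves H hb hc)
  · exact Or.inr (exists_sh_of_moves H (Moves.trans H hb hw') (Moves.trans H hc (sw_moves_none H)))
  · exact absurd rfl hbc

include hm hF he in
theorem natCard_normalizer_torus_le {U : Subgroup (Sz F e)} (hUc : IsCyclic U)
    (hU : Nat.card U = 2 ^ (2 * m + 1) - 1 ∨ Nat.card U = kp m ∨ Nat.card U = km m) :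
    Nat.card (Subgroup.normalizer (U : Set (Sz F e))) ≤ 4 * Nat.card U := by
  classical
  obtain ⟨-, ho, hU1⟩ := pairwise_coprime H hm hU hU dvd_rfl
  obtain ⟨u, hu, hu1⟩ : ∃ u ∈ U, u ≠ 1 := by
    by_contra hc
    push Not at hc
    exact hU1 (by rw [(Subgroup.eq_bot_iff_forall _).2 hc, Subgroup.card_bot])
  have hu4 : u ^ 4 ≠ 1 := fun h4 => hu1 (orderOf_eq_one_iff.1
    (Nat.eq_one_of_dvd_coprimes (Nat.Coprime.pow_right 2 (Nat.coprime_two_right.2 ho))
      (Subgroup.orderOf_dvd_natCard U hu) (orderOf_dvd_of_pow_eq_one h4)))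
  have hUC : U = Subgroup.centralizer ({u} : Set (Sz F e)) := by
    have hle : U ≤ Subgroup.centralizer ({u} : Set (Sz F e)) := fun x hx => by
      letI := hUc.commGroup
      exact Subgroup.mem_centralizer_singleton_iff.2
        (congrArg Subtype.val (mul_comm (⟨x, hx⟩ : U) ⟨u, hu⟩))
    refine Subgroup.eq_of_le_of_card_ge hle (le_of_eq ?_)
    exact ((pairwise_coprime H hm hU (natCard_centralizer_cases H hm hF he hu4)
      (Subgroup.card_dvd_of_le hle)).1).symm
  subst hUC
  by_cases hf : Fpf H u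
  · exact (natCard_normalizer H hm hF he hf).le
  unfold Fpf at hf
  push Not at hf
  obtain ⟨p, hp⟩ := hf
  obtain ⟨q, hq, hne⟩ : ∃ q, Moves H u q q ∧ q ≠ p := by
    by_contra hc
    push Not at hc
    exact hu4 (pow_four_of_unique H hp hc)
  obtain ⟨k, hk1, hk2⟩ := exists_moves_pair H (Ne.symm hne)
  obtain ⟨t, ht⟩ := exists_sh_of_moves H (Moves.conj H hk1 hp) (Moves.conj H hk2 hq)
  have ht1 : t ≠ 1 := by
    rintro rfl
    rw [sh_one] at ht
    apply hu4
    have := congrArg (fun x => k * x * k⁻¹) ht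
    simp [mul_assoc] at this
    rw [this, one_pow]
  have hgk : u = k * sh H t * k⁻¹ := by rw [← ht]; group
  subst hgk
  rw [centralizer_conj H, centralizer_sh H ht1, ← Subgroup.map_equiv_normalizer_eq,
    Subgroup.card_map_of_injective (f := (MulAut.conj k).toMonoidHom) (MulAut.conj k).injective,
    Subgroup.card_map_of_injective (f := (MulAut.conj k).toMonoidHom) (MulAut.conj k).injective]
  have hsplit : ∀ w : Subgroup.normalizer (tor H : Set (Sz F e)),
      (w : Sz F e) ∈ tor H ∨ sw H * w ∈ tor H := fun w => mem_normalizer_tor_cases H ht1 w.2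
  have hle : Nat.card (Subgroup.normalizer (tor H : Set (Sz F e))) ≤ Nat.card (Bool × tor H) := by
    refine Nat.card_le_card_of_injective (fun w => if h : (w : Sz F e) ∈ tor H then (true, ⟨_, h⟩)
      else (false, ⟨sw H * w, (hsplit w).resolve_left h⟩)) ?_
    intro w w' h
    simp only at h
    split_ifs at h with h1 h2 h2
    · exact Subtype.ext (congrArg (fun x : Bool × tor H => (x.2 : Sz F e)) h)
    · exact absurd (congrArg Prod.fst h) (by simp)
    · exact absurd (congrArg Prod.fst h) (by simp)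
    · exact Subtype.ext (mul_left_cancel (congrArg (fun x : Bool × tor H => (x.2 : Sz F e)) h))
  rw [Nat.card_prod, show Nat.card Bool = 2 by simp] at hle
  omega

include hm hF he in
theorem stabilizer_cases {Ω : Type*} [Finite Ω] [MulAction (Sz F e) Ω] [FaithfulSMul (Sz F e) Ω]
    [IsPretransitive (Sz F e) Ω] (hfix : ∀ g : Sz F e, g ≠ 1 → Nat.card (fixedBy Ω g) ≤ 2)
    (hex : ∃ g : Sz F e, g ≠ 1 ∧ Nat.card (fixedBy Ω g) = 2) (α : Ω) :
    (∃ k : Sz F e, stabilizer (Sz F e) α = (borel H).map (MulAut.conj k).toMonoidHom) ∨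
      Nat.card (stabilizer (Sz F e) α) = Fintype.card F - 1 := by
  classical
  haveI := Fact.mk Nat.prime_two
  set S := stabilizer (Sz F e) α with hS
  obtain ⟨g₀, hg₀, hg₀fix⟩ := hex
  have hStop : S ≠ ⊤ := by
    intro htop
    apply hg₀
    refine FaithfulSMul.eq_of_smul_eq_smul (α := Ω) fun ω => ?_
    obtain ⟨k, rfl⟩ := exists_smul_eq (Sz F e) α ω
    have h1 : k • α = α := (htop ▸ Subgroup.mem_top k : k ∈ S)
    rw [h1, one_smul]
    exact (htop ▸ Subgroup.mem_top g₀ : g₀ ∈ S)
  have hSbot : S ≠ ⊥ := by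
    intro hbot
    apply hg₀
    have hne : Nonempty (fixedBy Ω g₀) := (Nat.card_pos_iff.1 (by omega)).1
    obtain ⟨⟨ω, hω⟩⟩ := hne
    obtain ⟨k, rfl⟩ := exists_smul_eq (Sz F e) α ω
    have h1 : k⁻¹ * g₀ * k ∈ S := by
      rw [hS, mem_stabilizer_iff, mul_smul, mul_smul, inv_smul_eq_iff]
      exact hω
    rw [hbot, Subgroup.mem_bot] at h1
    have := congrArg (fun x => k * x * k⁻¹) h1
    simpa [mul_assoc] using this
  have hle2 : ∀ g : Sz F e, g ≠ 1 → Nat.card {k : Sz F e // k⁻¹ * g * k ∈ S} ≤ 2 * Nat.card S := by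
    intro g hg
    rw [← natCard_fixedBy_mul α g]
    exact Nat.mul_le_mul_right _ (hfix g hg)
  by_cases hodd : Odd (Nat.card S)
  · obtain ⟨g, hg, hle⟩ := le_centralizer_of_odd H hm hF he S hodd hSbot
    set C := Subgroup.centralizer ({g} : Set (Sz F e)) with hC
    obtain ⟨x, hxS, hx1⟩ : ∃ x ∈ S, x ≠ 1 := by
      by_contra hc
      push Not at hc
      exact hSbot ((Subgroup.eq_bot_iff_forall _).2 hc)
    haveI := isCyclic_centralizer H hg
    set N := Subgroup.normalizer (C : Set (Sz F e)) with hN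
    have hsub : Nat.card N ≤ 2 * Nat.card S := by
      refine le_trans ?_ (hle2 x hx1)
      refine Nat.card_le_card_of_injective (fun k : N => (⟨k, ?_⟩ : {k : Sz F e // k⁻¹ * x * k ∈ S}))
        (fun a b h => Subtype.ext (congrArg Subtype.val h :))
      obtain ⟨j, hj⟩ := MonoidHom.map_cyclic
          ({ toFun := fun y : C => ⟨(k : Sz F e)⁻¹ * y * k, by
               have := (Subgroup.mem_normalizer_iff.1 (N.inv_mem k.2) _).1 y.2
               simpa using this⟩
             map_one' := Subtype.ext (by simp)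
             map_mul' := fun y z => Subtype.ext (by simp [mul_assoc]) } : C →* C)
      have h2 : (k : Sz F e)⁻¹ * x * k = x ^ j := congrArg Subtype.val (hj ⟨x, hle hxS⟩)
      rw [h2]
      exact S.zpow_mem hxS j
    have hSC : Nat.card S ≤ Nat.card C := Nat.le_of_dvd Nat.card_pos (Subgroup.card_dvd_of_le hle)
    by_cases hf : Fpf H g
    · exfalso
      have h4 : Nat.card N = 4 * Nat.card C := natCard_normalizer H hm hF he hf
      have : 0 < Nat.card C := Nat.card_pos
      omega
    refine Or.inr ?_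
    unfold Fpf at hf
    push Not at hf
    obtain ⟨p, hp⟩ := hf
    obtain ⟨q, hq, hne⟩ : ∃ q, Moves H g q q ∧ q ≠ p := by
      by_contra hc
      push Not at hc
      exact hg (pow_four_of_unique H hp hc)
    obtain ⟨k, hk1, hk2⟩ := exists_moves_pair H (Ne.symm hne)
    obtain ⟨t, ht⟩ := exists_sh_of_moves H (Moves.conj H hk1 hp) (Moves.conj H hk2 hq)
    have ht1 : t ≠ 1 := by
      rintro rfl
      rw [sh_one] at ht
      apply hg
      have := congrArg (fun x => k * x * k⁻¹) ht
      simp [mul_assoc] at this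
      rw [this, one_pow]
    have hgk : g = k * sh H t * k⁻¹ := by rw [← ht]; group
    have hCk : C = (tor H).map (MulAut.conj k).toMonoidHom := by
      rw [hC, hgk, centralizer_conj H, centralizer_sh H ht1]
    have hcardC : Nat.card C = Fintype.card F - 1 := by
      rw [hCk, Subgroup.card_map_of_injective (MulAut.conj k).injective, natCard_tor H,
        Nat.card_eq_fintype_card]
    have hwN : k * sw H * k⁻¹ ∈ N := by
      rw [hN, hCk, ← Subgroup.map_equiv_normalizer_eq]
      refine ⟨sw H, ?_, rfl⟩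
      have key : ∀ y ∈ tor H, sw H * y * (sw H)⁻¹ ∈ tor H := by
        rintro _ ⟨s, rfl⟩
        refine ⟨s⁻¹, ?_⟩
        rw [mul_inv_eq_iff_eq_mul, sw_conj, inv_inv]
      refine Subgroup.mem_normalizer_iff.2 fun y => ⟨key y, fun h => ?_⟩
      have h' := key _ h
      rwa [show sw H * (sw H * y * (sw H)⁻¹) * (sw H)⁻¹ = sw H * sw H * y * (sw H * sw H)⁻¹ by group,
        sw_sq, inv_one, one_mul, mul_one] at h'
    have hwC : k * sw H * k⁻¹ ∉ C := by
      rw [hCk, Subgroup.mem_map_equiv]
      rintro ⟨s, hs⟩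
      rw [MulAut.conj_symm_apply, show k⁻¹ * (k * sw H * k⁻¹) * k = sw H by group] at hs
      exact sw_notMem_borel H (hs ▸ sh_mem_borel H s)
    have hlt : C < N := lt_of_le_of_ne Subgroup.le_normalizer fun h => hwC (h ▸ hwN)
    have h2C : 2 * Nat.card C ≤ Nat.card N := by
      obtain ⟨i, hi⟩ := Subgroup.card_dvd_of_le hlt.le
      rcases i with _ | _ | i
      · have : 0 < Nat.card N := Nat.card_pos
        omega
      · exact absurd (Subgroup.eq_of_le_of_card_ge hlt.le (by rw [hi]; simp)) hlt.ne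
      · rw [hi, mul_comm 2]
        exact Nat.mul_le_mul_left _ (by omega)
    omega
  refine Or.inl ?_
  set I : Set (Sz F e) := {w | w ∈ S ∧ w * w = 1 ∧ w ≠ 1} with hI
  have hz1 : sz H (1 : F) ≠ 1 := fun h => one_ne_zero (su_inj H (h.trans (su_zero H).symm)).2
  have hinv : Nat.card (uni H) * Nat.card I ≤ 2 * Nat.card S := by
    refine le_trans ?_ (hle2 _ hz1)
    have hw : ∀ w : I, ∃ l : Sz F e, l⁻¹ * sz H 1 * l = w := fun w =>
      exists_conj_involution H hF w.2.2.1 w.2.2.2
    choose l hl using hw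
    have hcomm : ∀ u ∈ uni H, u⁻¹ * sz H 1 * u = sz H 1 := by
      rintro _ ⟨a, b, rfl⟩
      rw [mul_assoc, sz_mul_su, inv_mul_cancel_left]
    rw [← Nat.card_prod]
    refine Nat.card_le_card_of_injective
      (fun p : uni H × I => (⟨p.1 * l p.2, ?_⟩ : {k : Sz F e // k⁻¹ * sz H 1 * k ∈ S})) ?_
    · rw [show ((p.1 : Sz F e) * l p.2)⁻¹ * sz H 1 * (p.1 * l p.2) =
        (l p.2)⁻¹ * ((p.1 : Sz F e)⁻¹ * sz H 1 * p.1) * l p.2 by group, hcomm _ p.1.2, hl]
      exact p.2.2.1
    · rintro ⟨u, w⟩ ⟨u', w'⟩ h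
      have h1 : (u : Sz F e) * l w = u' * l w' := congrArg Subtype.val h
      have hw' : w = w' := Subtype.ext (by
        rw [← hl w, ← hl w']
        have h2 := congrArg (fun x => x⁻¹ * sz H 1 * x) h1
        rwa [show ((u : Sz F e) * l w)⁻¹ * sz H 1 * (u * l w) =
          (l w)⁻¹ * ((u : Sz F e)⁻¹ * sz H 1 * u) * l w by group, hcomm _ u.2,
          show ((u' : Sz F e) * l w')⁻¹ * sz H 1 * (u' * l w') =
          (l w')⁻¹ * ((u' : Sz F e)⁻¹ * sz H 1 * u') * l w' by group, hcomm _ u'.2] at h2)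
      subst hw'
      exact Prod.ext (Subtype.ext (mul_right_cancel h1)) rfl
  rw [natCard_uni H, Nat.card_eq_fintype_card, hF] at hinv
  set q := 2 ^ (2 * m + 1) with hq
  have hq8 : 8 ≤ q := le_trans (by norm_num) (Nat.pow_le_pow_right two_pos (show 3 ≤ 2 * m + 1 by omega))
  obtain ⟨z, hz⟩ := exists_prime_orderOf_dvd_card' (G := S) 2 (Nat.not_odd_iff_even.1 hodd).two_dvd
  have hzI : (z : Sz F e) ∈ I := by
    refine ⟨z.2, ?_, fun h => ?_⟩
    · rw [← sq, ← Subgroup.coe_pow, ← hz, pow_orderOf_eq_one, Subgroup.coe_one]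
    · rw [show z = 1 from Subtype.ext h, orderOf_one] at hz
      exact absurd hz (by norm_num)
  have hIpos : 1 ≤ Nat.card I := by
    haveI : Nonempty I := ⟨⟨_, hzI⟩⟩
    exact Nat.card_pos
  rcases subgroup_classification H hm hF he S hStop with ⟨P, hP⟩ | ⟨U, hUc, hU, hSU⟩ |
    ⟨k, hk1, hkm, hdvd, K, iK, iK', hK, Sg, ⟨f⟩, hle⟩
  · -- inside a conjugate of the Borel subgroup
    obtain ⟨k, hk⟩ := exists_sylow_conj_uni H hF P
    refine ⟨k, ?_⟩
    have hPmap : (P : Subgroup (Sz F e)) = (uni H).map (MulAut.conj k).toMonoidHom := by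
      ext x
      rw [Subgroup.mem_map_equiv, MulAut.conj_symm_apply]
      exact hk x
    rw [hPmap, ← Subgroup.map_equiv_normalizer_eq, normalizer_uni] at hP
    set T : Subgroup (Sz F e) := S.map (MulAut.conj k⁻¹).toMonoidHom with hT
    have hmem : ∀ g, g ∈ T ↔ k * g * k⁻¹ ∈ S := fun g => by
      rw [hT, Subgroup.mem_map_equiv, MulAut.conj_symm_apply, inv_inv]
    have hTB : T ≤ borel H := fun g hg => by
      have := hP ((hmem g).1 hg)
      rw [Subgroup.mem_map_equiv, MulAut.conj_symm_apply,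
        show k⁻¹ * (k * g * k⁻¹) * k = g by group] at this
      exact this
    suffices hTeq : borel H ≤ T by
      ext g
      rw [Subgroup.mem_map_equiv, MulAut.conj_symm_apply]
      constructor
      · intro hg
        exact hTB ((hmem _).2 (by simpa [mul_assoc] using hg))
      · intro hg
        simpa [mul_assoc] using (hmem _).1 (hTeq hg)
    have hTcard : Nat.card T = Nat.card S := Subgroup.card_map_of_injective (MulAut.conj k⁻¹).injective
    let Z : AddSubgroup F :=
      { carrier := {b | sz H b ∈ T}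
        zero_mem' := by show sz H (0 : F) ∈ T; rw [show sz H (0 : F) = 1 from su_zero H]; exact T.one_mem
        add_mem' := fun {a b} ha hb => by show sz H (a + b) ∈ T; rw [← sz_mul]; exact T.mul_mem ha hb
        neg_mem' := fun {a} ha => by show sz H (-a) ∈ T; rwa [H.neg_eq] }
    set R := torusPart H T with hR
    have hscale : ∀ r ∈ R, ∀ b ∈ Z, ((r⁻¹ : Fˣ) : F) ^ (e + 2) * b ∈ Z := by
      rintro r ⟨c, d, h⟩ b hb
      show sz H _ ∈ T
      rw [← conj_sz H c d b r]
      exact T.mul_mem (T.mul_mem h hb) (T.inv_mem h)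
    -- involutions of the stabiliser
    have hZI : Nat.card Z - 1 ≤ Nat.card I := by
      letI := Fintype.ofFinite Z
      have h1 : Nat.card {b : Z // b ≠ 0} = Nat.card Z - 1 := by
        rw [Nat.card_eq_fintype_card, Fintype.card_subtype_compl, Fintype.card_subtype_eq,
          Nat.card_eq_fintype_card]
      rw [← h1]
      refine Nat.card_le_card_of_injective (fun b : {b : Z // b ≠ 0} =>
        (⟨k * sz H ((b.1 : Z) : F) * k⁻¹, (hmem _).1 b.1.2, ?_, ?_⟩ : I)) ?_
      · rw [conj_mul, sz_mul, H.add_self, show sz H (0 : F) = 1 from su_zero H]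
        simp
      · intro h
        exact b.2 (Subtype.ext (su_inj H ((conj_eq_one_iff.1 h).trans (su_zero H).symm)).2)
      · intro a b h
        exact Subtype.ext (Subtype.ext (su_inj H (conj_injective (congrArg Subtype.val h))).2)
    obtain ⟨b₀, hb₀, hb₀0⟩ : ∃ b ∈ Z, b ≠ 0 := by
      have hzT : k⁻¹ * (z : Sz F e) * k ∈ T := (hmem _).2 (by simpa [mul_assoc] using z.2)
      obtain ⟨a, b, t, hab⟩ := hTB hzT
      have hzP : (z : Sz F e) ∈ ((uni H).map (MulAut.conj k).toMonoidHom : Subgroup (Sz F e)) := by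
        obtain ⟨P', hP'⟩ := exists_sylow_mem H hF (g := (z : Sz F e))
          (by simp only [pow_succ, pow_zero, one_mul, hzI.2.1])
        obtain ⟨l, hl⟩ := exists_sylow_conj_uni H hF P'
        obtain ⟨p', hp'⟩ := exists_moves H l none
        obtain ⟨pk, hpk⟩ := exists_moves H k none
        obtain ⟨p0, -, hp0⟩ := exists_unique_fixed H hF (g := (z : Sz F e))
          (by simp only [pow_succ, pow_zero, one_mul, hzI.2.1]) hzI.2.2
        have e1 := hp0 p' (Moves.conj' H hp' (borel_moves H (uni_le_borel H ((hl _).1 hP'))))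
        have e2 := hp0 pk (Moves.conj' H hpk (borel_moves H ⟨a, b, t, hab⟩))
        have hlk : k⁻¹ * l ∈ Subgroup.normalizer (uni H : Set (Sz F e)) := by
          rw [normalizer_uni]
          exact mem_borel_of_moves H (Moves.trans H (e1 ▸ hp') (Moves.symm H (e2 ▸ hpk)))
        rw [Subgroup.mem_map_equiv, MulAut.conj_symm_apply]
        have := (Subgroup.mem_normalizer_iff.1 hlk _).1 ((hl _).1 hP')
        simpa [mul_assoc] using this
      rw [Subgroup.mem_map_equiv, MulAut.conj_symm_apply] at hzP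
      obtain ⟨a', b', hab'⟩ := hzP
      have hsq : (k⁻¹ * (z : Sz F e) * k) * (k⁻¹ * (z : Sz F e) * k) = 1 := by
        rw [show (k⁻¹ * (z : Sz F e) * k) * (k⁻¹ * (z : Sz F e) * k) = k⁻¹ * ((z : Sz F e) * z) * k by group,
          hzI.2.1]
        simp
      rw [hab', su_mul, H.add_self, H.add_self, zero_add] at hsq
      have ha : a' = 0 := by
        rcases mul_eq_zero.1 (su_inj H (hsq.trans (su_zero H).symm)).2 with h | h
        · exact (pow_eq_zero_iff H.e_ne).1 h
        · exact h
      refine ⟨b', ?_, fun h => hzI.2.2 ?_⟩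
      · show sz H b' ∈ T
        rw [show sz H b' = su H a' b' by rw [ha], ← hab']
        exact hzT
      · rw [h, ha, su_zero] at hab'
        have := congrArg (fun x => k * x * k⁻¹) hab'
        simpa [mul_assoc] using this
    -- sizes
    have hRle : Nat.card R ≤ Nat.card Z - 1 := by
      letI := Fintype.ofFinite Z
      have h1 : Nat.card {b : Z // b ≠ 0} = Nat.card Z - 1 := by
        rw [Nat.card_eq_fintype_card, Fintype.card_subtype_compl, Fintype.card_subtype_eq,
          Nat.card_eq_fintype_card]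
      rw [← h1]
      refine Nat.card_le_card_of_injective (fun r : R => (⟨⟨_, hscale r r.2 b₀ hb₀⟩, fun h =>
        mul_ne_zero (pow_ne_zero _ (Units.ne_zero _)) hb₀0 (congrArg Subtype.val h)⟩ :
          {b : Z // b ≠ 0})) fun r s h => ?_
      have h' := mul_right_cancel₀ hb₀0 (congrArg (fun x : {b : Z // b ≠ 0} => ((x.1 : Z) : F)) h)
      rw [← Units.val_pow_eq_pow_val, ← Units.val_pow_eq_pow_val] at h'
      exact Subtype.ext (inv_injective (pow_e2_inj H _ _ (Units.ext h')))
    set V : Set F := {a | ∃ b, su H a b ∈ T} with hV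
    have hTle : Nat.card T ≤ Nat.card R * (Nat.card V * Nat.card Z) := by
      have hform : ∀ g : T, ∃ a b : F, ∃ r ∈ R, (g : Sz F e) = su H a b * sh H r := fun g =>
        exists_borel_form H T g.2 (borel_moves H (hTB g.2))
      choose ga gb gr hgr hg using hform
      have hrep : ∀ r : R, ∃ a b, su H a b * sh H (r : Fˣ) ∈ T := fun r => r.2
      choose ra rb hrmem using hrep
      have hu : ∀ g : T, ∃ a b, (g : Sz F e) * (su H (ra ⟨gr g, hgr g⟩) (rb ⟨gr g, hgr g⟩) *
          sh H (gr g))⁻¹ = su H a b := by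
        intro g
        rw [hg g, _root_.mul_inv_rev, mul_assoc, mul_inv_cancel_left, su_inv, su_mul]
        exact ⟨_, _, rfl⟩
      choose ua ub hub using hu
      have hmemu : ∀ g : T, su H (ua g) (ub g) ∈ T := fun g => by
        rw [← hub g]
        exact T.mul_mem g.2 (T.inv_mem (hrmem ⟨gr g, hgr g⟩))
      have hvrep : ∀ a : V, ∃ b, su H (a : F) b ∈ T := fun a => a.2
      choose vb hvb using hvrep
      have hzz : ∀ g : T, ub g + vb ⟨ua g, _, hmemu g⟩ ∈ Z := by
        intro g
        show sz H _ ∈ T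
        have h := T.mul_mem (hmemu g) (T.inv_mem (hvb ⟨ua g, _, hmemu g⟩))
        have e2 : su H (ua g) (ub g) * (su H (ua g) (vb ⟨ua g, _, hmemu g⟩))⁻¹ =
            sz H (ub g + vb ⟨ua g, _, hmemu g⟩) := by
          rw [su_inv, su_mul, H.add_self]
          congr 1
          linear_combination ((ua g) ^ e * ua g) * H.two
        rwa [e2] at h
      rw [← Nat.card_prod, ← Nat.card_prod]
      refine Nat.card_le_card_of_injective
        (fun g : T => ((⟨gr g, hgr g⟩ : R), ((⟨ua g, _, hmemu g⟩ : V), (⟨_, hzz g⟩ : Z)))) ?_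
      intro g g' h
      simp only [Prod.mk.injEq, Subtype.mk.injEq] at h
      obtain ⟨h1, h2, h3⟩ := h
      have h1' : (⟨gr g, hgr g⟩ : R) = ⟨gr g', hgr g'⟩ := Subtype.ext h1
      have h2' : (⟨ua g, _, hmemu g⟩ : V) = ⟨ua g', _, hmemu g'⟩ := Subtype.ext h2
      rw [h2'] at h3
      have h3' := add_right_cancel h3
      have := (hub g).trans ((congrArg₂ (su H) h2 h3').trans (hub g').symm)
      rw [h1', show (gr g : Fˣ) = gr g' from h1] at this
      exact Subtype.ext (mul_right_cancel this)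
    have hVle : Nat.card V ≤ q := by
      rw [← hF, ← Nat.card_eq_fintype_card]
      exact Nat.card_le_card_of_injective _ Subtype.val_injective
    have hZle : Nat.card Z ≤ q := by
      rw [← hF, ← Nat.card_eq_fintype_card]
      exact Nat.card_le_card_of_injective _ Subtype.val_injective
    obtain ⟨j, hj⟩ : ∃ j, Nat.card Z = 2 ^ j := by
      have h := Z.card_addSubgroup_dvd_card
      rw [Nat.card_eq_fintype_card (α := F), hF] at h
      obtain ⟨j, -, hj⟩ := (Nat.dvd_prime_pow Nat.prime_two).1 h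
      exact ⟨j, hj⟩
    have hV0 : 1 ≤ Nat.card V := by
      haveI : Nonempty V := ⟨⟨0, 0, by rw [su_zero]; exact T.one_mem⟩⟩
      exact Nat.card_pos
    rw [hTcard] at hTle
    -- `q² (|Z| - 1) ≤ 2 |S| ≤ 2 |R| |V| |Z|`
    have hbig : q ^ 2 * (Nat.card Z - 1) ≤ 2 * (Nat.card R * (q * Nat.card Z)) := by
      calc q ^ 2 * (Nat.card Z - 1) ≤ q ^ 2 * Nat.card I := Nat.mul_le_mul_left _ hZI
        _ ≤ 2 * Nat.card S := hinv
        _ ≤ 2 * (Nat.card R * (Nat.card V * Nat.card Z)) := Nat.mul_le_mul_left _ hTle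
        _ ≤ _ := Nat.mul_le_mul_left _ (Nat.mul_le_mul_left _ (Nat.mul_le_mul_right _ hVle))
    have hZ2 : 2 ≤ Nat.card Z := by
      haveI : Nontrivial Z := ⟨⟨⟨b₀, hb₀⟩, 0, fun h => hb₀0 (congrArg Subtype.val h)⟩⟩
      exact Finite.one_lt_card
    have hRdvd : Nat.card R ∣ q - 1 := by
      rw [← hF, ← Nat.card_eq_fintype_card, ← Nat.card_units]
      exact Subgroup.card_subgroup_dvd_card R
    have hRorbit : Nat.card R ∣ Nat.card Z - 1 := by
      letI : MulAction R {b : Z // b ≠ 0} :=
        { smul := fun r b => ⟨⟨(((r : Fˣ) ^ (e + 2) : Fˣ) : F) * ((b.1 : Z) : F), by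
            have h := hscale (r : Fˣ)⁻¹ (R.inv_mem r.2) _ b.1.2
            rwa [inv_inv, ← Units.val_pow_eq_pow_val] at h⟩, fun h =>
              mul_ne_zero (Units.ne_zero _) (fun h0 => b.2 (Subtype.ext h0)) (congrArg Subtype.val h)⟩
          one_smul := fun b => Subtype.ext (Subtype.ext (by
            show ((((1 : R) : Fˣ) ^ (e + 2) : Fˣ) : F) * _ = _
            simp))
          mul_smul := fun r s b => Subtype.ext (Subtype.ext (by
            show ((((r * s : R) : Fˣ) ^ (e + 2) : Fˣ) : F) * _ =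
              (((r : Fˣ) ^ (e + 2) : Fˣ) : F) * ((((s : Fˣ) ^ (e + 2) : Fˣ) : F) * _)
            simp [mul_pow, mul_assoc])) }
      have hfree : ∀ b : {b : Z // b ≠ 0}, stabilizer R b = ⊥ := by
        intro b
        rw [Subgroup.eq_bot_iff_forall]
        intro r hr
        have h : (((r : Fˣ) ^ (e + 2) : Fˣ) : F) * ((b.1 : Z) : F) = ((b.1 : Z) : F) :=
          congrArg (fun x : {b : Z // b ≠ 0} => ((x.1 : Z) : F)) hr
        have h1 := (mul_eq_right₀ (fun h0 => b.2 (Subtype.ext h0))).1 h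
        exact Subtype.ext (pow_e2_inj H _ _ (by
          rw [show (r : Fˣ) ^ (e + 2) = 1 from Units.ext (h1.trans Units.val_one.symm)]; simp))
      letI := Fintype.ofFinite Z
      have h1 : Nat.card {b : Z // b ≠ 0} = Nat.card Z - 1 := by
        rw [Nat.card_eq_fintype_card, Fintype.card_subtype_compl, Fintype.card_subtype_eq,
          Nat.card_eq_fintype_card]
      rw [← h1, Nat.card_congr (MulAction.selfEquivOrbitsQuotientProd hfree), Nat.card_prod]
      exact dvd_mul_left _ _
    have hjle : j ≤ 2 * m + 1 := by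
      rw [hj] at hZle
      exact (Nat.pow_le_pow_iff_right (by norm_num)).1 hZle
    have hZq : Nat.card Z = q := by
      by_contra hne
      have hjlt : j < 2 * m + 1 := lt_of_le_of_ne hjle fun h => hne (by rw [hj, h])
      have hj2m : 2 * m ≤ j := by
        by_contra hlt
        have h1 : q ^ 2 * (Nat.card Z - 1) ≤ 2 * ((Nat.card Z - 1) * (q * Nat.card Z)) :=
          hbig.trans (Nat.mul_le_mul_left _ (Nat.mul_le_mul_right _ hRle))
        have h2 : q * ((Nat.card Z - 1) * q) ≤ q * ((Nat.card Z - 1) * (2 * Nat.card Z)) := by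
          calc q * ((Nat.card Z - 1) * q) = q ^ 2 * (Nat.card Z - 1) := by ring
            _ ≤ _ := h1
            _ = q * ((Nat.card Z - 1) * (2 * Nat.card Z)) := by ring
        have h3 := Nat.le_of_mul_le_mul_left (Nat.le_of_mul_le_mul_left h2 (by omega)) (by omega)
        have h4 : 2 * Nat.card Z < q := by
          rw [hj, hq, ← pow_succ']
          exact Nat.pow_lt_pow_right one_lt_two (by omega)
        omega
      have hR1 : Nat.card R = 1 := by
        have hj' : j = 2 * m := by omega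
        have hg := Nat.dvd_gcd hRdvd hRorbit
        rw [hj, hq, hj', Nat.pow_sub_one_gcd_pow_sub_one,
          show Nat.gcd (2 * m + 1) (2 * m) = 1 by
            rw [Nat.gcd_comm, Nat.gcd_self_add_right, Nat.gcd_one_right]] at hg
        simpa using hg
      rw [hR1, one_mul] at hbig
      have h2 : q * (q * (Nat.card Z - 1)) ≤ q * (2 * Nat.card Z) := by
        calc q * (q * (Nat.card Z - 1)) = q ^ 2 * (Nat.card Z - 1) := by ring
          _ ≤ _ := hbig
          _ = q * (2 * Nat.card Z) := by ring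
      have h3 := Nat.le_of_mul_le_mul_left h2 (by omega)
      have h4 : 8 * (Nat.card Z - 1) ≤ q * (Nat.card Z - 1) := Nat.mul_le_mul_right _ hq8
      omega
    have hRq : Nat.card R = q - 1 := by
      rw [hZq] at hbig
      have h2 : q ^ 2 * (q - 1) ≤ q ^ 2 * (2 * Nat.card R) := by
        calc q ^ 2 * (q - 1) ≤ 2 * (Nat.card R * (q * q)) := hbig
          _ = q ^ 2 * (2 * Nat.card R) := by ring
      have h3 := Nat.le_of_mul_le_mul_left h2 (by positivity)
      obtain ⟨i, hi⟩ := hRdvd
      rcases i with _ | _ | i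
      · omega
      · omega
      · exfalso
        have h5 : Nat.card R * (i + 2) ≤ 2 * Nat.card R := hi ▸ h3
        have h6 : 0 < Nat.card R := Nat.card_pos
        have h7 : i + 2 ≤ 2 := Nat.le_of_mul_le_mul_left (by rw [mul_comm 2] at h5; exact h5) h6
        have hi0 : i = 0 := by omega
        subst hi0
        have hodd' : Odd (q - 1) :=
          Nat.Even.sub_odd (by omega) (hq ▸ (Nat.even_pow.2 ⟨even_two, by omega⟩)) odd_one
        rw [hi, Nat.odd_mul] at hodd'
        exact absurd hodd'.2 (by decide)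
    have hRtop : R = ⊤ := Subgroup.eq_top_of_card_eq _ (by
      rw [hRq, Nat.card_units, Nat.card_eq_fintype_card, hF])
    have hVbig : ∃ a ∈ V, a ≠ 0 := by
      by_contra hc
      push Not at hc
      have : Nat.card V ≤ 1 := by
        haveI : Subsingleton V := ⟨fun a b => Subtype.ext ((hc _ a.2).trans (hc _ b.2).symm)⟩
        exact Finite.card_le_one_iff_subsingleton.2 inferInstance
      have h1 : q ^ 2 * (q - 1) ≤ 2 * ((q - 1) * (1 * q)) :=
        calc q ^ 2 * (q - 1) ≤ q ^ 2 * Nat.card I := Nat.mul_le_mul_left _ (by rw [← hZq]; exact hZI)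
          _ ≤ 2 * Nat.card S := hinv
          _ ≤ 2 * (Nat.card R * (Nat.card V * Nat.card Z)) := Nat.mul_le_mul_left _ hTle
          _ ≤ _ := by rw [hRq, hZq]; exact Nat.mul_le_mul_left _ (Nat.mul_le_mul_left _ (Nat.mul_le_mul_right _ this))
      have h2 : (q * (q - 1)) * q ≤ (q * (q - 1)) * 2 := by
        calc (q * (q - 1)) * q = q ^ 2 * (q - 1) := by ring
          _ ≤ _ := h1
          _ = (q * (q - 1)) * 2 := by ring
      have h3 := Nat.le_of_mul_le_mul_left h2 (Nat.mul_pos (by omega) (by omega))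
      omega
    obtain ⟨a₀, ⟨b₁, hab⟩, ha₀⟩ := hVbig
    have hZmem : ∀ b, sz H b ∈ T := fun b => by
      have htop : Z = ⊤ := AddSubgroup.eq_top_of_card_eq _ (by
        rw [hZq, Nat.card_eq_fintype_card, hF])
      exact (htop ▸ AddSubgroup.mem_top b : b ∈ Z)
    have hVall : ∀ a, ∃ b, su H a b ∈ T := by
      intro a
      by_cases ha : a = 0
      · exact ⟨0, by rw [ha, su_zero]; exact T.one_mem⟩
      obtain ⟨t, ht⟩ := Finite.surjective_of_injective (f := fun x : Fˣ => x ^ e)
        (fun x y h => pow_e_inj H x y h) (Units.mk0 (a / a₀) (div_ne_zero ha ha₀))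
      have ht' : (t : F) ^ e = a / a₀ := congrArg Units.val ht
      obtain ⟨c, d, hcd⟩ : t⁻¹ ∈ R := hRtop ▸ Subgroup.mem_top _
      have h := T.mul_mem (T.mul_mem hcd hab) (T.inv_mem hcd)
      rw [mul_assoc _ (sh H t⁻¹), sh_mul_su, ← mul_assoc, su_mul, _root_.mul_inv_rev, mul_assoc,
        mul_inv_cancel_left, su_inv, su_mul, inv_inv, ht'] at h
      have e1 : c + a / a₀ * a₀ + c = a := by
        rw [div_mul_cancel₀ _ ha₀]
        linear_combination c * H.two
      rw [e1] at h
      exact ⟨_, h⟩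
    rintro _ ⟨a, b, t, rfl⟩
    have huniT : ∀ a b, su H a b ∈ T := fun a b => by
      obtain ⟨b', hb'⟩ := hVall a
      have h := T.mul_mem hb' (hZmem (b + b'))
      rwa [su_mul, add_zero, mul_zero, add_zero, add_left_comm, H.add_self, add_zero] at h
    obtain ⟨c, d, hcd⟩ : t ∈ R := hRtop ▸ Subgroup.mem_top _
    have h := T.mul_mem (T.inv_mem (huniT c d)) hcd
    rw [inv_mul_cancel_left] at h
    exact T.mul_mem (huniT a b) h
  · -- inside the normaliser of a torus
    exfalso
    have hU' : Nat.card U = q - 1 ∨ Nat.card U = kp m ∨ Nat.card U = km m := by simpa using hU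
    obtain ⟨-, hoU, hU1⟩ := pairwise_coprime H hm hU' hU' dvd_rfl
    have hodd4 : ∀ u ∈ U, u ^ 4 = 1 → u = 1 := fun u hu h4 => orderOf_eq_one_iff.1
      (Nat.eq_one_of_dvd_coprimes (Nat.Coprime.pow_right 2 (Nat.coprime_two_right.2 hoU))
        (Subgroup.orderOf_dvd_natCard U hu) (orderOf_dvd_of_pow_eq_one h4))
    set N := Subgroup.normalizer (U : Set (Sz F e)) with hNdef
    have hN : Nat.card N ≤ 4 * Nat.card U := natCard_normalizer_torus_le H hm hF he hUc hU'
    have hindex : U.relIndex N ≤ 4 := by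
      have h := (U.subgroupOf N).card_mul_index
      rw [Nat.card_congr (Subgroup.subgroupOfEquivOfLe Subgroup.le_normalizer).toEquiv] at h
      exact Nat.le_of_mul_le_mul_left
        (h.le.trans (hN.trans (mul_comm 4 _).le)) Nat.card_pos
    have hS4 : Nat.card S ≤ 4 * Nat.card (U.subgroupOf S) := by
      have h1 := (U.subgroupOf S).card_mul_index
      have h2 : U.relIndex S ≤ U.relIndex N :=
        Nat.le_of_dvd (Nat.pos_of_ne_zero Subgroup.index_ne_zero_of_finite)
          (relIndex_dvd_of_normal_le hSU le_rfl)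
      rw [← h1, mul_comm (Nat.card (U.subgroupOf S))]
      exact Nat.mul_le_mul_right _ (h2.trans hindex)
    have hconjI : Nat.card (U.subgroupOf S) ≤ Nat.card I := by
      refine Nat.card_le_card_of_injective (fun a : U.subgroupOf S =>
        (⟨(a.1 : Sz F e) * z * (a.1 : Sz F e)⁻¹, S.mul_mem (S.mul_mem a.1.2 z.2) (S.inv_mem a.1.2),
          by rw [conj_mul, hzI.2.1]; simp, fun h => hzI.2.2 (conj_eq_one_iff.1 h)⟩ : I)) ?_
      intro a b h
      have h' : (a.1 : Sz F e) * z * (a.1 : Sz F e)⁻¹ = (b.1 : Sz F e) * z * (b.1 : Sz F e)⁻¹ :=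
        congrArg Subtype.val h
      have hc : (z : Sz F e) * ((b.1 : Sz F e)⁻¹ * a.1) = (b.1 : Sz F e)⁻¹ * a.1 * z := by
        have := congrArg (fun x => (b.1 : Sz F e)⁻¹ * x * a.1) h'
        simpa [mul_assoc] using this.symm
      have h4 := pow_four_of_commute H hF (g := (z : Sz F e))
        (by simp only [pow_succ, pow_zero, one_mul, hzI.2.1]) hzI.2.2 hc
      have h5 := hodd4 _ (U.mul_mem (U.inv_mem b.2) a.2) h4
      exact Subtype.ext (Subtype.ext (inv_mul_eq_one.1 h5).symm)
    have h2 : q ^ 2 * Nat.card (U.subgroupOf S) ≤ 8 * Nat.card (U.subgroupOf S) :=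
      calc q ^ 2 * Nat.card (U.subgroupOf S) ≤ q ^ 2 * Nat.card I := Nat.mul_le_mul_left _ hconjI
        _ ≤ 2 * Nat.card S := hinv
        _ ≤ 2 * (4 * Nat.card (U.subgroupOf S)) := Nat.mul_le_mul_left _ hS4
        _ = _ := by ring
    have h3 := Nat.le_of_mul_le_mul_right h2 Nat.card_pos
    have h4 : 8 ^ 2 ≤ q ^ 2 := Nat.pow_le_pow_left hq8 2
    omega
  · -- inside a subfield group
    exfalso
    have hcardS : Nat.card S ≤ (2 ^ (2 * k + 1)) ^ 5 := by
      refine le_trans (Nat.le_of_dvd Nat.card_pos (Subgroup.card_dvd_of_le hle)) ?_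
      rw [← Nat.card_congr f.toEquiv, natCard_Sz (titsField_of_card hK), hK]
      set p := 2 ^ (2 * k + 1)
      have hp1 : 1 ≤ p := Nat.one_le_two_pow
      obtain ⟨d, hd⟩ : ∃ d, p = d + 1 := ⟨p - 1, by omega⟩
      rw [hd, Nat.add_sub_cancel]
      nlinarith [Nat.zero_le ((d + 1) ^ 4)]
    obtain ⟨i, hi⟩ := hdvd
    have hi3 : 3 ≤ i := by
      rcases i with _ | _ | _ | i
      · omega
      · omega
      · have : Odd (2 * m + 1) := odd_two_mul_add_one m
        rw [hi, Nat.odd_mul] at this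
        exact absurd this.2 (by decide)
      · omega
    have h1 : q ^ 2 ≤ 2 * (2 ^ (2 * k + 1)) ^ 5 := by
      calc q ^ 2 = q ^ 2 * 1 := (mul_one _).symm
        _ ≤ q ^ 2 * Nat.card I := Nat.mul_le_mul_left _ hIpos
        _ ≤ 2 * Nat.card S := hinv
        _ ≤ _ := Nat.mul_le_mul_left _ hcardS
    have h2 : 2 * (2 ^ (2 * k + 1)) ^ 5 < q ^ 2 := by
      rw [hq, ← pow_mul, ← pow_mul, ← pow_succ']
      refine Nat.pow_lt_pow_right one_lt_two ?_
      have := Nat.mul_le_mul_left (2 * k + 1) hi3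
      omega
    omega

end CfsgLib.KnownA.Suzuki
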