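import Cfsg.Agent.Lib.KnownA.Suzuki.Points

/-!
Elements of a Suzuki group without fixed points: their orders and normalisers.
-/

set_option autoImplicit false

namespace CfsgLib.KnownA.Suzuki

open Matrix Cfsg.Lie

variable {F : Type*} [Field F] {e : ℕ} (H : TitsField F e)
include H

/-- `g` has no fixed point. -/
def Fpf (g : Sz F e) : Prop := ∀ p, ¬ Moves H g p p

variable [Fintype F] {m : ℕ} (hm : 1 ≤ m) (hF : Fintype.card F = 2 ^ (2 * m + 1))
  (he : e = 2 ^ (m + 1))

omit H [Field F] [Fintype F] in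
/-- `q + r + 1`. -/
abbrev kp (m : ℕ) : ℕ := 2 ^ (2 * m + 1) + 2 ^ (m + 1) + 1

omit H [Field F] [Fintype F] in
/-- `q - r + 1`. -/
abbrev km (m : ℕ) : ℕ := 2 ^ (2 * m + 1) - 2 ^ (m + 1) + 1

omit H [Field F] [Fintype F] in
theorem pow_succ_le (m : ℕ) : 2 ^ (m + 1) ≤ 2 ^ (2 * m + 1) :=
  Nat.pow_le_pow_right two_pos (by omega)

omit H [Field F] [Fintype F] in
theorem kp_mul_km (m : ℕ) : kp m * km m = (2 ^ (2 * m + 1)) ^ 2 + 1 := by
  have hr : (2 ^ (m + 1)) ^ 2 = 2 * 2 ^ (2 * m + 1) := by
    rw [← pow_mul, ← pow_succ']; ring_nf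
  obtain ⟨d, hd⟩ := Nat.exists_eq_add_of_le (pow_succ_le m)
  simp only [kp, km]
  rw [show 2 ^ (2 * m + 1) - 2 ^ (m + 1) = d by omega]
  rw [hd] at hr ⊢
  nlinarith [hr]

include hF in
theorem fpf_pow_four {g : Sz F e} (hg : Fpf H g) : g ^ 4 ≠ 1 := by
  intro h4
  by_cases h1 : g = 1
  · exact hg none (h1 ▸ borel_moves H (borel H).one_mem)
  · obtain ⟨p, hp, -⟩ := exists_unique_fixed H hF h4 h1
    exact hg p hp

include hF in
theorem odd_orderOf_fpf {g : Sz F e} (hg : Fpf H g) : Odd (orderOf g) :=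
  (odd_or_pow_four H g).resolve_right (fpf_pow_four H hF hg)

include hF in
/-- A non-trivial element commuting with a fixed-point-free one is fixed-point-free. -/
theorem fpf_of_commute {g c : Sz F e} (hg : Fpf H g) (hc : g * c = c * g) (hc1 : c ≠ 1) : Fpf H c := by
  intro p hp
  have hgp : ∀ q, Moves H c q q → ∃ q', Moves H g q q' ∧ Moves H c q' q' := by
    intro q hq
    obtain ⟨q', hq'⟩ := exists_moves H g q
    refine ⟨q', hq', ?_⟩
    have h1 : Moves H (c * g) q q' := by rw [← hc]; exact Moves.trans H hq hq'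
    simpa using Moves.trans H (Moves.symm H hq') h1
  obtain ⟨p', hp', hcp'⟩ := hgp p hp
  have hne : p' ≠ p := fun e1 => hg p (e1 ▸ hp')
  obtain ⟨p'', hp'', hcp''⟩ := hgp p' hcp'
  have hne' : p'' ≠ p' := fun e1 => hg p' (e1 ▸ hp'')
  by_cases hpp : p'' = p
  · subst hpp
    -- `g` swaps two points, so its square fixes one of them
    obtain ⟨k, hk⟩ := odd_orderOf_fpf H hF hg
    have hsq : Moves H (g * g) p'' p'' := Moves.trans H hp' hp''
    have hpow : ∀ j : ℕ, Moves H ((g * g) ^ j) p'' p'' := by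
      intro j
      induction j with
      | zero => rw [pow_zero]; exact show toSL H 1 • _ = _ by rw [map_one, one_smul]
      | succ j ih => rw [pow_succ]; exact Moves.trans H hsq ih
    have h1 : (g * g) ^ k * g = 1 := by
      rw [← sq, ← pow_mul, ← pow_succ, ← hk, pow_orderOf_eq_one]
    have h2 : Moves H (1 : Sz F e) p'' p' := by
      have h3 : g * (g * g) ^ k = 1 := by
        rw [← h1]
        exact ((Commute.refl g).mul_right (Commute.refl g)).pow_right k |>.eq
      rw [← h3]
      exact Moves.trans H (hpow k) hp'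
    exact hne' (Moves.unique H (borelOne H p'') h2)
  · exact hc1 (eq_one_of_three H hne.symm (Ne.symm hne') (Ne.symm hpp) hp hcp' hcp'')
where
  borelOne {F : Type _} [Field F] {e : ℕ} (H : TitsField F e) (p : Option (F × F)) :
      Moves H (1 : Sz F e) p p := show toSL H 1 • _ = _ by rw [map_one, one_smul]

include hm hF in
/-- The order of a fixed-point-free element is prime to `q - 1` and to two. -/
theorem orderOf_dvd_sq_add_one {g : Sz F e} (hg : Fpf H g) :
    orderOf g ∣ (2 ^ (2 * m + 1)) ^ 2 + 1 := by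
  have hodd := odd_orderOf_fpf H hF hg
  have h1 : Nat.Coprime (orderOf g) (2 ^ (2 * m + 1) - 1) := by
    refine Nat.coprime_of_dvd fun p hp hpg hpq => ?_
    haveI := Fact.mk hp
    obtain ⟨x, hx⟩ := exists_prime_orderOf_dvd_card' (G := tor H) p (by
      rw [natCard_tor, Nat.card_eq_fintype_card, hF]; exact hpq)
    set y := g ^ (orderOf g / p) with hy
    have hy' : orderOf y = p := orderOf_pow_orderOf_div (orderOf_pos g).ne' hpg
    -- the Sylow subgroup lies in a torus
    obtain ⟨P, hP⟩ := (IsPGroup.of_card (n := 1) (G := Subgroup.zpowers y)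
      (by rw [Nat.card_zpowers, hy', pow_one])).exists_le_sylow
    obtain ⟨T, hT⟩ : ∃ T : Sylow p (Sz F e), (T : Subgroup (Sz F e)) ≤ tor H := by
      obtain ⟨Q⟩ := (inferInstance : Nonempty (Sylow p (tor H)))
      have hcard : Nat.card ((Q : Subgroup (tor H)).map (tor H).subtype) =
          p ^ (Nat.card (Sz F e)).factorization p := by
        rw [Subgroup.card_map_of_injective (tor H).subtype_injective, Sylow.card_eq_multiplicity,
          natCard_Sz H, natCard_tor, Nat.card_eq_fintype_card, hF]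
        congr 1
        set q := 2 ^ (2 * m + 1) with hq
        have hq2 : 2 ≤ q := hq ▸ le_self_pow₀ one_le_two (by omega)
        have hp2 : ¬ p ∣ q := by
          intro h
          have h3 := (Nat.prime_dvd_prime_iff_eq hp Nat.prime_two).1 (hp.dvd_of_dvd_pow (hq ▸ h))
          rw [h3] at hpg
          exact (Nat.not_even_iff_odd.2 hodd) (even_iff_two_dvd.2 hpg)
        have hp3 : ¬ p ∣ q ^ 2 + 1 := by
          intro h
          obtain ⟨d, hd⟩ := Nat.exists_eq_add_of_le (show 1 ≤ q by omega)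
          rw [hd, Nat.add_sub_cancel_left] at hpq
          have h4 : p ∣ q ^ 2 + 1 - 2 := by
            rw [hd, show (1 + d) ^ 2 + 1 - 2 = d * (d + 2) by
              have : (1 + d) ^ 2 + 1 = d * (d + 2) + 2 := by ring
              omega]
            exact hpq.mul_right _
          have h5 : p ∣ 2 := by
            have := Nat.dvd_sub h h4
            rwa [Nat.sub_sub_self (by nlinarith)] at this
          rw [(Nat.prime_dvd_prime_iff_eq hp Nat.prime_two).1 h5] at hpg
          exact (Nat.not_even_iff_odd.2 hodd) (even_iff_two_dvd.2 hpg)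
        rw [Nat.factorization_mul (by positivity) (Nat.mul_ne_zero (by positivity) (by omega)),
          Nat.factorization_mul (by positivity) (by omega), Finsupp.add_apply, Finsupp.add_apply,
          Nat.factorization_eq_zero_of_not_dvd hp3,
          Nat.factorization_eq_zero_of_not_dvd (fun h => hp2 (hp.dvd_of_dvd_pow h)), zero_add, zero_add]
      exact ⟨Sylow.ofCard _ hcard, Subgroup.map_subtype_le _⟩
    obtain ⟨k, hk⟩ := MulAction.exists_smul_eq (Sz F e) T P
    have hyP : y ∈ (P : Subgroup (Sz F e)) := hP (Subgroup.mem_zpowers y)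
    rw [← hk] at hyP
    obtain ⟨s, hs, hsy⟩ := hyP
    have hsy' : k * s * k⁻¹ = y := hsy
    obtain ⟨t, rfl⟩ := hT hs
    have hy1 : y ≠ 1 := fun e1 => hp.ne_one (by rw [← hy', e1, orderOf_one])
    have hyfpf := fpf_of_commute H hF hg (Commute.self_pow g _).eq hy1
    obtain ⟨q, hq⟩ := exists_moves H k none
    refine hyfpf q ?_
    show Moves H y q q
    rw [← hsy']
    exact Moves.trans H (Moves.symm H hq) (Moves.trans H (toSL_sh_none H t) hq)
  have h2 : orderOf g ∣ Nat.card (Sz F e) := orderOf_dvd_natCard g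
  rw [natCard_Sz H, hF] at h2
  have h3 : Nat.Coprime (orderOf g) ((2 ^ (2 * m + 1)) ^ 2) := by
    rw [← pow_mul]
    exact Nat.Coprime.pow_right _ (Nat.coprime_two_right.2 hodd)
  exact (h3.mul_right h1).dvd_of_dvd_mul_right h2

include hm hF he in
/-- A fixed-point-free element has order dividing `q + r + 1` or `q - r + 1`. -/
theorem orderOf_fpf_aux (K : Type*) [Field K] [Algebra F K] [IsAlgClosed K] {g : Sz F e}
    (hg : Fpf H g) : orderOf g ∣ kp m ∨ orderOf g ∣ km m := by
  haveI := H.charP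
  haveI : CharP K 2 := charP_ext H K
  have two : (2 : K) = 0 := CharTwo.two_eq_zero
  have h4 := fpf_pow_four H hF hg
  obtain ⟨χ, hχ, v, hv0, hv⟩ := exists_character H K h4
  let g' : Subgroup.centralizer ({g} : Set (Sz F e)) := ⟨g, Subgroup.mem_centralizer_singleton_iff.2 rfl⟩
  set l := χ g' with hl
  set q := 2 ^ (2 * m + 1) with hq
  set t := algebraMap F K (tr g) with ht
  have ht0 : t ≠ 0 := by
    rw [ht, Ne, map_eq_zero]
    exact fun h => h4 (pow_four_of_tr H h)
  have hord : ∀ j : ℕ, l ^ j = 1 ↔ orderOf g ∣ j := by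
    intro j
    rw [hl, ← map_pow, map_eq_one_iff χ hχ, orderOf_dvd_iff_pow_eq_one]
    exact ⟨fun h => congrArg Subtype.val h, fun h => Subtype.ext h⟩
  have hsqinj : ∀ {x y : K}, x ^ 2 = y ^ 2 → x = y := by
    intro x y h
    have h1 : (x + y) * (x + y) = 0 := by linear_combination h + (y ^ 2 + x * y) * two
    exact CharTwo.add_eq_zero.1 (mul_self_eq_zero.1 h1)
  have hpow2 : ∀ (i : ℕ) (x : K), x ^ 2 ^ i = 1 → x = 1 := by
    intro i
    induction i with
    | zero => intro x h; simpa using h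
    | succ i ih =>
      intro x h
      rw [pow_succ, pow_mul] at h
      exact ih x (hsqinj (by rw [h, one_pow]))
  have hl1 : l ≠ 1 := fun h => h4 (by
    have := (hord 1).1 (by rw [h, one_pow])
    rw [Nat.dvd_one, orderOf_eq_one_iff] at this
    rw [this, one_pow])
  have hn : l ^ (q ^ 2 + 1) = 1 := (hord _).2 (orderOf_dvd_sq_add_one H hm hF hg)
  have hl0 : l ≠ 0 := fun h => by simp [h] at hn
  have hroot : l ^ 4 + t * l ^ 3 + t ^ e * l ^ 2 + t * l + 1 = 0 := by
    rw [ht, ← det_add H K g l]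
    refine Matrix.exists_mulVec_eq_zero_iff.1 ⟨v, hv0, ?_⟩
    rw [Matrix.add_mulVec, Matrix.smul_mulVec, Matrix.one_mulVec, hv g', ← hl]
    funext i
    simp only [Pi.add_apply, Pi.smul_apply, smul_eq_mul, Pi.zero_apply]
    linear_combination (l * v i) * two
  have hY : ∀ x : K, x ≠ 0 → x ^ 4 + t * x ^ 3 + t ^ e * x ^ 2 + t * x + 1 = 0 →
      (x + x⁻¹) ^ 2 + t * (x + x⁻¹) + t ^ e = 0 := by
    intro x hx h
    field_simp
    linear_combination h + x ^ 2 * two
  have hfr : ∀ x y : K, (x + y) ^ q = x ^ q + y ^ q := fun x y =>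
    add_pow_char_pow x y (p := 2) (n := 2 * m + 1)
  have htq : t ^ q = t := by
    rw [ht, ← map_pow, ← hF, FiniteField.pow_card]
  have hrootq : (l ^ q) ^ 4 + t * (l ^ q) ^ 3 + t ^ e * (l ^ q) ^ 2 + t * l ^ q + 1 = 0 := by
    have h := congrArg (· ^ q) hroot
    simp only [hfr, mul_pow, one_pow, zero_pow (show q ≠ 0 by positivity)] at h
    rw [pow_right_comm l 4, pow_right_comm l 3, pow_right_comm l 2, pow_right_comm t e, htq] at h
    exact h
  have hpre : ∀ j : ℕ, j ∣ 2 * (q ^ 2 + 1) → ∀ x, x ∣ q → True := fun _ _ _ _ => trivial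
  clear hpre
  have hne1 : l ^ q ≠ l := by
    intro h
    have h2 : l ^ (q ^ 2) = l := by rw [sq, pow_mul, h, h]
    rw [pow_succ, h2] at hn
    exact hl1 (hsqinj (by rw [one_pow, sq]; exact hn))
  have hne2 : l ^ q * l ≠ 1 := by
    intro h
    have h1 : l ^ q = l⁻¹ := eq_inv_of_mul_eq_one_left h
    have h2 : l ^ (q ^ 2) = l := by rw [sq, pow_mul, h1, inv_pow, h1, inv_inv]
    rw [pow_succ, h2] at hn
    exact hl1 (hsqinj (by rw [one_pow, sq]; exact hn))
  set L := l ^ q with hL
  have hL0 : L ≠ 0 := pow_ne_zero _ hl0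
  set Y := l + l⁻¹ with hYdef
  set Z := L + L⁻¹ with hZdef
  have hYZ : Y ≠ Z := by
    intro h
    have : (L - l) * (L * l - 1) = 0 := by
      rw [hYdef, hZdef] at h
      field_simp at h
      linear_combination -h
    rcases mul_eq_zero.1 this with h1 | h1
    · exact hne1 (sub_eq_zero.1 h1)
    · exact hne2 (sub_eq_zero.1 h1)
  have hY1 := hY l hl0 hroot
  have hZ1 := hY L hL0 hrootq
  have hsum : Y + Z = t := by
    refine CharTwo.add_eq_zero.1 (mul_left_cancel₀ (sub_ne_zero.2 hYZ) ?_)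
    linear_combination hY1 - hZ1
  have hprod : Y * Z = t ^ e := by
    linear_combination (-1 : K) * hY1 + Y * hsum + (Y * t) * two
  have hee : e * e = 2 * q := by rw [he, hq, ← pow_succ', ← pow_add]; ring_nf
  have hte : (t ^ e) ^ e = t ^ 2 := by
    rw [← pow_mul, hee, mul_comm 2 q, pow_mul, htq]
  have hadd : ∀ x y : K, (x + y) ^ e = x ^ e + y ^ e := fun x y => by
    rw [he]; exact add_pow_char_pow x y (p := 2) (n := m + 1)
  set A := L * l + (L * l)⁻¹ with hA
  set B := L / l + (L / l)⁻¹ with hB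
  set C := l ^ e + (l ^ e)⁻¹ with hC
  set D := L ^ e + (L ^ e)⁻¹ with hD
  have hAB : A + B = t ^ e := by
    rw [← hprod, hA, hB, hYdef, hZdef]; field_simp; ring
  have hCD : C + D = t ^ e := by
    rw [← hsum, hadd, hYdef, hZdef, hadd, hadd, inv_pow, inv_pow, hC, hD]
  have hAB' : A * B = t ^ 2 := by
    rw [← hsum, hA, hB, hYdef, hZdef]
    field_simp
    ring_nf
    simp [two, show (4 : K) = 0 by linear_combination (2 : K) * two]
  have hCD' : C * D = t ^ 2 := by
    have : C * D = (Y * Z) ^ e := by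
      rw [mul_pow, hYdef, hZdef, hadd, hadd, inv_pow, inv_pow]
    rw [this, hprod, hte]
  have hcase : C = A ∨ C = B := by
    have : (C - A) * (C - B) = 0 := by linear_combination hAB' - hCD' + C * hCD - C * hAB
    rcases mul_eq_zero.1 this with h | h
    · exact Or.inl (sub_eq_zero.1 h)
    · exact Or.inr (sub_eq_zero.1 h)
  have hinv : ∀ {x y : K}, x ≠ 0 → y ≠ 0 → x + x⁻¹ = y + y⁻¹ → x = y ∨ x * y = 1 := by
    intro x y hx hy h
    field_simp at h
    rcases mul_eq_zero.1 (show (x - y) * (x * y - 1) = 0 by linear_combination h) with h1 | h1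
    · exact Or.inl (sub_eq_zero.1 h1)
    · exact Or.inr (sub_eq_zero.1 h1)
  have hle : e ≤ q := by rw [he, hq]; exact pow_succ_le m
  have hle0 : l ^ e ≠ 0 := pow_ne_zero _ hl0
  have hLq : L ^ q * l = 1 := by rw [hL, ← pow_mul, ← pow_succ, ← sq, hn]
  rcases hcase with h | h
  · rcases hinv hle0 (mul_ne_zero hL0 hl0) h with h1 | h1
    · right
      refine (hord _).1 ?_
      have h2 : l ^ (q - e + 1) * l ^ e = l ^ e := by
        rw [← pow_add, show q - e + 1 + e = q + 1 by omega, pow_succ, ← hL, ← h1]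
      have h3 : l ^ (q - e + 1) = 1 := (mul_eq_right₀ hle0).1 h2
      simpa [km, ← hq, ← he] using h3
    · left
      refine (hord _).1 ?_
      have h3 : l ^ (q + e + 1) = 1 := by
        rw [show q + e + 1 = e + (q + 1) by ring, pow_add, pow_succ, ← hL, h1]
      simpa [kp, ← hq, ← he] using h3
  · exfalso
    rcases hinv hle0 (div_ne_zero hL0 hl0) h with h1 | h1
    · -- `l ^ q = l ^ (e + 1)`
      have h2 : L = l ^ e * l := by rw [h1]; field_simp
      have h3 : L ^ q = (l ^ e * l) ^ e * (l ^ e * l) := by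
        rw [h2, mul_pow (l ^ e) l q, ← hL, h2, pow_right_comm l e q, ← hL, h2]
      have h4' : l ^ (4 * (e + 1)) = 1 := by
        have h5 : (l ^ e) ^ e = L * L := by rw [← pow_mul, hee, mul_comm 2 q, pow_mul, ← hL, sq]
        rw [h3, mul_pow, h5, h2] at hLq
        rw [← hLq]
        ring
      rw [mul_comm, pow_mul] at h4'
      have h6 : l ^ (e + 1) = 1 := hsqinj (hsqinj (by rw [one_pow, one_pow, ← pow_mul]; exact h4'))
      have h7 : L = 1 := by rw [h2, ← pow_succ, h6]
      exact hl1 (hpow2 (2 * m + 1) l h7)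
    · -- `l ^ q * l ^ e = l`
      set μ := l ^ e with hμ
      have h2 : L = l / μ := by field_simp at h1 ⊢; linear_combination h1
      have h5 : μ ^ e = L * L := by rw [hμ, ← pow_mul, hee, mul_comm 2 q, pow_mul, ← hL, sq]
      have h3 : L ^ q = L / L ^ e := by
        conv_lhs => rw [h2, div_pow, hμ, pow_right_comm l e q, ← hL]
      have h4' : L ^ e = μ / (L * L) := by rw [h2, div_pow, ← hμ, h5, h2]
      rw [h3, h4', h2] at hLq
      have hμ0 : μ ≠ 0 := hle0
      have h8 : l = μ := by
        refine hsqinj (hsqinj ?_)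
        field_simp at hLq
        linear_combination hLq
      have h7 : L = 1 := by rw [h2, ← h8, div_self hl0]
      exact hl1 (hpow2 (2 * m + 1) l h7)

include hm hF he in
/-- A fixed-point-free element has order dividing `q + r + 1` or `q - r + 1`. -/
theorem orderOf_fpf {g : Sz F e} (hg : Fpf H g) : orderOf g ∣ kp m ∨ orderOf g ∣ km m :=
  orderOf_fpf_aux H hm hF he (AlgebraicClosure F) hg

include hF in
theorem natCard_normalizer_le_aux (K : Type*) [Field K] [Algebra F K] [IsAlgClosed K] {g : Sz F e}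
    (hg : Fpf H g) :
    Nat.card (Subgroup.normalizer
      ((Subgroup.centralizer ({g} : Set (Sz F e)) : Subgroup (Sz F e)) : Set (Sz F e))) ≤
      4 * Nat.card (Subgroup.centralizer ({g} : Set (Sz F e))) := by
  classical
  have h4 := fpf_pow_four H hF hg
  set C := Subgroup.centralizer ({g} : Set (Sz F e)) with hC
  obtain ⟨χ, hχ, v, hv0, hv⟩ : ∃ χ : C →* K, Function.Injective χ ∧
      ∃ v : Fin 4 → K, v ≠ 0 ∧ ∀ c : C, matK K (c : Sz F e) *ᵥ v = χ c • v :=
    exists_character H K h4
  obtain ⟨r, b, -, -, hroots⟩ := exists_eigenbasis H K h4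
  set N := Subgroup.normalizer (C : Set (Sz F e)) with hN
  have hconj : ∀ n : N, (n : Sz F e) * g * (n : Sz F e)⁻¹ ∈ C := fun n =>
    (Subgroup.mem_normalizer_iff.1 n.2 g).1 (Subgroup.mem_centralizer_singleton_iff.2 rfl)
  have hidx : ∀ n : N, ∃ i, χ ⟨_, hconj n⟩ = r i := by
    intro n
    set k : Sz F e := (n : Sz F e) with hk
    have hw : matK K (k⁻¹) *ᵥ v ≠ 0 := by
      intro h0
      apply hv0
      have h1 := congrArg (matK K k *ᵥ ·) h0
      simpa [Matrix.mulVec_mulVec, ← matK_mul H, matK_one H] using h1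
    refine hroots _ (matK K (k⁻¹) *ᵥ v) hw ?_
    have h1 := hv ⟨_, hconj n⟩
    rw [Matrix.mulVec_mulVec, ← matK_mul H, show g * k⁻¹ = k⁻¹ * (k * g * k⁻¹) by group,
      matK_mul H, ← Matrix.mulVec_mulVec, h1, Matrix.mulVec_smul]
  choose idx hidx' using hidx
  let rep : Fin 4 → N := fun i => if h : ∃ n, idx n = i then h.choose else 1
  have hrep : ∀ n, idx (rep (idx n)) = idx n := fun n => by
    have h : ∃ n', idx n' = idx n := ⟨n, rfl⟩
    simp only [rep, dif_pos h]
    exact h.choose_spec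
  have hmem : ∀ n : N, ((rep (idx n) : Sz F e))⁻¹ * n ∈ C := by
    intro n
    have h1 : (n : Sz F e) * g * (n : Sz F e)⁻¹ =
        (rep (idx n) : Sz F e) * g * (rep (idx n) : Sz F e)⁻¹ :=
      congrArg Subtype.val (hχ (by rw [hidx', hidx', hrep]) :
        (⟨_, hconj n⟩ : C) = ⟨_, hconj (rep (idx n))⟩)
    rw [hC, Subgroup.mem_centralizer_singleton_iff]
    have h2 := congrArg (fun x => (rep (idx n) : Sz F e)⁻¹ * x * (n : Sz F e)) h1
    simpa [mul_assoc] using h2
  refine (Nat.card_le_card_of_injective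
    (fun n : N => ((idx n, ⟨_, hmem n⟩) : Fin 4 × C)) fun n n' h => ?_).trans (by simp [Nat.card_prod])
  simp only [Prod.mk.injEq] at h
  have h2 : (rep (idx n) : Sz F e)⁻¹ * n = (rep (idx n') : Sz F e)⁻¹ * n' := congrArg Subtype.val h.2
  rw [h.1] at h2
  exact Subtype.ext (mul_left_cancel h2)

include hF in
/-- The normaliser of the centraliser of a fixed-point-free element is at most four times as big. -/
theorem natCard_normalizer_le {g : Sz F e} (hg : Fpf H g) :
    Nat.card (Subgroup.normalizer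
      ((Subgroup.centralizer ({g} : Set (Sz F e)) : Subgroup (Sz F e)) : Set (Sz F e))) ≤
      4 * Nat.card (Subgroup.centralizer ({g} : Set (Sz F e))) :=
  natCard_normalizer_le_aux H hF (AlgebraicClosure F) hg

end CfsgLib.KnownA.Suzuki
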