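import Cfsg.Agent.Lib.KnownA.Suzuki.Torus
import Cfsg.Agent.Lib.Schur.Basic

/-!
The Schur multiplier of the Suzuki groups over fields of order at least `32`.
-/

set_option autoImplicit false

namespace CfsgLib.KnownA.Suzuki

open Cfsg.Lie Polynomial
open scoped commutatorElement

universe u v

section Forms

variable {F : Type*} [Field F] [Fintype F] {e m : ℕ} (H : TitsField F e)
  (hF : Fintype.card F = 2 ^ (2 * m + 1))

include H

theorem exists_pow_eq_e (r : Fˣ) : ∃ s : Fˣ, s ^ e = r :=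
  Finite.surjective_of_injective (f := fun x : Fˣ => x ^ e) (fun x y h => pow_e_inj' H x y h) r
where
  pow_e_inj' (H : TitsField F e) (x y : Fˣ) (h : x ^ e = y ^ e) : x = y :=
    Units.ext (H.pow_inj (by rw [← Units.val_pow_eq_pow_val, h, Units.val_pow_eq_pow_val]))

include hF

/-- An invariant additive function vanishes. -/
theorem eq_zero_of_invariant {A : Type*} [AddCommGroup A] (hq : 4 ≤ Fintype.card F) (c : F → A)
    (hadd : ∀ x y, c (x + y) = c x + c y) (hinv : ∀ (r : Fˣ) x, c ((r : F) * x) = c x) (x : F) :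
    c x = 0 := by
  classical
  have hc0 : c 0 = 0 := by
    have h := hadd 0 0
    rw [add_zero] at h
    exact left_eq_add.1 h
  by_cases hx : x = 0
  · rw [hx, hc0]
  obtain ⟨r, hr⟩ : ∃ r : F, r ∉ ({0, 1} : Finset F) := by
    by_contra hc
    push Not at hc
    have h1 : (Finset.univ : Finset F) ⊆ {0, 1} := fun y _ => hc y
    have h2 := (Finset.card_le_card h1).trans (Finset.card_le_two)
    rw [Finset.card_univ] at h2
    omega
  simp only [Finset.mem_insert, Finset.mem_singleton, not_or] at hr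
  have h1r : (1 : F) + r ≠ 0 := fun h => hr.2 (H.eq_of_add h).symm
  have h := hadd x (r * x)
  rw [show x + r * x = ((Units.mk0 _ h1r : Fˣ) : F) * x by rw [Units.val_mk0]; ring, hinv,
    show r * x = ((Units.mk0 r hr.1 : Fˣ) : F) * x from rfl, hinv] at h
  exact left_eq_add.1 h

/-- An invariant biadditive form of weights `(1, 1)` vanishes. -/
theorem eq_zero_of_form_one {A : Type*} [AddCommGroup A] (hq : 8 ≤ Fintype.card F) (β : F → F → A)
    (h1 : ∀ x x' y, β (x + x') y = β x y + β x' y) (h2 : ∀ x y y', β x (y + y') = β x y + β x y')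
    (hinv : ∀ (r : Fˣ) x y, β ((r : F) * x) ((r : F) * y) = β x y) (x y : F) : β x y = 0 := by
  classical
  have hb0 : ∀ y, β 0 y = 0 := fun y => by
    have h := h1 0 0 y
    rw [add_zero] at h
    exact left_eq_add.1 h
  have hl : ∀ x, x ≠ 0 → ∀ y, β x y = β 1 (x⁻¹ * y) := fun x hx y => by
    have h := hinv (Units.mk0 x hx) 1 (x⁻¹ * y)
    rw [Units.val_mk0, mul_one, mul_inv_cancel_left₀ hx] at h
    exact h
  obtain ⟨r, hr0, hr1, hr2⟩ : ∃ r : F, r ≠ 0 ∧ r ≠ 1 ∧ r ^ 2 + r + 1 ≠ 0 := by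
    by_contra hc
    push Not at hc
    have hp : (X ^ 2 + X + 1 : F[X]) * (X * (X + 1)) = 0 := by
      refine eq_zero_of_natDegree_lt_card_of_eval_eq_zero _ (Function.injective_id (α := F)) (fun r => ?_) ?_
      · simp only [id_eq, eval_mul, eval_add, eval_pow, eval_X, eval_one, mul_eq_zero]
        by_cases h0 : r = 0
        · exact Or.inr (Or.inl h0)
        by_cases h1 : r = 1
        · exact Or.inr (Or.inr (by rw [h1, H.add_self]))
        exact Or.inl (hc r h0 h1)
      · refine lt_of_le_of_lt ?_ (show 4 < Fintype.card F by omega)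
        compute_degree
    have := congrArg (fun P : F[X] => P.coeff 4) hp
    ring_nf at this
    simp [Polynomial.coeff_X_pow, Polynomial.coeff_X, H.two] at this
  have hlam : ∀ w, β 1 w = 0 := by
    intro w
    have hne : 1 + r ≠ 0 := fun h => hr1 (H.eq_of_add h).symm
    set d := (1 + r)⁻¹ + 1 + r⁻¹ with hd
    have hd0 : d ≠ 0 := by
      rw [hd]
      field_simp
      intro h
      apply hr2
      rcases div_eq_zero_iff.1 h with h | h
      · linear_combination h - r * H.two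
      · exact absurd h (mul_ne_zero hr0 hne)
    have hall : ∀ y, β 1 (d * y) = 0 := by
      intro y
      rw [hd, add_mul, add_mul, h2, h2, ← hl _ hne, ← hl _ hr0, one_mul, h1]
      have hself : ∀ a b, β a b + β a b = 0 := fun a b => by
        rw [← h1, H.add_self, hb0]
      rw [show β 1 y + β r y + β 1 y + β r y = (β 1 y + β 1 y) + (β r y + β r y) by abel, hself, hself,
        add_zero]
    rw [← mul_inv_cancel_left₀ hd0 w]
    exact hall _
  by_cases hx : x = 0
  · rw [hx, hb0]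
  · rw [hl x hx, hlam]

/-- An invariant biadditive form of weights `(e + 2, e)` vanishes. -/
theorem eq_zero_of_form_two {A : Type*} [AddCommGroup A] (hm : 2 ≤ m) (he : e = 2 ^ (m + 1))
    (β : F → F → A)
    (h1 : ∀ x x' y, β (x + x') y = β x y + β x' y) (h2 : ∀ x y y', β x (y + y') = β x y + β x y')
    (hinv : ∀ (r : Fˣ) x y, β ((r : F) ^ (e + 2) * x) ((r : F) ^ e * y) = β x y) (x y : F) : β x y = 0 := by
  classical
  have hb0 : ∀ y, β 0 y = 0 := fun y => by
    have h := h1 0 0 y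
    rw [add_zero] at h
    exact left_eq_add.1 h
  have hself : ∀ a b, β a b + β a b = 0 := fun a b => by rw [← h1, H.add_self, hb0]
  have hl : ∀ r : F, r ≠ 0 → ∀ y, β (r ^ (e + 2)) y = β 1 ((r ^ e)⁻¹ * y) := fun r hr y => by
    have h := hinv (Units.mk0 r hr) 1 ((r ^ e)⁻¹ * y)
    rw [Units.val_mk0, mul_one, mul_inv_cancel_left₀ (pow_ne_zero _ hr)] at h
    exact h
  have hsurj : ∀ z : F, ∃ s, s ^ (e + 2) = z := by
    refine Finite.surjective_of_injective (f := fun s : F => s ^ (e + 2)) fun a b hab => ?_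
    by_cases hb : b = 0
    · have hab' : a ^ (e + 2) = b ^ (e + 2) := hab
      rw [hb, zero_pow (by omega)] at hab'
      rw [hb]
      exact (pow_eq_zero_iff (by omega)).1 hab'
    · exact eq_of_div_eq_one (H.eq_one_of_pow_add_two (t := a / b)
        (by rw [div_pow, show a ^ (e + 2) = b ^ (e + 2) from hab, div_self (pow_ne_zero _ hb)]))
  have he8 : 8 ≤ e := by
    rw [he]
    calc 8 = 2 ^ 3 := rfl
      _ ≤ _ := Nat.pow_le_pow_right two_pos (by omega)
  have hbig : 2 * e + 4 < Fintype.card F := by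
    rw [hF, he]
    have h3 : 2 ^ (m + 1) * 4 ≤ 2 ^ (2 * m + 1) := by
      rw [show (4 : ℕ) = 2 ^ 2 from rfl, ← pow_add]
      exact Nat.pow_le_pow_right two_pos (by omega)
    have h4 : 8 ≤ 2 ^ (m + 1) := he ▸ he8
    omega
  obtain ⟨v, hv0, hv1, hne⟩ : ∃ v : F, v ≠ 0 ∧ v ≠ 1 ∧
      v ^ (2 * e + 2) + v ^ (2 * e + 1) + v ^ (e + 2) + v ^ (e + 1) + v ^ e + v + 1 ≠ 0 := by
    by_contra hc
    push Not at hc
    have hp : (X ^ (2 * e + 2) + X ^ (2 * e + 1) + X ^ (e + 2) + X ^ (e + 1) + X ^ e + X + 1 : F[X]) *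
        (X * (X + 1)) = 0 := by
      refine eq_zero_of_natDegree_lt_card_of_eval_eq_zero _ (Function.injective_id (α := F))
        (fun r => ?_) (lt_of_le_of_lt ?_ hbig)
      · simp only [id_eq, eval_mul, eval_add, eval_pow, eval_X, eval_one, mul_eq_zero]
        by_cases h0 : r = 0
        · exact Or.inr (Or.inl h0)
        by_cases h1 : r = 1
        · exact Or.inr (Or.inr (by rw [h1, H.add_self]))
        exact Or.inl (hc r h0 h1)
      · refine natDegree_mul_le.trans ?_
        have e1 : (X ^ (2 * e + 2) + X ^ (2 * e + 1) + X ^ (e + 2) + X ^ (e + 1) + X ^ e + X + 1 :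
            F[X]).natDegree ≤ 2 * e + 2 := by
          compute_degree <;> omega
        have e2 : (X * (X + 1) : F[X]).natDegree ≤ 2 := by compute_degree
        omega
    have h0 := congrArg (fun P : F[X] => P.coeff 1) hp
    simp only [Polynomial.coeff_zero] at h0
    rw [show (X ^ (2 * e + 2) + X ^ (2 * e + 1) + X ^ (e + 2) + X ^ (e + 1) + X ^ e + X + 1 : F[X]) *
        (X * (X + 1)) = ((X ^ (2 * e + 2) + X ^ (2 * e + 1) + X ^ (e + 2) + X ^ (e + 1) + X ^ e + X + 1) *
          (X + 1)) * X by ring, Polynomial.coeff_mul_X, Polynomial.mul_coeff_zero] at h0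
    simp [Polynomial.coeff_X_pow, Polynomial.coeff_one, show e ≠ 0 by omega,
      show 0 ≠ e by omega] at h0
  -- `u = v` is the inverse of an `e`-th power
  obtain ⟨rr, hrr⟩ : ∃ r : F, (r ^ e)⁻¹ = v := by
    obtain ⟨s, hs⟩ := exists_pow_eq_e H (Units.mk0 v hv0)⁻¹
    refine ⟨s, ?_⟩
    rw [← Units.val_pow_eq_pow_val, hs, Units.val_inv_eq_inv_val, inv_inv, Units.val_mk0]
  have hr0 : rr ≠ 0 := by rintro rfl; simp [zero_pow H.e_ne] at hrr; exact hv0 hrr.symm
  have hr2 : rr ^ (e + 2) + 1 ≠ 0 := fun h => by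
    have h1 := H.eq_one_of_pow_add_two (H.eq_of_add h)
    rw [h1, one_pow, inv_one] at hrr
    exact hv1 hrr.symm
  obtain ⟨s, hs⟩ := hsurj (rr ^ (e + 2) + 1)
  have hs0 : s ≠ 0 := by
    rintro rfl
    rw [zero_pow (by omega)] at hs
    exact hr2 hs.symm
  set d := (s ^ e)⁻¹ + v + 1 with hd
  have hd0 : d ≠ 0 := by
    intro hd0
    apply hne
    have hsv : (s ^ e)⁻¹ = v + 1 := H.eq_of_add (by rw [← add_assoc]; exact hd0)
    -- write everything through the inverse `e`-th powers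
    have key : ∀ w : F, w ≠ 0 → w ^ (e + 2) * ((w ^ e)⁻¹) ^ (e + 1) = 1 := by
      intro w hw
      have e1 : (w ^ e) ^ (e + 1) = w ^ (e + 2) := by rw [pow_succ, H.sq, pow_add, mul_comm]
      rw [inv_pow, e1, mul_inv_cancel₀ (pow_ne_zero _ hw)]
    have k1 := key rr hr0
    rw [hrr] at k1
    have k2 := key s hs0
    rw [hsv, hs] at k2
    have k3 : (1 + v ^ (e + 1)) * (v + 1) ^ (e + 1) = v ^ (e + 1) := by
      linear_combination (v ^ (e + 1)) * k2 - ((v + 1) ^ (e + 1)) * k1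
    rw [pow_succ (v + 1), H.add_pow, one_pow] at k3
    ring_nf at k3 ⊢
    linear_combination k3
  have hlam : ∀ w, β 1 w = 0 := by
    intro w
    rw [← mul_inv_cancel_left₀ hd0 w]
    set y := d⁻¹ * w
    rw [hd, add_mul, add_mul, h2, h2, ← hl s hs0, hs, h1, hl rr hr0, hrr, one_mul,
      show β 1 (v * y) + β 1 y + β 1 (v * y) + β 1 y =
        (β 1 (v * y) + β 1 (v * y)) + (β 1 y + β 1 y) by abel, hself, hself, add_zero]
  by_cases hx : x = 0
  · rw [hx, hb0]
  · obtain ⟨t, rfl⟩ := hsurj x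
    have ht : t ≠ 0 := by rintro rfl; exact hx (zero_pow (by omega))
    rw [hl t ht, hlam]

end Forms

variable {F : Type u} [Field F] [Fintype F] {e m : ℕ} (H : TitsField F e)
  (hm : 2 ≤ m) (hF : Fintype.card F = 2 ^ (2 * m + 1)) (he : e = 2 ^ (m + 1))

include H hm hF he

set_option maxHeartbeats 3200000 in
/-- A central double cover of the Suzuki group does not lie in its commutator subgroup. -/
theorem not_stem_two {Γ : Type v} [Group Γ] [Finite Γ] (σ : Γ →* Sz F e)
    (hσ : Cfsg.IsStemExtension σ) : Nat.card σ.ker ≠ 2 := by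
  classical
  intro hK
  obtain ⟨hsurj, hcen, hcomm⟩ := hσ
  have hq : 8 ≤ Fintype.card F := by
    rw [hF]
    exact le_trans (by norm_num) (Nat.pow_le_pow_right two_pos (show 3 ≤ 2 * m + 1 by omega))
  have hkk : ∀ k ∈ σ.ker, k * k = 1 := fun k hk => by
    have h := pow_card_eq_one' (x := (⟨k, hk⟩ : σ.ker))
    rw [hK, sq] at h
    exact congrArg Subtype.val h
  have hkc : ∀ k ∈ σ.ker, ∀ g : Γ, g * k = k * g := fun k hk g => Subgroup.mem_center_iff.1 (hcen hk) g
  -- the torus action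
  choose τ hτ using fun r : Fˣ => hsurj (sh H r⁻¹)
  let cc : Fˣ → Γ → Γ := fun r x => τ r * x * (τ r)⁻¹
  have hcmul : ∀ r x y, cc r (x * y) = cc r x * cc r y := fun r x y => by
    simp only [cc]; group
  have hck : ∀ r, ∀ k ∈ σ.ker, cc r k = k := fun r k hk => by
    simp only [cc]
    rw [hkc k hk, mul_inv_cancel_right]
  have hccomm : ∀ r s x, cc r (cc s x) = cc s (cc r x) := by
    intro r s x
    have hk : (τ r * τ s) * (τ s * τ r)⁻¹ ∈ σ.ker := by
      rw [MonoidHom.mem_ker, map_mul, map_mul, map_inv, map_mul, hτ, hτ, sh_mul, sh_mul, mul_comm r⁻¹,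
        mul_inv_cancel]
    have h1 : τ r * τ s = (τ r * τ s) * (τ s * τ r)⁻¹ * (τ s * τ r) := by group
    simp only [cc]
    rw [show τ r * (τ s * x * (τ s)⁻¹) * (τ r)⁻¹ = (τ r * τ s) * x * (τ r * τ s)⁻¹ by group,
      show τ s * (τ r * x * (τ r)⁻¹) * (τ s)⁻¹ = (τ s * τ r) * x * (τ s * τ r)⁻¹ by group]
    set k := (τ r * τ s) * (τ s * τ r)⁻¹
    rw [h1, show k * (τ s * τ r) * x * (k * (τ s * τ r))⁻¹ = k * ((τ s * τ r) * x * (τ s * τ r)⁻¹) * k⁻¹ by
      group, ← hkc k hk, mul_inv_cancel_right]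
  have hσc : ∀ r x a b, σ x = su H a b →
      σ (cc r x) = su H ((r : F) ^ e * a) ((r : F) ^ (e + 2) * b) := by
    intro r x a b hx
    simp only [cc]
    rw [map_mul, map_mul, map_inv, hτ, hx, sh_inv, inv_inv, mul_assoc, sh_conj, ← mul_assoc, sh_mul,
      inv_mul_cancel, sh_one, one_mul]
  choose L hL using fun p : F × F => hsurj (su H p.1 p.2)
  -- the preimage of the centre
  let Zt : Subgroup Γ :=
    { carrier := {x | ∃ b, σ x = sz H b}
      one_mem' := ⟨0, by rw [map_one]; exact (su_zero H).symm⟩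
      mul_mem' := by
        rintro x y ⟨a, ha⟩ ⟨b, hb⟩
        exact ⟨a + b, by rw [map_mul, ha, hb, sz_mul]⟩
      inv_mem' := by
        rintro x ⟨a, ha⟩
        exact ⟨a, by rw [map_inv, ha, su_inv]; simp [zero_pow H.e_ne]⟩ }
  have hdiff : ∀ x y, σ x = σ y → x⁻¹ * y ∈ σ.ker := fun x y h => by
    rw [MonoidHom.mem_ker, map_mul, map_inv, h, inv_mul_cancel]
  -- commutators with values in the kernel
  letI hcg : CommGroup (Subgroup.center Γ) :=
    { (inferInstance : Group (Subgroup.center Γ)) with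
      mul_comm := fun a b => Subtype.ext (Subgroup.mem_center_iff.1 b.2 a) }
  let κ : Γ → Additive (Subgroup.center Γ) := fun g => if h : g ∈ Subgroup.center Γ then Additive.ofMul ⟨g, h⟩ else 0
  have hκmul : ∀ g g', g ∈ σ.ker → g' ∈ σ.ker → κ (g * g') = κ g + κ g' := by
    intro g g' hg hg'
    simp only [κ]
    rw [dif_pos (Subgroup.mul_mem _ (hcen hg) (hcen hg')), dif_pos (hcen hg), dif_pos (hcen hg')]
    rfl
  have hκ0 : ∀ g ∈ σ.ker, κ g = 0 → g = 1 := by
    intro g hg h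
    simp only [κ] at h
    rw [dif_pos (hcen hg)] at h
    exact congrArg Subtype.val (congrArg Additive.toMul h)
  have hcomk : ∀ x y : Γ, σ x * σ y = σ y * σ x → ⁅x, y⁆ ∈ σ.ker := fun x y h => by
    rw [MonoidHom.mem_ker, map_commutatorElement, commutatorElement_eq_one_iff_mul_comm.2 h]
  have hcm1 : ∀ x x' y : Γ, ⁅x', y⁆ ∈ σ.ker → ⁅x * x', y⁆ = ⁅x', y⁆ * ⁅x, y⁆ := by
    intro x x' y h
    rw [show ⁅x * x', y⁆ = x * ⁅x', y⁆ * x⁻¹ * ⁅x, y⁆ by simp only [commutatorElement_def]; group,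
      hkc _ h, mul_inv_cancel_right]
  have hcm2 : ∀ x y y' : Γ, ⁅x, y'⁆ ∈ σ.ker → ⁅x, y * y'⁆ = ⁅x, y⁆ * ⁅x, y'⁆ := by
    intro x y y' h
    rw [show ⁅x, y * y'⁆ = ⁅x, y⁆ * (y * ⁅x, y'⁆ * y⁻¹) by simp only [commutatorElement_def]; group,
      hkc _ h, mul_inv_cancel_right]
  have hcker : ∀ x y k : Γ, k ∈ σ.ker → ⁅x * k, y⁆ = ⁅x, y⁆ ∧ ⁅y, x * k⁆ = ⁅y, x⁆ := by
    intro x y k hk
    have h1 : ⁅k, y⁆ = 1 := commutatorElement_eq_one_iff_mul_comm.2 (hkc k hk y).symm
    have h2 : ⁅y, k⁆ = 1 := commutatorElement_eq_one_iff_mul_comm.2 (hkc k hk y)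
    refine ⟨?_, ?_⟩
    · rw [hcm1 x k y (h1 ▸ σ.ker.one_mem), h1, one_mul]
    · rw [hcm2 y x k (h2 ▸ σ.ker.one_mem), h2, mul_one]
  have hccom : ∀ r x y, cc r ⁅x, y⁆ = ⁅cc r x, cc r y⁆ := fun r x y => by
    simp only [cc, commutatorElement_def]; group
  -- commutators between the preimages of the centre and of the Sylow subgroup
  let β : F → F → Additive (Subgroup.center Γ) := fun z a => κ ⁅L (0, z), L (a, 0)⁆
  have hsame : ∀ x x' : Γ, σ x = σ x' → ∀ y : Γ, ⁅x, y⁆ = ⁅x', y⁆ ∧ ⁅y, x⁆ = ⁅y, x'⁆ := by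
    intro x x' h y
    have h' := hcker x y _ (hdiff x x' h)
    rw [mul_inv_cancel_left] at h'
    exact ⟨h'.1.symm, h'.2.symm⟩
  have hzu : ∀ z a b, ⁅L (0, z), L (a, b)⁆ ∈ σ.ker := fun z a b => hcomk _ _ (by
    rw [hL, hL, su_mul, su_mul]; simp [zero_pow H.e_ne, add_comm])
  have hzz : ∀ z b, ⁅L (0, z), L (0, b)⁆ = 1 := by
    intro z b
    let γ : F → F → Additive (Subgroup.center Γ) := fun x y => κ ⁅L (0, x), L (0, y)⁆
    have hprod : ∀ x y, σ (L (0, x) * L (0, y)) = σ (L (0, x + y)) := fun x y => by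
      rw [map_mul, hL, hL, hL, su_mul]; simp
    have hγ : γ z b = 0 := by
      refine eq_zero_of_form_one H hF hq γ (fun x x' y => ?_) (fun x y y' => ?_) (fun r x y => ?_) z b
      · simp only [γ]
        rw [← (hsame _ _ (hprod x x') _).1, hcm1 _ _ _ (hzu x' 0 y), hκmul _ _ (hzu x' 0 y) (hzu x 0 y),
          add_comm]
      · simp only [γ]
        rw [← (hsame _ _ (hprod y y') _).2, hcm2 _ _ _ (hzu x 0 y'), hκmul _ _ (hzu x 0 y) (hzu x 0 y')]
      · obtain ⟨s, hs⟩ := Finite.surjective_of_injective (f := fun t : Fˣ => t ^ (e + 2))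
          (fun t t' h => by
            refine mul_inv_eq_one.1 (Units.ext (H.eq_one_of_pow_add_two ?_))
            rw [← Units.val_pow_eq_pow_val, mul_pow, inv_pow, show t ^ (e + 2) = t' ^ (e + 2) from h,
              mul_inv_cancel, Units.val_one]) r
        have hs' : (s : F) ^ (e + 2) = r := congrArg Units.val hs
        have hsx : ∀ x, σ (cc s (L (0, x))) = σ (L (0, (r : F) * x)) := fun x => by
          rw [hσc s _ 0 x (hL _), hL, mul_zero, hs']
        simp only [γ]
        rw [← (hsame _ _ (hsx x) _).1, ← (hsame _ _ (hsx y) _).2, ← hccom, hck _ _ (hzu x 0 y)]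
    exact hκ0 _ (hzu z 0 b) hγ
  have hβ : ∀ z a, β z a = 0 := by
    have hprodz : ∀ x y, σ (L (0, x) * L (0, y)) = σ (L (0, x + y)) := fun x y => by
      rw [map_mul, hL, hL, hL, su_mul]; simp
    refine eq_zero_of_form_two H hF hm he β (fun x x' y => ?_) (fun x y y' => ?_) (fun r x y => ?_)
    · simp only [β]
      rw [← (hsame _ _ (hprodz x x') _).1, hcm1 _ _ _ (hzu x' y 0), hκmul _ _ (hzu x' y 0) (hzu x y 0),
        add_comm]
    · simp only [β]
      have hp : σ (L (y, 0) * L (y', 0)) = σ (L (y + y', 0) * L (0, y ^ e * y')) := by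
        rw [map_mul, map_mul, hL, hL, hL, hL, su_mul, su_mul]; simp
      have h2 := (hsame _ _ hp (L (0, x))).2
      rw [hcm2 _ _ _ (hzu x y' 0), hcm2 _ _ _ (hzu x 0 _), hzz, mul_one] at h2
      rw [← h2, hκmul _ _ (hzu x y 0) (hzu x y' 0)]
    · have hsx : σ (cc r (L (0, x))) = σ (L (0, (r : F) ^ (e + 2) * x)) := by
        rw [hσc r _ 0 x (hL _), hL, mul_zero]
      have hsy : σ (cc r (L (y, 0))) = σ (L ((r : F) ^ e * y, 0)) := by
        rw [hσc r _ y 0 (hL _), hL, mul_zero]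
      simp only [β]
      rw [← (hsame _ _ hsx _).1, ← (hsame _ _ hsy _).2, ← hccom, hck _ _ (hzu x y 0)]
  have hzcentral : ∀ x ∈ Zt, ∀ y a b, σ y = su H a b → x * y = y * x := by
    rintro x ⟨z, hz⟩ y a b hy
    rw [← commutatorElement_eq_one_iff_mul_comm]
    have hy' : σ y = σ (L (a, 0) * L (0, b)) := by rw [hy, map_mul, hL, hL, su_mul]; simp
    rw [(hsame x (L (0, z)) (hz.trans (hL (0, z)).symm) y).1, (hsame y _ hy' _).2, hcm2 _ _ _ (hzu z 0 b), hzz,
      mul_one]
    exact hκ0 _ (hzu z a 0) (hβ z a)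
  -- the equivariant section on the centre
  obtain ⟨s0, hs0, hs01⟩ : ∃ s0 : Fˣ, ((s0 : F) ^ (e + 2) + 1 ≠ 0) ∧ ((s0 : F) ^ e + 1 ≠ 0) := by
    obtain ⟨t, ht⟩ := exists_unit_ne_one H (by rw [Nat.card_eq_fintype_card]; omega : 4 ≤ Nat.card F)
    refine ⟨t, fun h => ht (Units.ext ?_), fun h => ht (Units.ext ?_)⟩
    · exact H.eq_one_of_pow_add_two (H.eq_of_add h)
    · exact H.pow_inj (by rw [H.eq_of_add h, Units.val_one, one_pow])
  have hZc : ∀ x ∈ Zt, ∀ y ∈ Zt, x * y = y * x := fun x hx y ⟨b, hb⟩ => hzcentral x hx y 0 b hb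
  have hcZ : ∀ r, ∀ x ∈ Zt, cc r x ∈ Zt := fun r x ⟨b, hb⟩ => ⟨(r : F) ^ (e + 2) * b, by
    rw [hσc r x 0 b hb, mul_zero]⟩
  let δ : Γ → Γ := fun x => cc s0 x * x
  have hδmul : ∀ x ∈ Zt, ∀ y ∈ Zt, δ (x * y) = δ x * δ y := by
    intro x hx y hy
    simp only [δ]
    rw [hcmul, mul_assoc (cc s0 x) (cc s0 y), ← mul_assoc (cc s0 y) x, hZc _ (hcZ _ y hy) x hx]
    group
  have hδk : ∀ k ∈ σ.ker, δ k = 1 := fun k hk => by simp only [δ]; rw [hck _ k hk, hkk k hk]
  let sc : F → Γ := fun b => δ (L (0, b / ((s0 : F) ^ (e + 2) + 1)))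
  have hsc : ∀ b, σ (sc b) = sz H b := by
    intro b
    simp only [sc, δ]
    rw [map_mul, hσc s0 _ 0 _ (hL _), hL, mul_zero]
    show sz H _ * sz H _ = sz H b
    rw [sz_mul]
    congr 1
    field_simp
  have hmemZ : ∀ b, L (0, b) ∈ Zt := fun b => ⟨b, hL _⟩
  have hscadd : ∀ a b, sc (a + b) = sc a * sc b := by
    intro a b
    simp only [sc]
    rw [← hδmul _ (hmemZ _) _ (hmemZ _)]
    set w := (s0 : F) ^ (e + 2) + 1
    have h : σ (L (0, (a + b) / w)) = σ (L (0, a / w) * L (0, b / w)) := by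
      rw [map_mul, hL, hL, hL, su_mul]; simp [add_div]
    have hk := hdiff _ _ h
    have e1 : L (0, a / w) * L (0, b / w) = L (0, (a + b) / w) *
        ((L (0, (a + b) / w))⁻¹ * (L (0, a / w) * L (0, b / w))) := by group
    rw [e1, hδmul _ (hmemZ _) _ ⟨0, (MonoidHom.mem_ker.1 hk).trans (su_zero H).symm⟩, hδk _ hk, mul_one]
  have hsc_equi : ∀ r b, cc r (sc b) = sc ((r : F) ^ (e + 2) * b) := by
    intro r b
    simp only [sc, δ]
    rw [hcmul, hccomm]
    set w := (s0 : F) ^ (e + 2) + 1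
    have h : σ (cc r (L (0, b / w))) = σ (L (0, (r : F) ^ (e + 2) * b / w)) := by
      rw [hσc r _ 0 _ (hL _), hL, mul_zero, mul_div_assoc]
    have hk := hdiff _ _ h
    have hxZ := hcZ r _ (hmemZ (b / w))
    have h2 : δ (L (0, (r : F) ^ (e + 2) * b / w)) = δ (cc r (L (0, b / w))) := by
      conv_lhs => rw [← mul_inv_cancel_left (cc r (L (0, b / w))) (L (0, (r : F) ^ (e + 2) * b / w))]
      rw [hδmul _ hxZ _ ⟨0, (MonoidHom.mem_ker.1 hk).trans (su_zero H).symm⟩, hδk _ hk, mul_one]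
    exact h2.symm
  have hscZ : ∀ b, sc b ∈ Zt := fun b => ⟨b, hsc b⟩
  have hinvt : ∀ r : Fˣ, ∃ s : Fˣ, (s : F) ^ e = r := fun r => by
    obtain ⟨s, hs⟩ := exists_pow_eq_e H r
    exact ⟨s, congrArg Units.val hs⟩
  -- commutators in the preimage of the Sylow subgroup
  let γ : F → F → Γ := fun a b => ⁅L (a, 0), L (b, 0)⁆ * (sc (a ^ e * b + b ^ e * a))⁻¹
  have hcomσ : ∀ a b, σ ⁅L (a, 0), L (b, 0)⁆ = sz H (a ^ e * b + b ^ e * a) := by
    intro a b
    rw [map_commutatorElement, hL, hL, commutatorElement_def, mul_inv_eq_iff_eq_mul, mul_inv_eq_iff_eq_mul,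
      mul_assoc, sz, su_mul, su_mul, su_mul]
    congr 1
    · ring
    · simp only [zero_pow H.e_ne, zero_mul, add_zero]
      linear_combination -(b ^ e * a) * H.two
  have hγk : ∀ a b, γ a b ∈ σ.ker := fun a b => by
    rw [MonoidHom.mem_ker, map_mul, map_inv, hcomσ, hsc, mul_inv_cancel]
  have hcomeq : ∀ a b, ⁅L (a, 0), L (b, 0)⁆ = γ a b * sc (a ^ e * b + b ^ e * a) := fun a b => by
    simp only [γ, inv_mul_cancel_right]
  have hcomZ : ∀ a b, ⁅L (a, 0), L (b, 0)⁆ ∈ Zt := fun a b => ⟨_, hcomσ a b⟩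
  have hγ : ∀ a b, γ a b = 1 := by
    intro a b
    refine hκ0 _ (hγk a b) (eq_zero_of_form_one H hF hq (fun a b => κ (γ a b))
      (fun x x' y => ?_) (fun x y y' => ?_) (fun r x y => ?_) a b)
    · have hp : σ (L (x, 0) * L (x', 0)) = σ (L (x + x', 0) * L (0, x ^ e * x')) := by
        rw [map_mul, map_mul, hL, hL, hL, hL, su_mul, su_mul]; simp
      have h1 : ⁅L (x + x', 0), L (y, 0)⁆ = ⁅L (x', 0), L (y, 0)⁆ * ⁅L (x, 0), L (y, 0)⁆ := by
        have h2 := (hsame _ _ hp (L (y, 0))).1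
        have hzc : ⁅L (0, x ^ e * x'), L (y, 0)⁆ = 1 :=
          commutatorElement_eq_one_iff_mul_comm.2 (hzcentral _ (hmemZ _) _ _ _ (hL _))
        have e1 : ⁅L (x, 0) * L (x', 0), L (y, 0)⁆ = ⁅L (x', 0), L (y, 0)⁆ * ⁅L (x, 0), L (y, 0)⁆ := by
          rw [show ⁅L (x, 0) * L (x', 0), L (y, 0)⁆ =
            L (x, 0) * ⁅L (x', 0), L (y, 0)⁆ * (L (x, 0))⁻¹ * ⁅L (x, 0), L (y, 0)⁆ by
              simp only [commutatorElement_def]; group,
            ← hzcentral _ (hcomZ x' y) _ _ _ (hL (x, 0)), mul_inv_cancel_right]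
        rw [hcm1 (L (x + x', 0)) (L (0, x ^ e * x')) (L (y, 0)) (by rw [hzc]; exact σ.ker.one_mem), hzc,
          one_mul, e1] at h2
        exact h2.symm
      show κ (γ (x + x') y) = κ (γ x y) + κ (γ x' y)
      rw [← hκmul _ _ (hγk x y) (hγk x' y)]
      congr 1
      refine mul_right_cancel (b := sc ((x + x') ^ e * y + y ^ e * (x + x'))) ?_
      rw [← hcomeq, h1, hcomeq x y, hcomeq x' y, H.add_pow,
        show (x ^ e + x' ^ e) * y + y ^ e * (x + x') =
          (x' ^ e * y + y ^ e * x') + (x ^ e * y + y ^ e * x) by ring,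
        hscadd (x' ^ e * y + y ^ e * x')]
      rw [hkc _ (hγk x' y) (γ x y), mul_assoc (γ x' y) (sc _), ← mul_assoc (sc (x' ^ e * y + y ^ e * x')),
        hkc _ (hγk x y) (sc _)]
      simp only [mul_assoc]
    · have hp : σ (L (y, 0) * L (y', 0)) = σ (L (y + y', 0) * L (0, y ^ e * y')) := by
        rw [map_mul, map_mul, hL, hL, hL, hL, su_mul, su_mul]; simp
      have h1 : ⁅L (x, 0), L (y + y', 0)⁆ = ⁅L (x, 0), L (y, 0)⁆ * ⁅L (x, 0), L (y', 0)⁆ := by
        have h2 := (hsame _ _ hp (L (x, 0))).2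
        have hzc : ⁅L (x, 0), L (0, y ^ e * y')⁆ = 1 :=
          commutatorElement_eq_one_iff_mul_comm.2 (hzcentral _ (hmemZ _) _ _ _ (hL _)).symm
        have e1 : ⁅L (x, 0), L (y, 0) * L (y', 0)⁆ = ⁅L (x, 0), L (y, 0)⁆ * ⁅L (x, 0), L (y', 0)⁆ := by
          rw [show ⁅L (x, 0), L (y, 0) * L (y', 0)⁆ =
            ⁅L (x, 0), L (y, 0)⁆ * (L (y, 0) * ⁅L (x, 0), L (y', 0)⁆ * (L (y, 0))⁻¹) by
              simp only [commutatorElement_def]; group,
            ← hzcentral _ (hcomZ x y') _ _ _ (hL (y, 0)), mul_inv_cancel_right]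
        rw [hcm2 (L (x, 0)) (L (y + y', 0)) (L (0, y ^ e * y')) (by rw [hzc]; exact σ.ker.one_mem), hzc,
          mul_one, e1] at h2
        exact h2.symm
      show κ (γ x (y + y')) = κ (γ x y) + κ (γ x y')
      rw [← hκmul _ _ (hγk x y) (hγk x y')]
      congr 1
      refine mul_right_cancel (b := sc (x ^ e * (y + y') + (y + y') ^ e * x)) ?_
      rw [← hcomeq, h1, hcomeq x y, hcomeq x y', H.add_pow,
        show x ^ e * (y + y') + (y ^ e + y' ^ e) * x =
          (x ^ e * y + y ^ e * x) + (x ^ e * y' + y' ^ e * x) by ring,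
        hscadd (x ^ e * y + y ^ e * x)]
      rw [mul_assoc (γ x y) (sc _), ← mul_assoc (sc (x ^ e * y + y ^ e * x)), hkc _ (hγk x y') (sc _)]
      simp only [mul_assoc]
    · obtain ⟨s, hs⟩ := hinvt r
      have hpow : (r : F) ^ e * r = (s : F) ^ (e + 2) := by rw [← hs, H.sq, pow_add, mul_comm]
      have hsx : ∀ x, σ (cc s (L (x, 0))) = σ (L ((r : F) * x, 0)) := fun x => by
        rw [hσc s _ x 0 (hL _), hL, mul_zero, hs]
      show κ (γ ((r : F) * x) ((r : F) * y)) = κ (γ x y)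
      congr 1
      simp only [γ]
      rw [← (hsame _ _ (hsx x) _).1, ← (hsame _ _ (hsx y) _).2, ← hccom, hcomeq x y, hcmul,
        hck _ _ (hγk x y), hsc_equi, mul_pow, mul_pow,
        show (r : F) ^ e * x ^ e * ((r : F) * y) + (r : F) ^ e * y ^ e * ((r : F) * x) =
          (r : F) ^ e * r * (x ^ e * y + y ^ e * x) by ring, hpow, mul_inv_cancel_right]
      simp only [γ, inv_mul_cancel_right]
  have hcommutator : ∀ a b, ⁅L (a, 0), L (b, 0)⁆ = sc (a ^ e * b + b ^ e * a) := fun a b => by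
    rw [hcomeq, hγ, one_mul]
  -- squares
  have hzsq : ∀ x ∈ Zt, x * x = 1 := by
    rintro x ⟨b, hb⟩
    have hk : (sc b)⁻¹ * x ∈ σ.ker := hdiff _ _ (by rw [hsc, hb])
    have h0 : sc 0 = 1 := by
      have h := hscadd 0 0
      rw [add_zero] at h
      exact left_eq_mul.1 h
    have hxe : x = sc b * ((sc b)⁻¹ * x) := by group
    set k := (sc b)⁻¹ * x
    rw [hxe, mul_assoc, ← mul_assoc k, ← hkc k hk, mul_assoc (sc b) k k, hkk k hk, mul_one, ← hscadd,
      H.add_self, h0]
  let cq : F → Γ := fun a => L (a, 0) * L (a, 0) * (sc (a ^ e * a))⁻¹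
  have hsqσ : ∀ a, σ (L (a, 0) * L (a, 0)) = sz H (a ^ e * a) := fun a => by
    rw [map_mul, hL, su_mul, H.add_self, H.add_self, zero_add]
  have hcqk : ∀ a, cq a ∈ σ.ker := fun a => by
    rw [MonoidHom.mem_ker, map_mul, map_inv, hsqσ, hsc, mul_inv_cancel]
  have hsq : ∀ a, L (a, 0) * L (a, 0) = sc (a ^ e * a) := by
    have hcq : ∀ a, κ (cq a) = 0 := by
      refine eq_zero_of_invariant H hF (by omega) (fun a => κ (cq a)) (fun x y => ?_) (fun r x => ?_)
      · show κ (cq (x + y)) = κ (cq x) + κ (cq y)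
        rw [← hκmul _ _ (hcqk x) (hcqk y)]
        congr 1
        have hp : σ (L (x + y, 0) * L (0, x ^ e * y)) = σ (L (x, 0) * L (y, 0)) := by
          rw [map_mul, map_mul, hL, hL, hL, hL, su_mul, su_mul]; simp
        set X := L (x, 0) with hX
        set Y := L (y, 0) with hY
        set W := L (x + y, 0) with hW
        set Zxy := L (0, x ^ e * y) with hZ
        have hk := hdiff _ _ hp
        set k := (W * Zxy)⁻¹ * (X * Y) with hkdef
        have hXY : X * Y = W * Zxy * k := by rw [hkdef]; group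
        have hWsq : W * W = X * Y * (X * Y) := by
          have hcomWZ : Zxy * W = W * Zxy := hzcentral _ (hmemZ _) _ _ _ (hL _)
          rw [hXY, show W * Zxy * k * (W * Zxy * k) = W * Zxy * (k * (W * Zxy)) * k by group,
            ← hkc k hk, show W * Zxy * (W * Zxy * k) * k = W * (Zxy * W) * Zxy * (k * k) by group,
            hcomWZ, hkk k hk, mul_one, show W * (W * Zxy) * Zxy = W * W * (Zxy * Zxy) by group,
            hzsq _ (hmemZ _), mul_one]
        have hYX : Y * X = ⁅Y, X⁆ * (X * Y) := by simp only [commutatorElement_def]; group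
        have hC : ⁅Y, X⁆ ∈ Zt := hcomZ y x
        have hXY2 : X * Y * (X * Y) = X * X * (Y * Y) * ⁅Y, X⁆ := by
          calc X * Y * (X * Y) = X * (Y * X) * Y := by group
            _ = X * ⁅Y, X⁆ * (X * Y * Y) := by rw [hYX]; group
            _ = ⁅Y, X⁆ * (X * X * (Y * Y)) := by
              rw [← hzcentral _ hC X x 0 (hL _)]; group
            _ = _ := by
              rw [hzcentral _ hC (X * X * (Y * Y)) 0 (x ^ e * x + y ^ e * y) (by
                rw [map_mul, hsqσ, hsqσ, sz_mul])]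
        have e1 : X * X = cq x * sc (x ^ e * x) := (inv_mul_cancel_right _ _).symm
        have e2 : Y * Y = cq y * sc (y ^ e * y) := (inv_mul_cancel_right _ _).symm
        simp only [cq]
        rw [← hW, hWsq, hXY2, e1, e2, hY, hX, hcommutator,
          show (x + y) ^ e * (x + y) = (x ^ e * x + y ^ e * y) + (y ^ e * x + x ^ e * y) by
            rw [H.add_pow]; ring, hscadd, hscadd,
          mul_assoc (cq x) (sc _), ← mul_assoc (sc (x ^ e * x)) (cq y), hkc _ (hcqk y) (sc _)]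
        simp only [hscadd, ← hX, ← hY, cq]
        group
      · obtain ⟨s, hs⟩ := hinvt r
        have hpow : (r : F) ^ e * r = (s : F) ^ (e + 2) := by rw [← hs, H.sq, pow_add, mul_comm]
        show κ (cq ((r : F) * x)) = κ (cq x)
        congr 1
        have hsx : σ (cc s (L (x, 0))) = σ (L ((r : F) * x, 0)) := by
          rw [hσc s _ x 0 (hL _), hL, mul_zero, hs]
        have hk := hdiff _ _ hsx
        have hL' : L ((r : F) * x, 0) * L ((r : F) * x, 0) = cc s (L (x, 0) * L (x, 0)) := by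
          set X := cc s (L (x, 0))
          set k := X⁻¹ * L ((r : F) * x, 0)
          rw [show L ((r : F) * x, 0) = X * k by simp only [k]; group,
            show X * k * (X * k) = X * (k * X) * k by group, ← hkc k hk,
            show X * (X * k) * k = X * X * (k * k) by group, hkk k hk, mul_one, hcmul]
        have e1 : L (x, 0) * L (x, 0) = cq x * sc (x ^ e * x) := by simp only [cq, inv_mul_cancel_right]
        simp only [cq]
        rw [hL', e1, hcmul, hck _ _ (hcqk x), hsc_equi, mul_pow,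
          show (r : F) ^ e * x ^ e * ((r : F) * x) = (r : F) ^ e * r * (x ^ e * x) by ring, hpow,
          mul_inv_cancel_right, mul_inv_cancel_right]
    intro a
    have h := hκ0 _ (hcqk a) (hcq a)
    simp only [cq] at h
    exact mul_inv_eq_one.1 h
  -- an equivariant complement
  let U : Subgroup Γ := (uni H).comap σ
  have hU : ∀ x ∈ U, ∃ a b, σ x = su H a b := fun x hx => hx
  have hdec : ∀ x ∈ U, ∃ a, ∃ w ∈ Zt, x = L (a, 0) * w := by
    intro x hx
    obtain ⟨a, b, h⟩ := hU x hx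
    refine ⟨a, (L (a, 0))⁻¹ * x, ⟨b, ?_⟩, by group⟩
    rw [map_mul, map_inv, hL, h, su_inv, su_mul, H.add_self]
    congr 1
    simp only [mul_zero, zero_add]
    linear_combination (a ^ e * a) * H.two
  let S : Subgroup U :=
    { carrier := {x | ∃ b, (x : Γ) = sc b}
      one_mem' := ⟨0, by
        have h := hscadd 0 0
        rw [add_zero] at h
        exact (left_eq_mul.1 h).symm⟩
      mul_mem' := by
        rintro x y ⟨a, ha⟩ ⟨b, hb⟩
        exact ⟨a + b, by rw [Subgroup.coe_mul, ha, hb, hscadd]⟩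
      inv_mem' := by
        rintro x ⟨a, ha⟩
        exact ⟨a, by rw [Subgroup.coe_inv, ha, inv_eq_iff_mul_eq_one, hzsq _ (hscZ a)]⟩ }
  haveI hSn : S.Normal := ⟨fun x hx g => by
    obtain ⟨b, hb⟩ := hx
    obtain ⟨a', b', hg⟩ := hU g g.2
    refine ⟨b, ?_⟩
    rw [Subgroup.coe_mul, Subgroup.coe_mul, Subgroup.coe_inv, hb, ← hzcentral _ (hscZ b) _ a' b' hg,
      mul_inv_cancel_right]⟩
  have hzU : ∀ x ∈ Zt, x ∈ U := fun x ⟨b, hb⟩ => ⟨0, b, hb⟩
  have hLU : ∀ a, L (a, 0) ∈ U := fun a => ⟨a, 0, hL _⟩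
  have hkU : ∀ k ∈ σ.ker, k ∈ U := fun k hk => hzU k ⟨0, (MonoidHom.mem_ker.1 hk).trans (su_zero H).symm⟩
  have hcU : ∀ r, ∀ x ∈ U, cc r x ∈ U := by
    intro r x hx
    obtain ⟨a, b, h⟩ := hU x hx
    exact ⟨_, _, hσc r x a b h⟩
  -- commutators of the preimage lie in the section
  have hcomU : ∀ x ∈ U, ∀ y ∈ U, ∃ b, ⁅x, y⁆ = sc b := by
    intro x hx y hy
    obtain ⟨a, w, hw, rfl⟩ := hdec x hx
    obtain ⟨a', w', hw', rfl⟩ := hdec y hy
    refine ⟨a ^ e * a' + a' ^ e * a, ?_⟩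
    rw [← hcommutator]
    have c1 : w * L (a', 0) = L (a', 0) * w := hzcentral w hw _ _ _ (hL _)
    have c2 : w' * L (a, 0) = L (a, 0) * w' := hzcentral w' hw' _ _ _ (hL _)
    have c3 : w * w' = w' * w := hZc w hw w' hw'
    have e1 : ∀ g h : Γ, g * h = h * g → g⁻¹ * h = h * g⁻¹ := fun g h hgh => by
      rw [inv_mul_eq_iff_eq_mul, ← mul_assoc, hgh, mul_inv_cancel_right]
    simp only [commutatorElement_def, _root_.mul_inv_rev]
    calc L (a, 0) * w * (L (a', 0) * w') * (w⁻¹ * (L (a, 0))⁻¹) * (w'⁻¹ * (L (a', 0))⁻¹)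
        = L (a, 0) * (w * L (a', 0)) * (w' * w⁻¹) * (L (a, 0))⁻¹ * w'⁻¹ * (L (a', 0))⁻¹ := by group
      _ = L (a, 0) * L (a', 0) * (w * w' * w⁻¹) * (L (a, 0))⁻¹ * w'⁻¹ * (L (a', 0))⁻¹ := by rw [c1]; group
      _ = L (a, 0) * L (a', 0) * (w' * (L (a, 0))⁻¹) * w'⁻¹ * (L (a', 0))⁻¹ := by rw [c3]; group
      _ = L (a, 0) * L (a', 0) * ((L (a, 0))⁻¹ * w') * w'⁻¹ * (L (a', 0))⁻¹ := by
          rw [← (e1 _ _ c2.symm)]
      _ = _ := by group
  letI : CommGroup (U ⧸ S) :=
    { (inferInstance : Group (U ⧸ S)) with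
      mul_comm := fun p q => by
        induction p using QuotientGroup.induction_on with | H x => ?_
        induction q using QuotientGroup.induction_on with | H y => ?_
        rw [← QuotientGroup.mk_mul, ← QuotientGroup.mk_mul, QuotientGroup.eq]
        obtain ⟨b, hb⟩ := hcomU _ (U.inv_mem y.2) _ (U.inv_mem x.2)
        refine ⟨b, ?_⟩
        rw [← hb]
        simp only [Subgroup.coe_mul, Subgroup.coe_inv, commutatorElement_def]
        group }
  let δQ : U →* U ⧸ S := MonoidHom.mk'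
    (fun x => QuotientGroup.mk (⟨cc s0 x, hcU s0 x x.2⟩ * x : U)) fun x y => by
      rw [QuotientGroup.mk_mul, QuotientGroup.mk_mul, QuotientGroup.mk_mul,
        show (⟨cc s0 ((x * y : U) : Γ), hcU s0 _ (x * y : U).2⟩ : U) =
          ⟨cc s0 x, hcU s0 x x.2⟩ * ⟨cc s0 y, hcU s0 y y.2⟩ from Subtype.ext (hcmul s0 x y),
        QuotientGroup.mk_mul]
      simp only [QuotientGroup.mk_mul]
      ac_rfl
  have hδZ : ∀ x : U, (x : Γ) ∈ Zt → δQ x = 1 := by
    intro x hx
    obtain ⟨b, hb⟩ := hx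
    show QuotientGroup.mk _ = (1 : U ⧸ S)
    rw [QuotientGroup.eq_one_iff]
    refine ⟨(s0 : F) ^ (e + 2) * b + b, ?_⟩
    have hk : (sc b)⁻¹ * (x : Γ) ∈ σ.ker := hdiff _ _ (by rw [hsc, hb])
    set k := (sc b)⁻¹ * (x : Γ) with hkdef
    rw [Subgroup.coe_mul]
    show cc s0 (x : Γ) * (x : Γ) = _
    rw [show (x : Γ) = sc b * k by rw [hkdef]; group, hcmul, hck _ k hk, hsc_equi, hscadd,
      show sc ((s0 : F) ^ (e + 2) * b) * k * (sc b * k) = sc ((s0 : F) ^ (e + 2) * b) * (k * sc b) * k by group,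
      ← hkc k hk, show sc ((s0 : F) ^ (e + 2) * b) * (sc b * k) * k =
        sc ((s0 : F) ^ (e + 2) * b) * sc b * (k * k) by group, hkk k hk, mul_one]
  have hfst : ∀ x : U, ∃ a, ∃ w ∈ Zt, (x : Γ) = L (a, 0) * w := fun x => hdec x x.2
  choose pa pw hpw hpa using hfst
  have hpuniq : ∀ (x : U) a b, σ (x : Γ) = su H a b → pa x = a := by
    intro x a b h
    obtain ⟨b', hb'⟩ := hpw x
    rw [hpa x, map_mul, hL, hb', sz, su_mul, add_zero] at h
    exact (su_inj H h).1
  let T : F → U ⧸ S := fun a => δQ ⟨L (a / ((s0 : F) ^ e + 1), 0), hLU _⟩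
  have hTadd : ∀ a b, T (a + b) = T a * T b := by
    intro a b
    simp only [T]
    rw [← map_mul]
    set w := (s0 : F) ^ e + 1
    set P : U := ⟨L (a / w, 0), hLU _⟩ * ⟨L (b / w, 0), hLU _⟩
    set Q : U := ⟨L ((a + b) / w, 0), hLU _⟩
    rw [show P = Q * (Q⁻¹ * P) by group, map_mul δQ Q, hδZ (Q⁻¹ * P) ⟨(a / w) ^ e * (b / w), ?_⟩, mul_one]
    rw [Subgroup.coe_mul, Subgroup.coe_inv, map_mul, map_inv]
    show (σ (L ((a + b) / w, 0)))⁻¹ * σ (L (a / w, 0) * L (b / w, 0)) = _
    rw [map_mul, hL, hL, hL, su_mul, inv_mul_eq_iff_eq_mul, sz, su_mul]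
    congr 1
    · rw [add_zero, add_div]
    · simp
  let ψ : U →* U ⧸ S := MonoidHom.mk' (fun x => (QuotientGroup.mk x : U ⧸ S) * (T (pa x))⁻¹) fun x y => by
    obtain ⟨a, b, hx⟩ := hU x x.2
    obtain ⟨a', b', hy⟩ := hU y y.2
    rw [hpuniq x a b hx, hpuniq y a' b' hy, hpuniq (x * y) (a + a') (b + b' + a ^ e * a')
      (by rw [Subgroup.coe_mul, map_mul, hx, hy, su_mul]), hTadd, QuotientGroup.mk_mul, mul_inv_rev]
    ac_rfl
  -- transfer
  obtain ⟨k, hk, hk1⟩ : ∃ k ∈ σ.ker, k ≠ 1 := by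
    haveI : Nontrivial σ.ker := Finite.one_lt_card_iff_nontrivial.1 (by omega)
    obtain ⟨⟨k, hk⟩, h⟩ := exists_ne (1 : σ.ker)
    exact ⟨k, hk, fun h0 => h (Subtype.ext h0)⟩
  have hψk : ψ ⟨k, hkU k hk⟩ ≠ 1 := by
    intro h
    have hσk : σ k = su H 0 0 := (MonoidHom.mem_ker.1 hk).trans (su_zero H).symm
    have hT0 : T 0 = 1 := by
      have h := hTadd 0 0
      rw [add_zero] at h
      exact left_eq_mul.1 h
    have h2 : (QuotientGroup.mk (⟨k, hkU k hk⟩ : U) : U ⧸ S) * (T (pa ⟨k, hkU k hk⟩))⁻¹ = 1 := h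
    rw [hpuniq _ 0 0 hσk, hT0, inv_one, mul_one, QuotientGroup.eq_one_iff] at h2
    obtain ⟨b, hb⟩ := h2
    have hb' : k = sc b := hb
    have hb0 : b = 0 := by
      have := hsc b
      rw [← hb', hσk] at this
      exact (su_inj H this).2.symm
    apply hk1
    rw [hb', hb0]
    have h := hscadd 0 0
    rw [add_zero] at h
    exact left_eq_mul.1 h
  have hodd : Odd U.index := by
    rw [Subgroup.index_comap_of_surjective _ hsurj]
    haveI := Fact.mk Nat.prime_two
    rw [← Nat.not_even_iff_odd, even_iff_two_dvd, ← coe_uniSylow H hF]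
    exact (uniSylow H hF).not_dvd_index
  apply hψk
  have h1 : MonoidHom.transfer ψ k = 1 := Abelianization.commutator_subset_ker _ (hcomm hk)
  rw [MonoidHom.transfer_eq_pow ψ k (fun n g _ => by
    rw [mul_assoc, ← (Subgroup.mem_center_iff.1 ((Subgroup.center Γ).pow_mem (hcen hk) n) g),
      inv_mul_cancel_left])] at h1
  obtain ⟨j, hj⟩ := hodd
  have hkp : k ^ U.index = k := by rw [hj, pow_succ, pow_mul, sq, hkk k hk, one_pow, one_mul]
  rw [← h1]
  exact congrArg ψ (Subtype.ext hkp.symm)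

end CfsgLib.KnownA.Suzuki

namespace CfsgLib.KnownA.Suzuki

open Cfsg.Lie
open scoped commutatorElement

universe w

variable {F : Type*} [Field F] [Fintype F] {e m : ℕ} (H : TitsField F e) (hm : 2 ≤ m)
  (hF : Fintype.card F = 2 ^ (2 * m + 1)) (he : e = 2 ^ (m + 1))

include H hm hF he

/-- The Suzuki groups over at least `32` elements have trivial multiplier. -/
theorem multiplier_trivial : Cfsg.HasCyclicSchurMultiplier (Sz F e) 1 := by
  classical
  haveI : Finite (Sz F e) := Finite.of_fintype _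
  refine CfsgLib.Schur.hasCyclicSchurMultiplier_one_of_forall fun Γ _ _ σ hσ => ?_
  obtain ⟨hsurj, hcen, hcomm⟩ := hσ
  by_contra hne
  have hcard : Nat.card σ.ker ≠ 1 := fun h => hne (Subgroup.eq_bot_of_card_eq _ h)
  obtain ⟨p, hp, hpd⟩ := Nat.exists_prime_and_dvd hcard
  haveI := Fact.mk hp
  obtain ⟨⟨k, hk⟩, hko⟩ := exists_prime_orderOf_dvd_card' p hpd
  rw [← Subgroup.orderOf_coe] at hko
  change orderOf k = p at hko
  by_cases hp2 : p = 2
  · subst hp2
    letI : CommGroup σ.ker :=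
      { (inferInstance : Group σ.ker) with
        mul_comm := fun a b => Subtype.ext (Subgroup.mem_center_iff.1 (hcen b.2) a) }
    set S : Subgroup σ.ker := (powMonoidHom 2 : σ.ker →* σ.ker).range
    have hS : S ≠ ⊤ := by
      intro h
      have hs : Function.Surjective (powMonoidHom 2 : σ.ker →* σ.ker) := MonoidHom.range_eq_top.1 h
      have hi := Finite.injective_iff_surjective.2 hs
      have h1 : (⟨k, hk⟩ : σ.ker) = 1 := hi (by
        rw [powMonoidHom_apply, powMonoidHom_apply, one_pow]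
        exact Subtype.ext (by simpa [← hko] using pow_orderOf_eq_one k))
      rw [Subtype.ext_iff] at h1
      simp only [OneMemClass.coe_one] at h1
      rw [h1, orderOf_one] at hko
      omega
    have hQ : IsPGroup 2 (σ.ker ⧸ S) := by
      intro x
      induction x using QuotientGroup.induction_on with | H a => ?_
      exact ⟨1, by rw [pow_one, ← QuotientGroup.mk_pow, QuotientGroup.eq_one_iff]; exact ⟨a, rfl⟩⟩
    obtain ⟨n, hn⟩ := IsPGroup.iff_card.1 hQ
    have hn0 : n ≠ 0 := by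
      rintro rfl
      rw [pow_zero, ← Subgroup.index_eq_card, Subgroup.index_eq_one] at hn
      exact hS hn
    obtain ⟨K', hK'⟩ := Sylow.exists_subgroup_card_pow_prime (G := σ.ker ⧸ S) 2
      (hn ▸ pow_dvd_pow 2 (Nat.sub_le n 1))
    have hidx : (K'.comap (QuotientGroup.mk' S)).index = 2 := by
      rw [Subgroup.index_comap_of_surjective _ (QuotientGroup.mk'_surjective S)]
      have h := K'.card_mul_index
      rw [hK', hn] at h
      have h2 : 2 ^ n = 2 ^ (n - 1) * 2 := by rw [← pow_succ, Nat.sub_add_cancel (by omega)]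
      exact Nat.eq_of_mul_eq_mul_left (pow_pos two_pos _) (h.trans h2)
    obtain ⟨K0, hK0⟩ : ∃ K0 : Subgroup σ.ker, K0.index = 2 := ⟨_, hidx⟩
    obtain ⟨K1, hK1⟩ : ∃ K1 : Subgroup Γ, K1 = K0.map σ.ker.subtype := ⟨_, rfl⟩
    have hle : K1 ≤ σ.ker := hK1 ▸ Subgroup.map_subtype_le K0
    have hc1 : Nat.card K1 = Nat.card K0 := by
      rw [hK1]
      exact Subgroup.card_map_of_injective σ.ker.subtype_injective
    haveI : K1.Normal := ⟨fun x hx g => by
      rwa [Subgroup.mem_center_iff.1 (hcen (hle hx)) g, mul_inv_cancel_right]⟩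
    have hker : (QuotientGroup.lift K1 σ hle).ker = σ.ker.map (QuotientGroup.mk' K1) := by
      ext q
      induction q using QuotientGroup.induction_on with | H x => ?_
      rw [MonoidHom.mem_ker, QuotientGroup.lift_mk, Subgroup.mem_map]
      refine ⟨fun h => ⟨x, h, rfl⟩, ?_⟩
      rintro ⟨y, hy, hxy⟩
      rw [QuotientGroup.mk'_apply, QuotientGroup.eq] at hxy
      have := hle hxy
      rw [MonoidHom.mem_ker, map_mul, map_inv, MonoidHom.mem_ker.1 hy, inv_one, one_mul] at this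
      exact this
    refine not_stem_two H hm hF he (QuotientGroup.lift K1 σ hle) ⟨?_, ?_, ?_⟩ ?_
    · exact fun q => (hsurj q).elim fun x hx => ⟨QuotientGroup.mk x, hx⟩
    · rw [hker, Subgroup.map_le_iff_le_comap]
      intro x hx
      rw [Subgroup.mem_comap, Subgroup.mem_center_iff]
      intro q
      induction q using QuotientGroup.induction_on with | H y => ?_
      rw [QuotientGroup.mk'_apply, ← QuotientGroup.mk_mul, ← QuotientGroup.mk_mul,
        Subgroup.mem_center_iff.1 (hcen hx) y]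
    · rw [hker]
      refine le_trans (Subgroup.map_mono hcomm) ?_
      rw [commutator_def, Subgroup.map_commutator]
      exact Subgroup.commutator_mono le_top le_top
    · rw [hker]
      have hr : ((QuotientGroup.mk' K1).comp σ.ker.subtype).range = σ.ker.map (QuotientGroup.mk' K1) := by
        rw [MonoidHom.range_comp, Subgroup.range_subtype]
      have hk0 : ((QuotientGroup.mk' K1).comp σ.ker.subtype).ker = K0 := by
        rw [← MonoidHom.comap_ker, QuotientGroup.ker_mk', hK1,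
          Subgroup.comap_map_eq_self_of_injective σ.ker.subtype_injective]
      rw [← hr, ← Subgroup.index_ker, hk0, hK0]
  · -- the Sylow subgroup for an odd prime is abelian
    obtain ⟨P, hP⟩ := (IsPGroup.of_card (n := 1) (G := Subgroup.zpowers k)
      (by rw [Nat.card_zpowers, hko, pow_one])).exists_le_sylow
    have hkP : k ∈ (P : Subgroup Γ) := hP (Subgroup.mem_zpowers k)
    have hodd : Odd p := hp.odd_of_ne_two hp2
    obtain ⟨T, hT⟩ : ∃ T : Subgroup (Sz F e), T = (P : Subgroup Γ).map σ := ⟨_, rfl⟩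
    have hTp : IsPGroup p T := hT ▸ P.2.map σ
    have hTc : IsCyclic T := by
      rcases subsingleton_or_nontrivial T with hs | hn
      · exact isCyclic_of_subsingleton
      haveI := hTp.center_nontrivial
      obtain ⟨⟨g, hg⟩, hg1⟩ := exists_ne (1 : Subgroup.center T)
      have hg4 : (g : Sz F e) ^ 4 ≠ 1 := by
        intro h
        obtain ⟨i, hi⟩ := hTp g
        have h1 : orderOf g ∣ 4 := orderOf_dvd_of_pow_eq_one (Subtype.ext (by simpa using h))
        have h2 : orderOf g ∣ p ^ i := orderOf_dvd_of_pow_eq_one hi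
        have hco : Nat.Coprime 4 (p ^ i) := by
          apply Nat.Coprime.pow_right
          rw [show (4 : ℕ) = 2 ^ 2 from rfl]
          exact Nat.Coprime.pow_left 2 (Nat.coprime_two_left.2 hodd)
        have h3 : orderOf g = 1 := Nat.eq_one_of_dvd_coprimes hco h1 h2
        exact hg1 (Subtype.ext (orderOf_eq_one_iff.1 h3))
      haveI := isCyclic_centralizer H hg4
      have hle : T ≤ Subgroup.centralizer ({(g : Sz F e)} : Set (Sz F e)) := by
        intro t ht
        rw [Subgroup.mem_centralizer_singleton_iff]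
        exact congrArg Subtype.val (Subgroup.mem_center_iff.1 hg ⟨t, ht⟩)
      exact (Subgroup.subgroupOfEquivOfLe hle).isCyclic.1 inferInstance
    let f : (P : Subgroup Γ) →* T :=
      (σ.comp (P : Subgroup Γ).subtype).codRestrict T fun x => hT ▸ Subgroup.mem_map_of_mem σ x.2
    have hPc : ∀ a b : (P : Subgroup Γ), a * b = b * a := by
      refine commutative_of_cyclic_center_quotient f fun x hx => ?_
      have hx' : (x : Γ) ∈ σ.ker := congrArg Subtype.val (MonoidHom.mem_ker.1 hx)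
      rw [Subgroup.mem_center_iff]
      exact fun y => Subtype.ext (Subgroup.mem_center_iff.1 (hcen hx') y)
    letI : CommGroup (P : Subgroup Γ) :=
      { (inferInstance : Group (P : Subgroup Γ)) with mul_comm := hPc }
    have h1 : MonoidHom.transfer (MonoidHom.id (P : Subgroup Γ)) k = 1 :=
      Abelianization.commutator_subset_ker _ (hcomm hk)
    rw [MonoidHom.transfer_eq_pow _ k (fun n g _ => by
      rw [mul_assoc, ← (Subgroup.mem_center_iff.1 ((Subgroup.center Γ).pow_mem (hcen hk) n) g),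
        inv_mul_cancel_left])] at h1
    have h2 : k ^ (P : Subgroup Γ).index = 1 := congrArg Subtype.val h1
    have h3 := orderOf_dvd_of_pow_eq_one h2
    rw [hko] at h3
    exact P.not_dvd_index h3

end CfsgLib.KnownA.Suzuki
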