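import Cfsg.Agent.Lib.KnownA.Suzuki.Fixity

/-!
The normalisers of the maximal tori of a Suzuki group.
-/

set_option autoImplicit false

namespace CfsgLib.KnownA.Suzuki

open MulAction Cfsg.Lie

/-- The orders of the cyclic tori. -/
def IsTorusOrder (m k : ℕ) : Prop := k = 2 ^ (2 * m + 1) - 1 ∨ k = kp m ∨ k = km m

variable {F : Type*} [Field F] [Fintype F] {e m : ℕ} (H : TitsField F e) (hm : 1 ≤ m)
  (hF : Fintype.card F = 2 ^ (2 * m + 1)) (he : e = 2 ^ (m + 1))

include H hm hF he

theorem torus_eq_centralizer {U : Subgroup (Sz F e)} (hUc : IsCyclic U)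
    (hU : IsTorusOrder m (Nat.card U)) {u : Sz F e} (hu : u ∈ U) (hu1 : u ≠ 1) :
    u ^ 4 ≠ 1 ∧ Subgroup.centralizer ({u} : Set (Sz F e)) = U := by
  obtain ⟨-, ho, -⟩ := pairwise_coprime H hm hU hU dvd_rfl
  have hu4 : u ^ 4 ≠ 1 := fun h4 => hu1 (orderOf_eq_one_iff.1
    (Nat.eq_one_of_dvd_coprimes (Nat.Coprime.pow_right 2 (Nat.coprime_two_right.2 ho))
      (Subgroup.orderOf_dvd_natCard U hu) (orderOf_dvd_of_pow_eq_one h4)))
  refine ⟨hu4, ?_⟩
  have hle : U ≤ Subgroup.centralizer ({u} : Set (Sz F e)) := fun x hx => by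
    letI := hUc.commGroup
    exact Subgroup.mem_centralizer_singleton_iff.2
      (congrArg Subtype.val (mul_comm (⟨x, hx⟩ : U) ⟨u, hu⟩))
  exact (Subgroup.eq_of_le_of_card_ge hle (le_of_eq
    ((pairwise_coprime H hm hU (natCard_centralizer_cases H hm hF he hu4)
      (Subgroup.card_dvd_of_le hle)).1).symm)).symm

theorem exists_ne_one_mem_torus {U : Subgroup (Sz F e)} (hU : IsTorusOrder m (Nat.card U)) :
    ∃ u ∈ U, u ≠ 1 := by
  obtain ⟨-, -, h1⟩ := pairwise_coprime H hm hU hU dvd_rfl
  by_contra hc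
  push Not at hc
  exact h1 (by rw [(Subgroup.eq_bot_iff_forall _).2 hc, Subgroup.card_bot])

/-- An element of odd order normalising a torus lies in it. -/
theorem mem_torus_of_odd {U : Subgroup (Sz F e)} (hUc : IsCyclic U)
    (hU : IsTorusOrder m (Nat.card U)) {y : Sz F e}
    (hy : y ∈ Subgroup.normalizer (U : Set (Sz F e))) (ho : Odd (orderOf y)) : y ∈ U := by
  obtain ⟨u, hu, hu1⟩ := exists_ne_one_mem_torus H hm hF he hU
  obtain ⟨hu4, hC⟩ := torus_eq_centralizer H hm hF he hUc hU hu hu1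
  have h := mem_centralizer_of_odd H hm hF he hu4 ho (by
    rw [hC]
    exact (Subgroup.mem_normalizer_iff.1 hy _).1 hu)
  rwa [hC] at h

theorem torus_eq_of_mem {U V : Subgroup (Sz F e)} (hUc : IsCyclic U)
    (hU : IsTorusOrder m (Nat.card U)) (hVc : IsCyclic V) (hV : IsTorusOrder m (Nat.card V))
    {u : Sz F e} (hu : u ∈ U) (hv : u ∈ V) (hu1 : u ≠ 1) : U = V := by
  rw [← (torus_eq_centralizer H hm hF he hUc hU hu hu1).2,
    (torus_eq_centralizer H hm hF he hVc hV hv hu1).2]

/-- An involution normalising a torus inverts it. -/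
theorem involution_inverts {U : Subgroup (Sz F e)} (hUc : IsCyclic U)
    (hU : IsTorusOrder m (Nat.card U)) {a c : Sz F e}
    (ha : a ∈ Subgroup.normalizer (U : Set (Sz F e))) (haa : a * a = 1) (ha1 : a ≠ 1) (hc : c ∈ U) :
    a * c * a⁻¹ = c⁻¹ := by
  have hai : a⁻¹ = a := inv_eq_of_mul_eq_one_right haa
  set d := a * c * a⁻¹ * c with hd
  have hac : a * c * a⁻¹ ∈ U := (Subgroup.mem_normalizer_iff.1 ha _).1 hc
  have hdU : d ∈ U := U.mul_mem hac hc
  have hcomm : a * d = d * a := by
    letI := hUc.commGroup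
    have h1 : a * c * a⁻¹ * c = c * (a * c * a⁻¹) :=
      congrArg Subtype.val (mul_comm (⟨_, hac⟩ : U) ⟨c, hc⟩)
    calc a * d = a * (a * c * a⁻¹ * c) := rfl
      _ = a * (c * (a * c * a⁻¹)) := by rw [h1]
      _ = a * c * a⁻¹ * c * a := by rw [hai]; simp [mul_assoc, haa]
      _ = d * a := rfl
  by_contra hne
  have hd1 : d ≠ 1 := fun h => hne (eq_inv_of_mul_eq_one_left h)
  obtain ⟨hd4, -⟩ := torus_eq_centralizer H hm hF he hUc hU hdU hd1
  exact ha1 (eq_one_of_sq_commute H hd4 hcomm.symm haa)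

/-- The involutions of the normaliser of a torus form a regular orbit of the torus. -/
theorem natCard_involutions_normalizer {U : Subgroup (Sz F e)} (hUc : IsCyclic U)
    (hU : IsTorusOrder m (Nat.card U)) {a : Sz F e}
    (ha : a ∈ Subgroup.normalizer (U : Set (Sz F e))) (haa : a * a = 1) (ha1 : a ≠ 1) :
    Nat.card {w : Sz F e // w ∈ Subgroup.normalizer (U : Set (Sz F e)) ∧ w * w = 1 ∧ w ≠ 1} =
      Nat.card U := by
  set N := Subgroup.normalizer (U : Set (Sz F e))
  have hai : a⁻¹ = a := inv_eq_of_mul_eq_one_right haa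
  obtain ⟨u0, hu0, hu01⟩ := exists_ne_one_mem_torus H hm hF he hU
  have haU : a ∉ U := fun h => by
    obtain ⟨h4, -⟩ := torus_eq_centralizer H hm hF he hUc hU h ha1
    exact h4 (by simp only [pow_succ, pow_zero, one_mul, haa])
  refine le_antisymm ?_ ?_
  · refine Nat.card_le_card_of_injective (fun w : {w : Sz F e // w ∈ N ∧ w * w = 1 ∧ w ≠ 1} =>
      (⟨(w : Sz F e) * a, ?_⟩ : U)) fun w w' h => Subtype.ext (mul_right_cancel (congrArg Subtype.val h :))
    obtain ⟨h1, h2, h3⟩ := w.2
    rw [← (torus_eq_centralizer H hm hF he hUc hU hu0 hu01).2, Subgroup.mem_centralizer_singleton_iff]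
    have e1 := involution_inverts H hm hF he hUc hU ha haa ha1 hu0
    have e2 := involution_inverts H hm hF he hUc hU h1 h2 h3 (U.inv_mem hu0)
    rw [inv_inv] at e2
    rw [← e1] at e2
    rw [← mul_inv_eq_iff_eq_mul]
    calc (w : Sz F e) * a * u0 * ((w : Sz F e) * a)⁻¹ = w * (a * u0 * a⁻¹) * (w : Sz F e)⁻¹ := by group
      _ = u0 := e2
  · refine Nat.card_le_card_of_injective (fun c : U => (⟨(c : Sz F e) * a * (c : Sz F e)⁻¹,
      N.mul_mem (N.mul_mem (Subgroup.le_normalizer c.2) ha) (N.inv_mem (Subgroup.le_normalizer c.2)),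
      by rw [conj_mul, haa]; simp, fun h => ha1 (conj_eq_one_iff.1 h)⟩ :
      {w : Sz F e // w ∈ N ∧ w * w = 1 ∧ w ≠ 1})) ?_
    intro c d h
    have h' : (c : Sz F e) * a * (c : Sz F e)⁻¹ = (d : Sz F e) * a * (d : Sz F e)⁻¹ :=
      congrArg Subtype.val h
    set r := (d : Sz F e)⁻¹ * c with hr
    have hra : a * r = r * a := by
      have := congrArg (fun x => (d : Sz F e)⁻¹ * x * c) h'
      simpa [hr, mul_assoc] using this.symm
    have hrU : r ∈ U := U.mul_mem (U.inv_mem d.2) c.2
    have h4 := pow_four_of_commute H hF (g := a) (by simp only [pow_succ, pow_zero, one_mul, haa]) ha1 hra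
    refine Subtype.ext ?_
    by_contra hne
    have hr1 : r ≠ 1 := fun h0 => hne (inv_mul_eq_one.1 h0).symm
    exact (torus_eq_centralizer H hm hF he hUc hU hrU hr1).1 h4

/-- The order of the normaliser of a torus. -/
theorem natCard_normalizer_torus {U : Subgroup (Sz F e)} (hUc : IsCyclic U)
    (hU : IsTorusOrder m (Nat.card U)) :
    (Nat.card U = 2 ^ (2 * m + 1) - 1 →
      Nat.card (Subgroup.normalizer (U : Set (Sz F e))) = 2 * Nat.card U) ∧
    (Nat.card U ≠ 2 ^ (2 * m + 1) - 1 →
      Nat.card (Subgroup.normalizer (U : Set (Sz F e))) = 4 * Nat.card U) := by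
  classical
  obtain ⟨u, hu, hu1⟩ := exists_ne_one_mem_torus H hm hF he hU
  obtain ⟨hu4, hC⟩ := torus_eq_centralizer H hm hF he hUc hU hu hu1
  by_cases hf : Fpf H u
  · have h4 : Nat.card (Subgroup.normalizer (U : Set (Sz F e))) = 4 * Nat.card U := by
      rw [← hC]; exact natCard_normalizer H hm hF he hf
    refine ⟨fun hq => ?_, fun _ => h4⟩
    have hcases := natCard_centralizer_eq H hm hF he hf
    rw [hC, hq] at hcases
    exfalso
    have hd : ∀ b, b = kp m ∨ b = km m → 2 ^ (2 * m + 1) - 1 ≠ b := by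
      intro b hb hqb
      have hco : Nat.Coprime (2 ^ (2 * m + 1) - 1) ((2 ^ (2 * m + 1)) ^ 2 + 1) := by
        rw [Nat.coprime_iff_gcd_eq_one]
        set q := 2 ^ (2 * m + 1) with hq'
        have h1 : (q - 1).gcd (q ^ 2 + 1) ∣ 2 := by
          have h3 : q - 1 ∣ q ^ 2 - 1 := by simpa using Nat.sub_dvd_pow_sub_pow q 1 2
          have h4 := Nat.dvd_sub (Nat.gcd_dvd_right (q - 1) (q ^ 2 + 1))
            ((Nat.gcd_dvd_left (q - 1) (q ^ 2 + 1)).trans h3)
          rwa [show q ^ 2 + 1 - (q ^ 2 - 1) = 2 by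
            have : 1 ≤ q ^ 2 := Nat.one_le_pow _ _ (by positivity)
            omega] at h4
        have h5 : ¬ 2 ∣ q - 1 := by
          have : 2 ∣ q := hq' ▸ dvd_pow_self 2 (by omega)
          have : 0 < q := by positivity
          omega
        rcases (Nat.dvd_prime Nat.prime_two).1 h1 with h | h
        · exact h
        · exact absurd (h ▸ Nat.gcd_dvd_left (q - 1) (q ^ 2 + 1)) h5
      have hb1 : b ≠ 1 := by
        rcases hb with rfl | rfl
        · exact (one_lt_kp H m).ne'
        · exact (one_lt_km H hm).ne'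
      refine hb1 (Nat.eq_one_of_dvd_coprimes hco (hqb ▸ dvd_rfl) ?_)
      rw [← kp_mul_km m]
      rcases hb with rfl | rfl
      · exact dvd_mul_right _ _
      · exact dvd_mul_left _ _
    exact hd _ hcases rfl
  · -- a conjugate of the diagonal torus
    unfold Fpf at hf
    push Not at hf
    obtain ⟨p, hp⟩ := hf
    obtain ⟨r, hr, hne⟩ : ∃ r, Moves H u r r ∧ r ≠ p := by
      by_contra hc
      push Not at hc
      exact hu4 (pow_four_of_unique H hp hc)
    obtain ⟨k, hk1, hk2⟩ := exists_moves_pair H (Ne.symm hne)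
    obtain ⟨t, ht⟩ := exists_sh_of_moves H (Moves.conj H hk1 hp) (Moves.conj H hk2 hr)
    have ht1 : t ≠ 1 := by
      rintro rfl
      rw [sh_one] at ht
      apply hu4
      have := congrArg (fun x => k * x * k⁻¹) ht
      simp [mul_assoc] at this
      rw [this, one_pow]
    have hgk : u = k * sh H t * k⁻¹ := by rw [← ht]; group
    have hUk : U = (tor H).map (MulAut.conj k).toMonoidHom := by
      rw [← hC, hgk, centralizer_conj H, centralizer_sh H ht1]
    have hcard : Nat.card U = 2 ^ (2 * m + 1) - 1 := by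
      rw [hUk, Subgroup.card_map_of_injective (MulAut.conj k).injective, natCard_tor H,
        Nat.card_eq_fintype_card, hF]
    refine ⟨fun _ => ?_, fun h => absurd hcard h⟩
    rw [hUk, ← Subgroup.map_equiv_normalizer_eq,
      Subgroup.card_map_of_injective (f := (MulAut.conj k).toMonoidHom) (MulAut.conj k).injective,
      Subgroup.card_map_of_injective (f := (MulAut.conj k).toMonoidHom) (MulAut.conj k).injective]
    set N := Subgroup.normalizer (tor H : Set (Sz F e))
    have hmem : ∀ w, w ∈ tor H ∨ sw H * w ∈ tor H → w ∈ N := by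
      have key : sw H ∈ N := by
        have key' : ∀ y ∈ tor H, sw H * y * (sw H)⁻¹ ∈ tor H := by
          rintro _ ⟨s, rfl⟩
          refine ⟨s⁻¹, ?_⟩
          rw [mul_inv_eq_iff_eq_mul, sw_conj, inv_inv]
        refine Subgroup.mem_normalizer_iff.2 fun y => ⟨key' y, fun h => ?_⟩
        have h' := key' _ h
        rwa [show sw H * (sw H * y * (sw H)⁻¹) * (sw H)⁻¹ = sw H * sw H * y * (sw H * sw H)⁻¹ by group,
          sw_sq, inv_one, one_mul, mul_one] at h'
      rintro w (hw | hw)
      · exact Subgroup.le_normalizer hw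
      · have := N.mul_mem key (Subgroup.le_normalizer hw)
        rwa [← mul_assoc, sw_sq, one_mul] at this
    have hex : ∀ w : N, (w : Sz F e) ∈ tor H ∨ sw H * w ∈ tor H := fun w =>
      mem_normalizer_tor_cases H ht1 w.2
    rw [show 2 * Nat.card (tor H) = Nat.card (Bool × tor H) by rw [Nat.card_prod]; simp]
    refine le_antisymm (Nat.card_le_card_of_injective (fun w => if h : (w : Sz F e) ∈ tor H then
      (true, ⟨_, h⟩) else (false, ⟨sw H * w, (hex w).resolve_left h⟩)) ?_)
      (Nat.card_le_card_of_injective (fun x : Bool × tor H => (⟨cond x.1 (x.2 : Sz F e) (sw H * x.2),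
        hmem _ (by
          obtain ⟨_ | _, y⟩ := x
          · refine Or.inr ?_
            show sw H * (sw H * (y : Sz F e)) ∈ tor H
            rw [← mul_assoc, sw_sq, one_mul]
            exact y.2
          · exact Or.inl y.2)⟩ : N)) ?_)
    · intro w w' h
      simp only at h
      split_ifs at h with h1 h2 h2
      · exact Subtype.ext (congrArg (fun x : Bool × tor H => (x.2 : Sz F e)) h)
      · exact absurd (congrArg Prod.fst h) (by simp)
      · exact absurd (congrArg Prod.fst h) (by simp)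
      · exact Subtype.ext (mul_left_cancel (congrArg (fun x : Bool × tor H => (x.2 : Sz F e)) h))
    · have hwt : ∀ y : tor H, ∀ y' : tor H, sw H * (y : Sz F e) ≠ y' := by
        intro y y' h
        apply sw_notMem_borel H
        obtain ⟨s, hs⟩ := y.2
        obtain ⟨s', hs'⟩ := y'.2
        have : sw H = (y' : Sz F e) * (y : Sz F e)⁻¹ := by rw [← h]; group
        rw [this, hs, hs']
        exact (borel H).mul_mem (sh_mem_borel H s') ((borel H).inv_mem (sh_mem_borel H s))
      rintro ⟨b, y⟩ ⟨b', y'⟩ h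
      have h' : cond b (y : Sz F e) (sw H * y) = cond b' (y' : Sz F e) (sw H * y') := congrArg Subtype.val h
      cases b <;> cases b' <;> simp only [cond_true, cond_false] at h'
      · rw [Subtype.ext (mul_left_cancel h')]
      · exact absurd h' (hwt y y')
      · exact absurd h'.symm (hwt y' y)
      · rw [Subtype.ext h']

end CfsgLib.KnownA.Suzuki
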