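import Cfsg.Prelude.Def_LieExceptional
import Cfsg.Agent.Lib.KnownA.Suzuki.Group

/-!
The symplectic model of the Suzuki group is the projective stabiliser of the Suzuki–Tits ovoid.
-/

set_option autoImplicit false

namespace CfsgLib.KnownA.Suzuki

open Matrix Cfsg.Lie

variable {F : Type*} [Field F]

theorem smul_eq_mulVec' (s : Matrix.SpecialLinearGroup (Fin 4) F) (v : Fin 4 → F) :
    s • v = (s : Matrix (Fin 4) (Fin 4) F) *ᵥ v := rfl

theorem wv_ne (e : ℕ) (p : Option (F × F)) : wMat F *ᵥ pv e p ≠ 0 := by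
  intro h
  rcases p with _ | ⟨a, b⟩
  · simpa [wMat, pv, Matrix.mulVec, dotProduct, Fin.sum_univ_four] using congrFun h 0
  · simpa [wMat, pv, Matrix.mulVec, dotProduct, Fin.sum_univ_four] using congrFun h 3

/-- The points of the ovoid. -/
def opt (e : ℕ) (p : Option (F × F)) : Projectivization F (Fin 4 → F) :=
  Projectivization.mk F (wMat F *ᵥ pv e p) (wv_ne e p)

theorem wv_none (e : ℕ) : wMat F *ᵥ pv e (none : Option (F × F)) = ![1, 0, 0, 0] := by
  funext i; fin_cases i <;> simp [wMat, pv, Matrix.mulVec, dotProduct, Fin.sum_univ_four]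

theorem wv_some (e : ℕ) (a b : F) : wMat F *ᵥ pv e (some (a, b)) = ![fv e a b, b, a, 1] := by
  funext i; fin_cases i <;> simp [wMat, pv, Matrix.mulVec, dotProduct, Fin.sum_univ_four]

theorem opt_injective (e : ℕ) : Function.Injective (opt (F := F) e) := by
  intro p p' h
  obtain ⟨c, hc⟩ := (Projectivization.mk_eq_mk_iff' F _ _ _ _).1 h
  have hc0 : c ≠ 0 := fun h0 => wv_ne e p (by rw [← hc, h0, zero_smul])
  refine (pv_inj (e := e) (c := c) ?_ hc0)
  rw [← Matrix.mulVec_smul] at hc
  have := congrArg (wMat F *ᵥ ·) hc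
  simpa [Matrix.mulVec_mulVec, wMat_sq] using this.symm

theorem opt_none (m : ℕ) :
    opt (2 ^ (m + 1)) (none : Option (F × F)) = Cfsg.suzukiPointInfinity F := by
  simp only [opt, Cfsg.suzukiPointInfinity, wv_none]

theorem opt_zero (m : ℕ) :
    opt (2 ^ (m + 1)) (some ((0 : F), (0 : F))) = Cfsg.suzukiPointZero F := by
  simp only [opt, Cfsg.suzukiPointZero, wv_some]
  congr 1
  simp [fv]

theorem range_opt (m : ℕ) :
    Set.range (opt (F := F) (2 ^ (m + 1))) = Cfsg.suzukiOvoid F m := by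
  ext P
  constructor
  · rintro ⟨p, rfl⟩
    refine ⟨_, wv_ne _ p, rfl, ?_⟩
    rcases p with _ | ⟨a, b⟩
    · exact Or.inl (wv_none _)
    · refine Or.inr ⟨a, b, ?_⟩
      rw [wv_some]
      simp only [fv]
      congr 1
      ring
  · rintro ⟨v, hv, rfl, rfl | ⟨x, y, rfl⟩⟩
    · exact ⟨none, by simp only [opt, wv_none]⟩
    · refine ⟨some (x, y), ?_⟩
      simp only [opt, wv_some, fv]
      congr 2
      ring

theorem natCard_ovoid [Finite F] (m : ℕ) :
    Nat.card (Cfsg.suzukiOvoid F m) = Nat.card F ^ 2 + 1 := by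
  rw [← range_opt, Nat.card_range_of_injective (opt_injective _), Finite.card_option, Nat.card_prod, sq]

variable {e : ℕ} (H : TitsField F e)
include H

/-- An element of the Suzuki group maps ovoid vectors to multiples of ovoid vectors. -/
theorem exists_image (g : Sz F e) (p : Option (F × F)) :
    ∃ (p' : Option (F × F)) (c : F), c ≠ 0 ∧ mat g *ᵥ pv e p = c • pv e p' := by
  obtain ⟨p', c, hc, h⟩ := exists_point H (g * rep H p)
  refine ⟨p', c, hc, funext fun i => ?_⟩
  rw [Pi.smul_apply, smul_eq_mul, ← h i, mat_mul]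
  simp only [Matrix.mulVec, dotProduct, Matrix.mul_apply, rep_col]

theorem det_mat (g : Sz F e) : (mat g).det = 1 :=
  haveI := H.charP
  CfsgLib.Recog.det_eq_one_of_mem_Sp4 (mem_eqs H g).1

/-- The change of coordinates into `SL₄`. -/
def toSL : Sz F e →* Matrix.SpecialLinearGroup (Fin 4) F where
  toFun g := ⟨wMat F * mat g * wMat F, by
    rw [Matrix.det_mul, Matrix.det_mul, det_mat H, mul_one, ← Matrix.det_mul, wMat_sq, Matrix.det_one]⟩
  map_one' := Subtype.ext (by simp [mat_one, wMat_sq])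
  map_mul' g k := Subtype.ext (by
    show wMat F * (mat g * mat k) * wMat F = (wMat F * mat g * wMat F) * (wMat F * mat k * wMat F)
    simp only [Matrix.mul_assoc]
    rw [← Matrix.mul_assoc (wMat F) (wMat F), wMat_sq, Matrix.one_mul])

theorem toSL_injective : Function.Injective (toSL H) := by
  intro g k h
  apply mat_ext
  have h1 : wMat F * mat g * wMat F = wMat F * mat k * wMat F := congrArg Subtype.val h
  have h2 := congrArg (fun M => wMat F * M * wMat F) h1
  simp only [Matrix.mul_assoc, wMat_sq, Matrix.mul_one] at h2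
  simpa [← Matrix.mul_assoc, wMat_sq] using h2

theorem toSL_smul (g : Sz F e) {p p' : Option (F × F)} {c : F}
    (h : mat g *ᵥ pv e p = c • pv e p') : toSL H g • opt e p = opt e p' := by
  simp only [opt, Projectivization.smul_mk, Projectivization.mk_eq_mk_iff']
  refine ⟨c, ?_⟩
  show c • wMat F *ᵥ pv e p' = (wMat F * mat g * wMat F) *ᵥ (wMat F *ᵥ pv e p)
  rw [Matrix.mulVec_mulVec, Matrix.mul_assoc, wMat_sq, Matrix.mul_one, ← Matrix.mulVec_mulVec, h,
    Matrix.mulVec_smul]

theorem toSL_rep (p : Option (F × F)) : toSL H (rep H p) • opt (F := F) e none = opt e p :=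
  toSL_smul H _ (c := 1) (funext fun i => by
    rw [one_smul, ← rep_col H p i]
    simp [Matrix.mulVec, dotProduct, Fin.sum_univ_four, pv])

theorem toSL_su_none (a b : F) : toSL H (su H a b) • opt (F := F) e none = opt (F := F) e none :=
  toSL_smul H _ (c := 1) (funext fun i => by
    fin_cases i <;>
      simp [mat, su, uGL, uMat, Matrix.mulVec, dotProduct, Fin.sum_univ_four, pv])

theorem toSL_su_some (a b c d : F) :
    toSL H (su H a b) • opt e (some (c, d)) = opt e (some (a + c, b + d + a ^ e * c)) :=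
  toSL_smul H _ (c := 1) (funext fun i => by
    have h1 := congrFun (congrFun (uMat_mul H a b c d) i) 0
    fin_cases i <;>
      simp [mat, su, uGL, uMat, Matrix.mulVec, dotProduct, Fin.sum_univ_four, pv,
        Matrix.mul_apply] at h1 ⊢ <;>
      exact h1)

theorem toSL_sh_none (t : Fˣ) : toSL H (sh H t) • opt (F := F) e none = opt (F := F) e none :=
  toSL_smul H _ (c := ((t : F) ^ (e + 1))⁻¹) (funext fun i => by
    fin_cases i <;>
      simp [mat, sh, hGL, hMat, Matrix.mulVec, dotProduct, Fin.sum_univ_four, pv])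

theorem toSL_sh_some (t : Fˣ) (a b : F) :
    toSL H (sh H t) • opt e (some (a, b)) =
      opt e (some (((((t⁻¹ : Fˣ) : F))) ^ e * a, (((t⁻¹ : Fˣ) : F)) ^ (e + 2) * b)) :=
  toSL_smul H _ (c := (t : F) ^ (e + 1)) (funext fun i => by
    have ht : (t : F) ≠ 0 := t.ne_zero
    have h := congrFun (congrFun (congrArg mat (sh_mul_su H t a b)) i) 0
    simp only [mat_mul] at h
    fin_cases i <;>
      simp [mat, su, sh, uGL, hGL, uMat, hMat, Matrix.mulVec, dotProduct, Fin.sum_univ_four, pv,
        Matrix.mul_apply] at h ⊢ <;>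
      first
      | done
      | (rw [h]; ring))

theorem toSL_mem_stabilizer (g : Sz F e) :
    ∀ P, toSL H g • P ∈ Set.range (opt (F := F) e) ↔ P ∈ Set.range (opt (F := F) e) := by
  have key : ∀ k : Sz F e, ∀ P ∈ Set.range (opt (F := F) e), toSL H k • P ∈ Set.range (opt (F := F) e) := by
    rintro k _ ⟨p, rfl⟩
    obtain ⟨p', c, -, h⟩ := exists_image H k p
    exact ⟨p', (toSL_smul H k h).symm⟩
  intro P
  refine ⟨fun h => ?_, key g P⟩
  simpa using key g⁻¹ _ h

omit H in
/-- A matrix maps every ovoid vector to a multiple of one. -/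
def Preserves (e : ℕ) (M : Matrix (Fin 4) (Fin 4) F) : Prop :=
  ∀ p : Option (F × F), ∃ (p' : Option (F × F)) (c : F), c ≠ 0 ∧ M *ᵥ pv e p = c • pv e p'

omit H in
/-- A matrix fixing the point at infinity and preserving the ovoid preserves its tangent plane. -/
theorem row_zero {M : Matrix (Fin 4) (Fin 4) F} (hM : Preserves e M) (hdet : M.det ≠ 0)
    (h03 : M 0 3 = 0) (h13 : M 1 3 = 0) (h23 : M 2 3 = 0) : M 0 1 = 0 ∧ M 0 2 = 0 := by
  have key : ∀ a b : F, M 0 0 + M 0 1 * a + M 0 2 * b ≠ 0 := by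
    intro a b h0
    obtain ⟨p', c, hc, hp⟩ := hM (some (a, b))
    rcases p' with _ | ⟨a', b'⟩
    · have hinj := Matrix.mulVec_injective_iff_isUnit.2 ((Matrix.isUnit_iff_isUnit_det M).2 hdet.isUnit)
      have h33 : M *ᵥ pv e none = M 3 3 • pv e none := by
        funext i
        fin_cases i <;> simp [Matrix.mulVec, dotProduct, Fin.sum_univ_four, pv, h03, h13, h23]
      have hne : M 3 3 ≠ 0 := by
        intro h
        rw [h, zero_smul, ← Matrix.mulVec_zero M] at h33
        simpa [pv] using congrFun (hinj h33) 3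
      have : M *ᵥ pv e (some (a, b)) = M *ᵥ ((c / M 3 3) • pv e none) := by
        rw [hp, Matrix.mulVec_smul, h33, smul_smul, div_mul_cancel₀ c hne]
      simpa [pv] using congrFun (hinj this) 0
    · have := congrFun hp 0
      simp [Matrix.mulVec, dotProduct, Fin.sum_univ_four, pv, h03] at this
      exact hc (by rw [← this, h0])
  constructor
  · by_contra h
    exact key (-(M 0 0) / M 0 1) 0 (by field_simp; ring)
  · by_contra h
    exact key 0 (-(M 0 0) / M 0 2) (by field_simp; ring)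

omit H in
theorem coeff_three_eq_zero [Fintype F] {e : ℕ} (h4 : 4 ≤ e) (hcard : e + 2 < Fintype.card F)
    (c₁ c₂ c₃ : F) (h : ∀ y : F, c₁ * y ^ (e + 2) + c₂ * y ^ 2 + c₃ * y ^ e = 0) :
    c₁ = 0 ∧ c₂ = 0 ∧ c₃ = 0 := by
  classical
  open Polynomial in
  have hp : (C c₁ * X ^ (e + 2) + C c₂ * X ^ 2 + C c₃ * X ^ e : F[X]) = 0 := by
    refine eq_zero_of_natDegree_lt_card_of_eval_eq_zero _ (Function.injective_id (α := F))
      (fun y => by simpa using h y) (lt_of_le_of_lt ?_ hcard)
    compute_degree!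
  refine ⟨?_, ?_, ?_⟩
  · simpa only [Polynomial.coeff_add, Polynomial.coeff_C_mul, Polynomial.coeff_X_pow, Polynomial.coeff_zero, ↓reduceIte, mul_one, mul_zero, add_zero, zero_add, show e + 2 ≠ 2 by omega, show e + 2 ≠ e by omega] using
      congrArg (fun P => P.coeff (e + 2)) hp
  · simpa only [Polynomial.coeff_add, Polynomial.coeff_C_mul, Polynomial.coeff_X_pow, Polynomial.coeff_zero, ↓reduceIte, mul_one, mul_zero, add_zero, zero_add, show 2 ≠ e + 2 by omega, show 2 ≠ e by omega] using
      congrArg (fun P => P.coeff 2) hp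
  · simpa only [Polynomial.coeff_add, Polynomial.coeff_C_mul, Polynomial.coeff_X_pow, Polynomial.coeff_zero, ↓reduceIte, mul_one, mul_zero, add_zero, zero_add, show e ≠ e + 2 by omega, show e ≠ 2 by omega] using
      congrArg (fun P => P.coeff e) hp

/-- A unimodular matrix preserving the ovoid and fixing the two base points is a torus element. -/
theorem eq_hMat [Fintype F] (h4 : 4 ≤ e) (hcard : e + 2 < Fintype.card F)
    {M : Matrix (Fin 4) (Fin 4) F} (hM : Preserves e M) (hdet : M.det = 1) (h03 : M 0 3 = 0)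
    (h13 : M 1 3 = 0) (h23 : M 2 3 = 0) (h10 : M 1 0 = 0) (h20 : M 2 0 = 0) (h30 : M 3 0 = 0) :
    ∃ t : Fˣ, M = hMat e (t : F) := by
  have hd0 : M.det ≠ 0 := by rw [hdet]; exact one_ne_zero
  obtain ⟨h01, h02⟩ := row_zero hM hd0 h03 h13 h23
  have hM' : Preserves e (wMat F * M * wMat F) := by
    intro p
    obtain ⟨p1, c1, hc1, hp1⟩ := exists_image H (sw H) p
    obtain ⟨p2, c2, hc2, hp2⟩ := hM p1
    obtain ⟨p3, c3, hc3, hp3⟩ := exists_image H (sw H) p2
    refine ⟨p3, c1 * c2 * c3, mul_ne_zero (mul_ne_zero hc1 hc2) hc3, ?_⟩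
    have hw : mat (sw H) = wMat F := rfl
    rw [hw] at hp1 hp3
    rw [← Matrix.mulVec_mulVec, ← Matrix.mulVec_mulVec, hp1, Matrix.mulVec_smul, hp2,
      Matrix.mulVec_smul, Matrix.mulVec_smul, hp3, smul_smul, smul_smul]
  have hd0' : (wMat F * M * wMat F).det ≠ 0 := by
    rw [Matrix.det_mul, Matrix.det_mul, hdet, mul_one, ← Matrix.det_mul, wMat_sq, Matrix.det_one]
    exact one_ne_zero
  obtain ⟨h32, h31⟩ := row_zero hM' hd0'
    (by simp [wMat, Matrix.mul_apply, Matrix.vecMul, dotProduct, Fin.sum_univ_four, h30])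
    (by simp [wMat, Matrix.mul_apply, Matrix.vecMul, dotProduct, Fin.sum_univ_four, h20])
    (by simp [wMat, Matrix.mul_apply, Matrix.vecMul, dotProduct, Fin.sum_univ_four, h10])
  simp [wMat, Matrix.mul_apply, Matrix.vecMul, dotProduct, Fin.sum_univ_four] at h32 h31
  have hdet' : M 0 0 * M 3 3 * (M 1 1 * M 2 2 - M 1 2 * M 2 1) = 1 := by
    rw [← hdet]
    simp [Matrix.det_succ_row_zero, Fin.sum_univ_succ, Fin.succAbove, h01, h02, h03, h13, h23]
    ring
  set g := M 0 0 with hgdef
  have hg : g ≠ 0 := left_ne_zero_of_mul (left_ne_zero_of_mul_eq_one hdet')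
  set p := M 1 1 / g
  set q := M 1 2 / g
  set r := M 2 1 / g
  set s := M 2 2 / g
  set k := M 3 3 / g
  have hfun : ∀ a b : F, fv e (p * a + q * b) (r * a + s * b) = k * fv e a b := by
    intro a b
    obtain ⟨p', c, hc, hp⟩ := hM (some (a, b))
    rcases p' with _ | ⟨a', b'⟩
    · exfalso
      have := congrFun hp 0
      simp [Matrix.mulVec, dotProduct, Fin.sum_univ_four, pv, h01, h02, h03, ← hgdef] at this
      exact hg this
    · have e0 := congrFun hp 0
      have e1 := congrFun hp 1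
      have e2 := congrFun hp 2
      have e3 := congrFun hp 3
      simp [Matrix.mulVec, dotProduct, Fin.sum_univ_four, pv, h01, h02, h03, h10, h13, h20, h23,
        h30, h31, h32, ← hgdef] at e0 e1 e2 e3
      subst e0
      have ea : p * a + q * b = a' := mul_left_cancel₀ hg (by
        simp only [p, q]; field_simp; linear_combination e1)
      have eb : r * a + s * b = b' := mul_left_cancel₀ hg (by
        simp only [r, s]; field_simp; linear_combination e2)
      rw [ea, eb]
      exact mul_left_cancel₀ hg (by simp only [k]; field_simp; linear_combination -e3)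
  have hb := coeff_three_eq_zero h4 hcard (q ^ (e + 2)) (q * s) (s ^ e - k) fun y => by
    have := hfun 0 y
    simp only [fv, mul_zero, zero_add, mul_pow] at this
    simp only [zero_mul, zero_add, zero_pow (show e + 2 ≠ 0 by omega)] at this
    linear_combination this
  have hq : q = 0 := pow_eq_zero_iff (by omega) |>.1 hb.1
  have ha := coeff_three_eq_zero h4 hcard (p ^ (e + 2) - k) (p * r) (r ^ e) fun y => by
    have := hfun y 0
    simp only [fv, mul_zero, add_zero, mul_pow] at this
    simp only [zero_pow H.e_ne, add_zero] at this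
    linear_combination this
  have hr : r = 0 := pow_eq_zero_iff H.e_ne |>.1 ha.2.2
  have hk : k = p ^ (e + 2) := (sub_eq_zero.1 ha.1).symm
  have hks : p * s = k := by
    have h11 := hfun 1 1
    simp only [fv, hq, hr, mul_one, one_pow, add_zero, zero_add] at h11
    have h22 : s ^ e = k := sub_eq_zero.1 hb.2.2
    linear_combination h11 + hk - h22 + (0 : F) * H.two
  have h12 : M 1 2 = 0 := by simpa [q, hg] using hq
  have h21 : M 2 1 = 0 := by simpa [r, hg] using hr
  have e11 : M 1 1 = g * p := by simp only [p]; field_simp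
  have e22 : M 2 2 = g * s := by simp only [s]; field_simp
  have e33 : M 3 3 = g * k := by simp only [k]; field_simp
  rw [h12, h21, e11, e22, e33, hk] at hdet'
  rw [hk] at hks
  have hsq : g ^ 2 * p ^ (e + 2) = 1 := H.sq_inj (by linear_combination hdet' - g ^ 4 * p ^ (e + 2) * hks)
  have hp0 : p ≠ 0 := by
    intro h0
    rw [h0, zero_pow (show e + 2 ≠ 0 by omega), mul_zero] at hsq
    exact zero_ne_one hsq
  have hse : g ^ e * p ^ (e + 1) = 1 := by
    refine H.sq_inj ?_
    have h2 : (g ^ 2) ^ e * (p ^ (e + 2)) ^ e = 1 := by rw [← mul_pow, hsq, one_pow]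
    rw [show (p ^ (e + 2)) ^ e = p ^ 2 * (p ^ e) ^ 2 by
        rw [pow_add, mul_pow, H.sq, pow_right_comm p 2 e], pow_right_comm g 2 e] at h2
    rw [pow_succ]
    linear_combination h2
  have hs : s = p ^ (e + 1) := mul_left_cancel₀ hp0 (by rw [hks]; ring)
  refine ⟨Units.mk0 (g * p) (mul_ne_zero hg hp0), ?_⟩
  have ht : (g * p) ^ (e + 1) = g := by
    rw [pow_succ, mul_pow]
    linear_combination g * hse
  have f22 : g * p ^ (e + 1) = (g * p)⁻¹ :=
    eq_inv_of_mul_eq_one_left (by linear_combination hsq)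
  have f33 : g * p ^ (e + 2) = g⁻¹ := eq_inv_of_mul_eq_one_left (by linear_combination hsq)
  rw [hs, f22] at e22
  rw [hk, f33] at e33
  clear_value p
  ext i j
  fin_cases i <;> fin_cases j <;>
    simp [hMat, h01, h02, h03, h10, h12, h13, h20, h21, h23, h30, h31, h32, e11, e22, e33,
      ← hgdef, ht, -_root_.mul_inv_rev]

/-- Surjectivity onto the stabiliser of the ovoid. -/
theorem exists_toSL_eq [Fintype F] (h4 : 4 ≤ e) (hcard : e + 2 < Fintype.card F)
    (s : Matrix.SpecialLinearGroup (Fin 4) F)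
    (hs : ∀ P, s • P ∈ Set.range (opt (F := F) e) ↔ P ∈ Set.range (opt (F := F) e)) :
    ∃ g, toSL H g = s := by
  obtain ⟨p, hp⟩ := (hs _).2 ⟨none, rfl⟩
  set s1 := (toSL H (rep H p))⁻¹ * s with hs1
  have h1 : s1 • opt (F := F) e none = opt (F := F) e none := by
    rw [hs1, mul_smul, ← hp, inv_smul_eq_iff, toSL_rep]
  have hs1' : ∀ P, s1 • P ∈ Set.range (opt (F := F) e) ↔ P ∈ Set.range (opt (F := F) e) := fun P => by
    rw [hs1, ← map_inv, mul_smul, toSL_mem_stabilizer, hs]
  obtain ⟨p', hp'⟩ := (hs1' _).2 ⟨some ((0 : F), (0 : F)), rfl⟩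
  rcases p' with _ | ⟨a, b⟩
  · exfalso
    rw [← h1] at hp'
    exact Option.some_ne_none _ (opt_injective e (MulAction.injective s1 hp'.symm))
  set s2 := (toSL H (su H a b))⁻¹ * s1 with hs2
  have h2a : s2 • opt (F := F) e none = opt (F := F) e none := by
    rw [hs2, mul_smul, h1, inv_smul_eq_iff, toSL_su_none]
  have h2b : s2 • opt (F := F) e (some (0, 0)) = opt (F := F) e (some (0, 0)) := by
    rw [hs2, mul_smul, ← hp', inv_smul_eq_iff, toSL_su_some, mul_zero, add_zero, add_zero, add_zero]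
  have hs2' : ∀ P, s2 • P ∈ Set.range (opt (F := F) e) ↔ P ∈ Set.range (opt (F := F) e) := fun P => by
    rw [hs2, ← map_inv, mul_smul, toSL_mem_stabilizer, hs1']
  set M := wMat F * (s2 : Matrix (Fin 4) (Fin 4) F) * wMat F with hMdef
  have hscalar : ∀ q q', s2 • opt e q = opt e q' → ∃ c : F, M *ᵥ pv e q = c • pv e q' := by
    intro q q' h
    simp only [opt, Projectivization.smul_mk, Projectivization.mk_eq_mk_iff'] at h
    obtain ⟨c, hc⟩ := h
    refine ⟨c, ?_⟩
    rw [smul_eq_mulVec'] at hc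
    rw [hMdef, Matrix.mul_assoc, ← Matrix.mulVec_mulVec, ← Matrix.mulVec_mulVec, ← hc,
      Matrix.mulVec_smul, Matrix.mulVec_mulVec, wMat_sq, Matrix.one_mulVec]
  have hdet : M.det = 1 := by
    rw [hMdef, Matrix.det_mul, Matrix.det_mul, s2.2, mul_one, ← Matrix.det_mul, wMat_sq, Matrix.det_one]
  have hpres : Preserves e M := by
    intro q
    obtain ⟨q', hq'⟩ := (hs2' _).2 ⟨q, rfl⟩
    obtain ⟨c, hc⟩ := hscalar q q' hq'.symm
    refine ⟨q', c, ?_, hc⟩
    intro hc0
    rw [hc0] at hc
    rw [zero_smul, ← Matrix.mulVec_zero M] at hc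
    have := Matrix.mulVec_injective_iff_isUnit.2 ((Matrix.isUnit_iff_isUnit_det M).2 (hdet ▸ isUnit_one)) hc
    exact wv_ne e q (by rw [this, Matrix.mulVec_zero])
  obtain ⟨c, hc⟩ := hscalar _ _ h2a
  obtain ⟨d, hd⟩ := hscalar _ _ h2b
  have c0 := congrFun hc 0
  have c1 := congrFun hc 1
  have c2 := congrFun hc 2
  have d1 := congrFun hd 1
  have d2 := congrFun hd 2
  have d3 := congrFun hd 3
  simp [Matrix.mulVec, dotProduct, Fin.sum_univ_four, pv, fv, H.e_ne] at c0 c1 c2 d1 d2 d3
  obtain ⟨t, ht⟩ := eq_hMat H h4 hcard hpres hdet c0 c1 c2 d1 d2 d3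
  refine ⟨rep H p * (su H a b * sh H t), ?_⟩
  have hst : toSL H (sh H t) = s2 := by
    apply Subtype.ext
    show wMat F * hMat e (t : F) * wMat F = (s2 : Matrix (Fin 4) (Fin 4) F)
    rw [← ht, hMdef]
    simp only [Matrix.mul_assoc, wMat_sq, Matrix.mul_one]
    simp [← Matrix.mul_assoc, wMat_sq]
  rw [map_mul, map_mul, hst, hs2, mul_inv_cancel_left, hs1, mul_inv_cancel_left]

/-- The symplectic model is isomorphic to the stabiliser of the ovoid. -/
theorem toSL_range [Fintype F] {m : ℕ} (hm : 1 ≤ m) (hF : Fintype.card F = 2 ^ (2 * m + 1))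
    (he : e = 2 ^ (m + 1)) : (toSL H).range = Cfsg.Sz F m := by
  subst he
  have h4 : 4 ≤ 2 ^ (m + 1) :=
    calc 4 = 2 ^ 2 := rfl
      _ ≤ _ := Nat.pow_le_pow_right two_pos (by omega)
  have hcard : 2 ^ (m + 1) + 2 < Fintype.card F := by
    rw [hF, show 2 * m + 1 = (m + 1) + m by omega, pow_add 2 (m + 1) m]
    have : 2 ≤ 2 ^ m := (pow_one 2).symm.le.trans (Nat.pow_le_pow_right two_pos hm)
    nlinarith
  ext s
  rw [MulAction.mem_stabilizer_set, ← range_opt]
  constructor
  · rintro ⟨g, rfl⟩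
    exact toSL_mem_stabilizer H g
  · exact exists_toSL_eq H h4 hcard s

/-- The isomorphism between the two models. -/
noncomputable def equivSz [Fintype F] {m : ℕ} (hm : 1 ≤ m)
    (hF : Fintype.card F = 2 ^ (2 * m + 1)) (he : e = 2 ^ (m + 1)) :
    Sz F e ≃* Cfsg.Sz F m :=
  (MonoidHom.ofInjective (toSL_injective H)).trans (MulEquiv.subgroupCongr (toSL_range H hm hF he))

theorem equivSz_coe [Fintype F] {m : ℕ} (hm : 1 ≤ m) (hF : Fintype.card F = 2 ^ (2 * m + 1))
    (he : e = 2 ^ (m + 1)) (g : Sz F e) :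
    ((equivSz H hm hF he g : Cfsg.Sz F m) : Matrix.SpecialLinearGroup (Fin 4) F) = toSL H g := rfl

end CfsgLib.KnownA.Suzuki
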