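import Cfsg.Agent.Lib.KnownA.Suzuki.Facts
import Cfsg.Agent.Lib.KnownA.Suzuki.Eigen

/-!
Fixed points of the elements of a Suzuki group on the ovoid.
-/

set_option autoImplicit false

namespace CfsgLib.KnownA.Suzuki

open Matrix Cfsg.Lie

variable {F : Type*} [Field F] {e : ℕ} (H : TitsField F e)
include H

theorem Moves.conj {g k : Sz F e} {p q : Option (F × F)} (hk : Moves H k p q) (h : Moves H g q q) :
    Moves H (k⁻¹ * g * k) p p :=
  Moves.trans H hk (Moves.trans H h (Moves.symm H hk))

theorem Moves.conj' {g k : Sz F e} {p q : Option (F × F)} (hk : Moves H k p q)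
    (h : Moves H (k⁻¹ * g * k) p p) : Moves H g q q := by
  simpa [mul_assoc] using Moves.trans H (Moves.symm H hk) (Moves.trans H h hk)

/-- The torus. -/
def tor : Subgroup (Sz F e) where
  carrier := {g | ∃ t : Fˣ, g = sh H t}
  one_mem' := ⟨1, (sh_one H).symm⟩
  mul_mem' := by
    rintro _ _ ⟨t, rfl⟩ ⟨s, rfl⟩
    exact ⟨_, sh_mul H t s⟩
  inv_mem' := by
    rintro _ ⟨t, rfl⟩
    exact ⟨_, sh_inv H t⟩

theorem natCard_tor [Finite F] : Nat.card (tor H) = Nat.card F - 1 := by
  rw [← Nat.card_units]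
  exact (Nat.card_eq_of_bijective (fun t : Fˣ => (⟨sh H t, t, rfl⟩ : tor H))
    ⟨fun t s h => sh_inj H (congrArg Subtype.val h), fun ⟨g, t, h⟩ => ⟨t, Subtype.ext h.symm⟩⟩).symm

theorem pow_card_sub_one_of_two [Finite F] {g : Sz F e} {p q : Option (F × F)} (hpq : p ≠ q)
    (hp : Moves H g p p) (hq : Moves H g q q) : g ^ (Nat.card F - 1) = 1 := by
  obtain ⟨k, hk1, hk2⟩ := exists_moves_pair H hpq
  obtain ⟨t, ht⟩ := exists_sh_of_moves H (Moves.conj H hk1 hp) (Moves.conj H hk2 hq)
  have h1 : (sh H t) ^ (Nat.card F - 1) = 1 := by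
    rw [← natCard_tor H]
    exact congrArg Subtype.val (pow_card_eq_one' (x := (⟨sh H t, t, rfl⟩ : tor H)))
  have hg : g = k * sh H t * k⁻¹ := by rw [← ht]; group
  rw [hg, conj_pow, h1, mul_one, mul_inv_cancel]

theorem pow_four_uni {g : Sz F e} (hg : g ∈ uni H) : g ^ 4 = 1 := by
  have h : (⟨g, hg⟩ : uni H) ^ 4 = 1 := by
    have h1 := Monoid.pow_exponent_eq_one (⟨g, hg⟩ : uni H)
    simp only [exponent_uni H] at h1
    exact h1
  exact congrArg Subtype.val h

/-- An element with exactly one fixed point has order dividing four. -/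
theorem pow_four_of_unique {g : Sz F e} {p : Option (F × F)} (hp : Moves H g p p)
    (huniq : ∀ q, Moves H g q q → q = p) : g ^ 4 = 1 := by
  obtain ⟨k, hk⟩ : ∃ k, Moves H k none p := ⟨_, toSL_rep H p⟩
  obtain ⟨a, b, t, hg⟩ := mem_borel_of_moves H (Moves.conj H hk hp)
  by_cases ht : t = 1
  · have h4 : (k⁻¹ * g * k) ^ 4 = 1 := pow_four_uni H ⟨a, b, by rw [hg, ht, sh_one, mul_one]⟩
    rw [show k⁻¹ * g * k = k⁻¹ * g * k⁻¹⁻¹ by rw [inv_inv], conj_pow, inv_inv] at h4
    have := congrArg (fun x => k * x * k⁻¹) h4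
    simpa [mul_assoc] using this
  · exfalso
    set r : F := ((t⁻¹ : Fˣ) : F) with hr
    have hr1 : r ≠ 1 := fun e1 => ht (inv_eq_one.1 (Units.ext e1))
    have hd1 : r ^ e + 1 ≠ 0 := fun e1 => hr1 (H.pow_inj (by rw [H.eq_of_add e1, one_pow]))
    have hd2 : r ^ (e + 2) + 1 ≠ 0 := fun e1 => hr1 (H.eq_one_of_pow_add_two (H.eq_of_add e1))
    set c := a / (r ^ e + 1) with hc
    set d := (b + a ^ e * (r ^ e * c)) / (r ^ (e + 2) + 1) with hd
    have hfix : Moves H (k⁻¹ * g * k) (some (c, d)) (some (c, d)) := by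
      rw [hg]
      refine Moves.trans H (toSL_sh_some H t c d) ?_
      rw [← hr]
      have h := su_moves H a b (r ^ e * c) (r ^ (e + 2) * d)
      have e1 : a + r ^ e * c = c := by
        have : c * (r ^ e + 1) = a := div_mul_cancel₀ a hd1
        linear_combination -this + (r ^ e * c) * H.two
      have e2 : b + r ^ (e + 2) * d + a ^ e * (r ^ e * c) = d := by
        have : d * (r ^ (e + 2) + 1) = b + a ^ e * (r ^ e * c) := div_mul_cancel₀ _ hd2
        linear_combination -this + (r ^ (e + 2) * d) * H.two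
      rwa [e1, e2] at h
    obtain ⟨x, hx⟩ := exists_moves H k (some (c, d))
    obtain rfl := huniq x (Moves.conj' H hx hfix)
    simpa using Moves.unique H (Moves.symm H hx) (Moves.symm H hk)

/-- A non-trivial element of order dividing four fixes exactly one point. -/
theorem exists_unique_fixed [Fintype F] {m : ℕ} (hF : Fintype.card F = 2 ^ (2 * m + 1)) {g : Sz F e}
    (hg : g ^ 4 = 1) (hg1 : g ≠ 1) : ∃ p, Moves H g p p ∧ ∀ q, Moves H g q q → q = p := by
  haveI : Fact (Nat.Prime 2) := ⟨Nat.prime_two⟩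
  have hp : IsPGroup 2 (Subgroup.zpowers g) := by
    obtain ⟨i, -, hi⟩ := (Nat.dvd_prime_pow Nat.prime_two (m := 2)).1 (orderOf_dvd_of_pow_eq_one hg)
    exact IsPGroup.of_card (n := i) (by rw [Nat.card_zpowers, hi])
  obtain ⟨Q, hQ⟩ := hp.exists_le_sylow
  obtain ⟨k, hk⟩ := MulAction.exists_smul_eq (Sz F e) (uniSylow H hF) Q
  have hgQ : g ∈ (Q : Subgroup (Sz F e)) := hQ (Subgroup.mem_zpowers g)
  rw [← hk] at hgQ
  obtain ⟨u, hu, hug⟩ := hgQ
  have hug' : k * u * k⁻¹ = g := hug
  obtain ⟨p, hp⟩ := exists_moves H k none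
  have hfix : Moves H g p p := by
    rw [← hug']
    exact Moves.trans H (Moves.symm H hp) (Moves.trans H (borel_moves H (uni_le_borel H hu)) hp)
  refine ⟨p, hfix, fun q hq => ?_⟩
  by_contra hne
  have h1 := pow_card_sub_one_of_two H (Ne.symm hne) hfix hq
  apply hg1
  rw [← orderOf_eq_one_iff]
  have hodd : Odd (Nat.card F - 1) := by
    rw [Nat.card_eq_fintype_card, hF]
    exact Nat.Even.sub_odd Nat.one_le_two_pow ((Nat.even_pow).2 ⟨even_two, by omega⟩) odd_one
  have h2 : Nat.Coprime 4 (Nat.card F - 1) :=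
    Nat.Coprime.pow_left 2 (Nat.coprime_two_left.2 hodd)
  exact Nat.eq_one_of_dvd_coprimes h2 (orderOf_dvd_of_pow_eq_one hg) (orderOf_dvd_of_pow_eq_one h1)

theorem centralizer_sh [Finite F] {t : Fˣ} (ht : t ≠ 1) :
    Subgroup.centralizer ({sh H t} : Set (Sz F e)) = tor H := by
  refine le_antisymm (fun g hg => ?_) ?_
  · have hc : sh H t * g = g * sh H t := (Subgroup.mem_centralizer_singleton_iff.1 hg).symm
    have hfix : ∀ p, Moves H (sh H t) p p → ∃ q, Moves H g p q ∧ Moves H (sh H t) q q := by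
      intro p hp
      obtain ⟨q, hq⟩ := exists_moves H g p
      refine ⟨q, hq, ?_⟩
      have h1 : Moves H (sh H t * g) p q := by
        rw [hc]
        exact Moves.trans H hp hq
      simpa using Moves.trans H (Moves.symm H hq) h1
    have htwo : ∀ q, Moves H (sh H t) q q → q = none ∨ q = some (0, 0) := by
      intro q hq
      by_contra hne
      push Not at hne
      have h1 : sh H t = 1 := eq_one_of_three H (p := none) (q := some (0, 0)) (r := q) (by simp)
        hne.2.symm hne.1.symm (toSL_sh_none H t) (by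
          have := toSL_sh_some H t 0 0
          simpa [Moves] using this) hq
      exact ht (sh_inj H (h1.trans (sh_one H).symm))
    have h00 : Moves H (sh H t) (some (0, 0)) (some (0, 0)) := by
      have := toSL_sh_some H t 0 0
      simpa [Moves] using this
    obtain ⟨q, hq, hq'⟩ := hfix none (toSL_sh_none H t)
    obtain ⟨q2, hq2, hq2'⟩ := hfix _ h00
    rcases htwo q hq' with rfl | rfl
    · rcases htwo q2 hq2' with rfl | rfl
      · simpa using Moves.unique H (Moves.symm H hq) (Moves.symm H hq2)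
      · exact exists_sh_of_moves H hq hq2
    · exfalso
      obtain ⟨a, b, β, hβ, hgw⟩ := (mem_borel_or H g).resolve_left fun hb => by
        simpa using Moves.unique H hq (borel_moves H hb)
      have hw : Moves H (sw H) none (some (0, 0)) := by
        unfold Moves
        simpa [rep, su_zero] using toSL_rep H (some ((0 : F), (0 : F)))
      have h1 : Moves H (su H a b * sw H * β) none (some (a, b)) := by
        refine Moves.trans H (borel_moves H hβ) (Moves.trans H hw ?_)
        simpa using su_moves H a b 0 0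
      rw [← hgw] at h1
      obtain ⟨rfl, rfl⟩ : a = 0 ∧ b = 0 := by simpa using Moves.unique H h1 hq
      obtain ⟨c, d, s, rfl⟩ := hβ
      rw [su_zero, one_mul] at hgw
      subst hgw
      -- the Weyl element inverts the torus
      have h2 : su H c d * sh H s * sh H t = sh H t⁻¹ * (su H c d * sh H s) := by
        have h3 := hc
        rw [← mul_assoc, sw_conj, mul_assoc, mul_assoc] at h3
        exact (mul_left_cancel h3).symm
      have h4 := congrArg (fun x => mat x 1 1) h2
      simp [mat, su, sh, uGL, hGL, uMat, hMat, Matrix.mul_apply, Fin.sum_univ_four] at h4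
      have hs : (s : F) ≠ 0 := s.ne_zero
      have htt : (t : F) ^ 2 = 1 ^ 2 := by
        have ht0 : (t : F) ≠ 0 := t.ne_zero
        field_simp at h4
        rw [one_pow]
        exact h4
      exact ht (Units.ext (H.sq_inj htt))
  · rintro _ ⟨s, rfl⟩
    rw [Subgroup.mem_centralizer_singleton_iff, sh_mul, sh_mul, mul_comm]

end CfsgLib.KnownA.Suzuki
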