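import Cfsg.Agent.Lib.KnownA.Suzuki.Facts

/-!
Transfer of the structure of the Suzuki groups to the ovoid model.
-/

set_option autoImplicit false

namespace CfsgLib.KnownA.Suzuki

open Matrix MulAction

variable {F : Type*} [Field F] [Fintype F] {m : ℕ}
  (hm : 1 ≤ m) (hF : Fintype.card F = 2 ^ (2 * m + 1))

/-- The exponent. -/
abbrev ex (m : ℕ) : ℕ := 2 ^ (m + 1)

theorem four_le : 1 ≤ m → Fintype.card F = 2 ^ (2 * m + 1) → 4 ≤ Nat.card F := by
  intro hm hF
  rw [Nat.card_eq_fintype_card, hF]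
  calc 4 = 2 ^ 2 := rfl
    _ ≤ _ := Nat.pow_le_pow_right two_pos (by omega)

include hm hF

/-- The isomorphism. -/
noncomputable def iso : Cfsg.Lie.Sz F (ex m) ≃* Cfsg.Sz F m :=
  equivSz (titsField_of_card hF) hm hF rfl

theorem iso_smul (g : Cfsg.Lie.Sz F (ex m)) (P : Projectivization F (Fin 4 → F)) :
    iso hm hF g • P = toSL (titsField_of_card hF) g • P := rfl

theorem natCard_ovoidSz : Nat.card (Cfsg.Sz F m) =
    (2 ^ (2 * m + 1)) ^ 2 * ((2 ^ (2 * m + 1)) ^ 2 + 1) * (2 ^ (2 * m + 1) - 1) := by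
  rw [← Nat.card_congr (iso hm hF).toEquiv, natCard_Sz (titsField_of_card hF), hF]
  ring

theorem isSimple_ovoidSz : IsSimpleGroup (Cfsg.Sz F m) :=
  haveI := isSimpleGroup (titsField_of_card hF) (four_le hm hF)
  (iso hm hF).symm.isSimpleGroup

theorem mem_stab_iff (g : Cfsg.Lie.Sz F (ex m)) :
    iso hm hF g ∈ stabilizer (Cfsg.Sz F m) (Cfsg.suzukiPointInfinity F) ↔
      g ∈ borel (titsField_of_card hF) := by
  rw [mem_stabilizer_iff, ← opt_none m]
  exact ⟨mem_borel_of_moves _, borel_moves _⟩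

theorem stab_eq : stabilizer (Cfsg.Sz F m) (Cfsg.suzukiPointInfinity F) =
    (borel (titsField_of_card hF)).map (iso hm hF).toMonoidHom := by
  ext g
  obtain ⟨g, rfl⟩ := (iso hm hF).surjective g
  rw [mem_stab_iff]
  exact (Subgroup.mem_map_iff_mem (iso hm hF).injective).symm

theorem natCard_stab : Nat.card (stabilizer (Cfsg.Sz F m) (Cfsg.suzukiPointInfinity F)) =
    (2 ^ (2 * m + 1)) ^ 2 * (2 ^ (2 * m + 1) - 1) := by
  rw [stab_eq hm hF, Subgroup.card_map_of_injective (iso hm hF).injective, natCard_borel,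
    Nat.card_eq_fintype_card, hF]

theorem stab_two : Nonempty (↥(stabilizer (Cfsg.Sz F m) (Cfsg.suzukiPointInfinity F) ⊓
    stabilizer (Cfsg.Sz F m) (Cfsg.suzukiPointZero F)) ≃* Fˣ) := by
  set H := titsField_of_card hF
  set S := stabilizer (Cfsg.Sz F m) (Cfsg.suzukiPointInfinity F) ⊓
    stabilizer (Cfsg.Sz F m) (Cfsg.suzukiPointZero F)
  let f : Fˣ →* Cfsg.Sz F m :=
    MonoidHom.mk' (fun t => iso hm hF (sh H t)) fun t s => by rw [← map_mul, sh_mul]
  have hf : Function.Injective f := fun t s h => sh_inj H ((iso hm hF).injective h)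
  have hS : f.range = S := by
    ext g
    obtain ⟨g, rfl⟩ := (iso hm hF).surjective g
    constructor
    · rintro ⟨t, ht⟩
      rw [← ht]
      refine ⟨?_, ?_⟩
      · exact (mem_stab_iff hm hF _).2 (sh_mem_borel H t)
      · refine mem_stabilizer_iff.2 ?_
        rw [← opt_zero m]
        show toSL H (sh H t) • opt (ex m) (some ((0 : F), (0 : F))) = _
        rw [toSL_sh_some H t 0 0, mul_zero, mul_zero]
    · rintro ⟨h1, h2⟩
      have h2 := mem_stabilizer_iff.1 h2
      rw [← opt_zero m] at h2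
      have h1 := (mem_stab_iff hm hF _).1 h1
      obtain ⟨t, ht⟩ := exists_sh_of_moves H (borel_moves H h1) h2
      exact ⟨t, by rw [ht]; rfl⟩
  exact ⟨(MulEquiv.subgroupCongr hS.symm).trans (MonoidHom.ofInjective hf).symm⟩

theorem preserves_form {g : Matrix.SpecialLinearGroup (Fin 4) F} (hg : g ∈ Cfsg.Sz F m) :
    (g : Matrix (Fin 4) (Fin 4) F).transpose * Cfsg.suzukiForm F * (g : Matrix (Fin 4) (Fin 4) F) =
      Cfsg.suzukiForm F := by
  set H := titsField_of_card hF
  rw [← toSL_range H hm hF rfl] at hg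
  obtain ⟨k, rfl⟩ := hg
  have := H.charP
  have hanti : (CfsgLib.Recog.antiDiag : Matrix (Fin 4) (Fin 4) F) = wMat F := by
    ext i j
    fin_cases i <;> fin_cases j <;> simp [CfsgLib.Recog.antiDiag, wMat, Fin.rev]
  have h1 := CfsgLib.Recog.transpose_mul_antiDiag_mul (mem_eqs H k).1
  rw [hanti] at h1
  have hT : (wMat F).transpose = wMat F := by
    ext i j
    fin_cases i <;> fin_cases j <;> simp [wMat]
  show (wMat F * mat k * wMat F).transpose * wMat F * (wMat F * mat k * wMat F) = wMat F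
  rw [Matrix.transpose_mul, Matrix.transpose_mul, hT]
  calc wMat F * ((mat k).transpose * wMat F) * wMat F * (wMat F * mat k * wMat F)
      = wMat F * (mat k).transpose * (wMat F * wMat F) * wMat F * mat k * wMat F := by
        simp only [Matrix.mul_assoc]
    _ = wMat F * ((mat k).transpose * wMat F * mat k) * wMat F := by
        rw [wMat_sq, Matrix.mul_one]
        simp only [Matrix.mul_assoc]
    _ = wMat F := by rw [h1, wMat_sq, Matrix.one_mul]

theorem ovoid_independent (p : Fin 3 ↪ Cfsg.suzukiOvoid F m) :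
    Projectivization.Independent (fun i => (p i : Projectivization F (Fin 4 → F))) := by
  set H := titsField_of_card hF
  have hp : ∀ i, ∃ q, opt (ex m) q = (p i : Projectivization F (Fin 4 → F)) := fun i => by
    exact (Set.ext_iff.1 (range_opt m) _).2 (p i).2
  choose q hq using hp
  have hne : ∀ i j, i ≠ j → q i ≠ q j := fun i j hij h =>
    hij (p.injective (Subtype.ext (by rw [← hq, ← hq, h])))
  obtain ⟨g, h0, h1⟩ := exists_moves_pair H (hne 0 1 (by decide))
  obtain ⟨r, hr⟩ := exists_moves H g⁻¹ (q 2)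
  have h2 : Moves H g r (q 2) := by simpa using Moves.symm H hr
  rcases r with _ | ⟨c, d⟩
  · exact absurd (Moves.unique H h0 h2) (hne 0 2 (by decide))
  have hcd : (c, d) ≠ ((0 : F), (0 : F)) := fun h =>
    hne 1 2 (by decide) (Moves.unique H h1 (h ▸ h2))
  set M : Matrix (Fin 4) (Fin 4) F := wMat F * mat g * wMat F
  let v : Fin 3 → Fin 4 → F := fun i =>
    wMat F *ᵥ pv (ex m) (![none, some (0, 0), some (c, d)] i)
  have hv : LinearIndependent F v := by
    rw [Fintype.linearIndependent_iff]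
    intro w hw
    rw [Fin.sum_univ_three] at hw
    have e0 := congrFun hw 0
    have e1 := congrFun hw 1
    have e2 := congrFun hw 2
    have e3 := congrFun hw 3
    simp [v, wv_none, wv_some, fv, H.e_ne] at e0 e1 e2 e3
    have hw2 : w 2 = 0 := by
      rcases e1 with h | h
      · exact h
      · rcases e2 with h' | h'
        · exact h'
        · exact absurd (by rw [h, h']) hcd
    rw [hw2] at e0 e3
    intro i
    fin_cases i
    · simpa using e0
    · simpa using e3
    · exact hw2
  have hinj : Function.Injective (Matrix.mulVecLin M) := by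
    rw [Matrix.coe_mulVecLin, Matrix.mulVec_injective_iff_isUnit, Matrix.isUnit_iff_isUnit_det]
    exact (toSL H g).2 ▸ isUnit_one
  have hl : LinearIndependent F (fun i => Matrix.mulVecLin M (v i)) :=
    hv.map' (Matrix.mulVecLin M) (LinearMap.ker_eq_bot.2 hinj)
  have key : (fun i => (p i : Projectivization F (Fin 4 → F))) =
      fun i => Projectivization.mk F (Matrix.mulVecLin M (v i)) (hl.ne_zero i) := by
    funext i
    rw [← hq]
    fin_cases i
    · exact (Eq.symm h0).trans (by rfl)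
    · exact (Eq.symm h1).trans (by rfl)
    · exact (Eq.symm h2).trans (by rfl)
  rw [key]
  exact Projectivization.Independent.mk _ _ hl

omit hm hF in
/-- The point of the ovoid with given parameters. -/
noncomputable def ovPt (m : ℕ) (p : Option (F × F)) : Cfsg.suzukiOvoid F m :=
  ⟨opt (ex m) p, (Set.ext_iff.1 (range_opt m) _).1 ⟨p, rfl⟩⟩

theorem isZassenhaus : Cfsg.IsZassenhausGroup (Cfsg.Sz F m) (Cfsg.suzukiOvoid F m) := by
  set H := titsField_of_card hF
  have hsurj : ∀ x : Cfsg.suzukiOvoid F m, ∃ p, ovPt m p = x := fun x => by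
    obtain ⟨p, hp⟩ := (Set.ext_iff.1 (range_opt m) _).2 x.2
    exact ⟨p, Subtype.ext hp⟩
  have hmv : ∀ g p p', (iso hm hF g • ovPt m p = ovPt m p') ↔ Moves H g p p' :=
    fun g p p' => Subtype.ext_iff
  have hne : ∀ {p p' : Option (F × F)}, ovPt m p ≠ ovPt m p' → p ≠ p' := fun h e => h (by rw [e])
  have hfix : ∀ g : Cfsg.Lie.Sz F (ex m), (∀ p, Moves H g p p) → g = 1 := fun g h =>
    eq_one_of_three H (p := none) (q := some (0, 0)) (r := some (1, 0)) (by simp) (by simp) (by simp)
      (h _) (h _) (h _)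
  obtain ⟨t, ht⟩ := exists_unit_ne_one H (four_le hm hF)
  refine ⟨⟨fun {g g'} h => ?_⟩, ?_, ?_, ?_, ?_⟩
  · obtain ⟨k, hk⟩ := (iso hm hF).surjective (g'⁻¹ * g)
    have : k = 1 := hfix k fun p => (hmv k p p).1 (by rw [hk, mul_smul, h, inv_smul_smul])
    rw [this, map_one] at hk
    exact (inv_mul_eq_one.1 hk.symm).symm
  · rw [is_two_pretransitive_iff]
    intro a b c d hab hcd
    obtain ⟨a, rfl⟩ := hsurj a
    obtain ⟨b, rfl⟩ := hsurj b
    obtain ⟨c, rfl⟩ := hsurj c
    obtain ⟨d, rfl⟩ := hsurj d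
    obtain ⟨g, g1, g2⟩ := exists_moves_pair H (hne hab)
    obtain ⟨k, k1, k2⟩ := exists_moves_pair H (hne hcd)
    exact ⟨iso hm hF (k * g⁻¹), (hmv _ _ _).2 (Moves.trans H (Moves.symm H g1) k1),
      (hmv _ _ _).2 (Moves.trans H (Moves.symm H g2) k2)⟩
  · intro g a b c hab hbc hac ha hb hc
    obtain ⟨g, rfl⟩ := (iso hm hF).surjective g
    obtain ⟨a, rfl⟩ := hsurj a
    obtain ⟨b, rfl⟩ := hsurj b
    obtain ⟨c, rfl⟩ := hsurj c
    rw [eq_one_of_three H (hne hab) (hne hbc) (hne hac) ((hmv _ _ _).1 ha) ((hmv _ _ _).1 hb)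
      ((hmv _ _ _).1 hc), map_one]
  · refine ⟨iso hm hF (sh H t), fun h => ht ?_, ovPt m none, ovPt m (some ((0 : F), (0 : F))), ?_, ?_, ?_⟩
    · rw [map_eq_one_iff _ (iso hm hF).injective, ← sh_one H] at h
      exact sh_inj H h
    · intro h
      simpa using opt_injective _ (congrArg Subtype.val h)
    · exact (hmv _ _ _).2 (toSL_sh_none H t)
    · refine (hmv _ _ _).2 ?_
      have := toSL_sh_some H t 0 0
      simpa [Moves] using this
  · intro N hN htr
    refine ⟨ovPt m none, fun hbot => ?_⟩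
    have := isSimple_ovoidSz hm hF
    rcases hN.eq_bot_or_eq_top with rfl | rfl
    · obtain ⟨⟨n, hn⟩, hnn⟩ := exists_smul_eq (⊥ : Subgroup (Cfsg.Sz F m)) (ovPt m none)
        (ovPt m (some ((0 : F), (0 : F))))
      rw [Subgroup.mem_bot] at hn
      subst hn
      have h1 : (1 : Cfsg.Sz F m) • ovPt m none = ovPt m (some ((0 : F), (0 : F))) := hnn
      rw [one_smul] at h1
      simpa using opt_injective _ (congrArg Subtype.val h1)
    · have hmem : (⟨iso hm hF (sh H t), Subgroup.mem_top _⟩ : (⊤ : Subgroup (Cfsg.Sz F m))) ∈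
          stabilizer (⊤ : Subgroup (Cfsg.Sz F m)) (ovPt m none) :=
        (hmv _ _ _).2 (toSL_sh_none H t)
      rw [hbot, Subgroup.mem_bot] at hmem
      have h1 : iso hm hF (sh H t) = 1 := congrArg Subtype.val hmem
      rw [map_eq_one_iff _ (iso hm hF).injective, ← sh_one H] at h1
      exact ht (sh_inj H h1)

theorem sylow_two (P : Sylow 2 (Cfsg.Sz F m)) :
    Nat.card P = (2 ^ (2 * m + 1)) ^ 2 ∧ Monoid.exponent P = 4 ∧
      Subgroup.center P = commutator P ∧ Nat.card (Subgroup.center P) = 2 ^ (2 * m + 1) := by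
  set H := titsField_of_card hF
  haveI : Fact (Nat.Prime 2) := ⟨Nat.prime_two⟩
  let Q : Sylow 2 (Cfsg.Sz F m) := (uniSylow H hF).mapSurjective (f := (iso hm hF).toMonoidHom) (iso hm hF).surjective
  have e1 : (uni H) ≃* (Q : Subgroup (Cfsg.Sz F m)) :=
    Subgroup.equivMapOfInjective (uni H) (iso hm hF).toMonoidHom (iso hm hF).injective
  have e : (uni H) ≃* P := e1.trans (Q.equiv P)
  have h4 := four_le hm hF
  have hcard : Nat.card P = (2 ^ (2 * m + 1)) ^ 2 := by
    rw [← Nat.card_congr e.toEquiv, natCard_uni, Nat.card_eq_fintype_card, hF]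
  have hc : ∀ x, e x ∈ Subgroup.center P ↔ x ∈ Subgroup.center (uni H) := by
    intro x
    simp only [Subgroup.mem_center_iff]
    constructor
    · intro h y
      exact e.injective (by rw [map_mul, map_mul, h])
    · intro h y
      obtain ⟨y, rfl⟩ := e.surjective y
      rw [← map_mul, ← map_mul, h]
  have hcent : Subgroup.center P = (Subgroup.center (uni H)).map e.toMonoidHom := by
    ext y
    obtain ⟨x, rfl⟩ := e.surjective y
    rw [hc]
    exact (Subgroup.mem_map_iff_mem e.injective).symm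
  refine ⟨hcard, ?_, ?_, ?_⟩
  · rw [← Monoid.exponent_eq_of_mulEquiv e, exponent_uni]
  · rw [hcent, center_eq_commutator H h4, commutator_def, commutator_def, Subgroup.map_commutator,
      Subgroup.map_top_of_surjective _ e.surjective]
  · rw [hcent, Subgroup.card_map_of_injective (f := e.toMonoidHom) e.injective, natCard_center H h4,
      Nat.card_eq_fintype_card, hF]

end CfsgLib.KnownA.Suzuki
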