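import Cfsg.Agent.Lib.KnownA.Suzuki.Real
import Cfsg.Agent.Lib.KnownA.Suzuki.Rows

/-!
Transfer of subgroups along the isomorphism with the ovoid group.
-/

set_option autoImplicit false

namespace CfsgLib.KnownA.Suzuki

variable {G G' : Type*} [Group G] [Group G']

theorem map_symm_map (f : G ≃* G') (U : Subgroup G') :
    (U.map f.symm.toMonoidHom).map f.toMonoidHom = U := by
  rw [Subgroup.map_map]
  convert Subgroup.map_id U using 2
  ext x
  simp

theorem isCyclic_map (f : G ≃* G') (U : Subgroup G) [IsCyclic U] : IsCyclic (U.map f.toMonoidHom) :=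
  (f.subgroupMap U).isCyclic.1 inferInstance

theorem natCard_map (f : G ≃* G') (U : Subgroup G) : Nat.card (U.map f.toMonoidHom) = Nat.card U :=
  Subgroup.card_map_of_injective f.injective

theorem map_centralizer (f : G ≃* G') (g : G) :
    (Subgroup.centralizer ({g} : Set G)).map f.toMonoidHom = Subgroup.centralizer ({f g} : Set G') := by
  ext x
  obtain ⟨x, rfl⟩ := f.surjective x
  refine Iff.trans (Subgroup.mem_map_iff_mem f.injective) ?_
  rw [Subgroup.mem_centralizer_singleton_iff, Subgroup.mem_centralizer_singleton_iff, ← map_mul,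
    ← map_mul, f.injective.eq_iff]

theorem exists_sylow_map {p : ℕ} [Fact p.Prime] [Finite G] [Finite G'] (f : G ≃* G') (P : Sylow p G') :
    ∃ Q : Sylow p G, (Q : Subgroup G).map f.toMonoidHom = (P : Subgroup G') :=
  ⟨P.mapSurjective (f := f.symm.toMonoidHom) f.symm.surjective, map_symm_map f _⟩

theorem existsUnique_transfer (f : G ≃* G') {Q : Subgroup G → Prop} {Q' : Subgroup G' → Prop}
    (hQ : ∀ U, Q U ↔ Q' (U.map f.toMonoidHom)) (h : ∃! U, Q U) : ∃! U', Q' U' := by
  obtain ⟨U, hU, huniq⟩ := h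
  refine ⟨U.map f.toMonoidHom, (hQ U).1 hU, fun V hV => ?_⟩
  rw [← map_symm_map f V]
  congr 1
  refine huniq _ ((hQ _).2 ?_)
  rwa [map_symm_map]

end CfsgLib.KnownA.Suzuki
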