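import Cfsg.Agent.Lib.KnownA.Suzuki.NormTorus

/-!
Solvable two-generated subgroups of a Suzuki group over a field of prime degree.
-/

set_option autoImplicit false

namespace CfsgLib.KnownA.Suzuki

open MulAction Cfsg.Lie

variable {F : Type*} [Field F] [Fintype F] {e m : ℕ} (H : TitsField F e) (hm : 1 ≤ m)
  (hF : Fintype.card F = 2 ^ (2 * m + 1)) (he : e = 2 ^ (m + 1)) (hp : (2 * m + 1).Prime)

include H

theorem isSolvable_borel : Group.IsSolvable (borel H) := by
  have hcases : ∀ g : borel H, ∃ a b t, (g : Sz F e) = su H a b * sh H t := fun g => g.2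
  choose ga gb gt hg using hcases
  have huniq : ∀ g : borel H, ∀ a b t, (g : Sz F e) = su H a b * sh H t → gt g = t := by
    intro g a b t h
    have h1 := (hg g).symm.trans h
    have h2 : sh H (t * (gt g)⁻¹) = (su H a b)⁻¹ * su H (ga g) (gb g) := by
      rw [eq_inv_mul_iff_mul_eq, ← sh_mul, ← sh_inv, ← mul_assoc, ← h1, mul_inv_cancel_right]
    rw [su_inv, su_mul] at h2
    have h4 := congrArg (fun x => mat x 1 1) h2
    simp [mat, su, sh, uGL, hGL, uMat, hMat] at h4
    exact (Units.ext ((mul_inv_eq_one₀ (Units.ne_zero _)).1 h4)).symm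
  let ψ : borel H →* Fˣ := MonoidHom.mk' gt fun g k => huniq _
    (ga g + (((gt g)⁻¹ : Fˣ) : F) ^ e * ga k)
    (gb g + (((gt g)⁻¹ : Fˣ) : F) ^ (e + 2) * gb k + ga g ^ e * ((((gt g)⁻¹ : Fˣ) : F) ^ e * ga k))
    (gt g * gt k) (by
      rw [Subgroup.coe_mul, hg g, hg k, mul_assoc, ← mul_assoc (sh H (gt g)), sh_mul_su, mul_assoc,
        sh_mul, ← mul_assoc, su_mul])
  have hker : ∀ g : borel H, g ∈ ψ.ker → (g : Sz F e) ∈ uni H := fun g hgk => by
    have h : gt g = 1 := hgk
    exact ⟨ga g, gb g, by rw [hg g, h, sh_one, mul_one]⟩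
  let ι : ψ.ker →* uni H :=
    MonoidHom.mk' (fun g => ⟨_, hker g.1 g.2⟩) fun _ _ => rfl
  haveI : Group.IsNilpotent (uni H) := by
    have hp2 : IsPGroup 2 (uni H) := fun x => ⟨2, Subtype.ext (by simpa using pow_four_uni H x.2)⟩
    haveI := Fact.mk Nat.prime_two
    exact hp2.isNilpotent
  haveI : Group.IsSolvable (uni H) := inferInstance
  haveI : Group.IsSolvable ψ.ker := Group.isSolvable_of_isSolvable_injective (f := ι)
    (fun g k h => Subtype.ext (Subtype.ext (congrArg Subtype.val h :)))
  exact Group.isSolvable_of_ker_le_range (G' := ψ.ker) ψ.ker.subtype ψ (by rw [Subgroup.range_subtype])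

theorem isSolvable_normalizer_torus (hm : 1 ≤ m) (hF : Fintype.card F = 2 ^ (2 * m + 1))
    (he : e = 2 ^ (m + 1)) {U : Subgroup (Sz F e)} (hUc : IsCyclic U)
    (hU : IsTorusOrder m (Nat.card U)) :
    Group.IsSolvable (Subgroup.normalizer (U : Set (Sz F e))) := by
  classical
  set N := Subgroup.normalizer (U : Set (Sz F e))
  haveI : (U.subgroupOf N).Normal := Subgroup.normal_subgroupOf_of_le_normalizer le_rfl
  letI := hUc.commGroup
  haveI : Group.IsSolvable (U.subgroupOf N) :=
    Group.isSolvable_of_isSolvable_injective (f := (Subgroup.subgroupOfEquivOfLe (K := N) Subgroup.le_normalizer).toMonoidHom)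
      (MulEquiv.injective _)
  haveI : Group.IsSolvable (N ⧸ U.subgroupOf N) := by
    haveI := Fact.mk Nat.prime_two
    have hpg : IsPGroup 2 (N ⧸ U.subgroupOf N) := by
      intro x
      induction x using QuotientGroup.induction_on with | H y => ?_
      rcases odd_or_pow_four H (y : Sz F e) with ho | h4
      · exact ⟨0, by
          rw [pow_zero, pow_one]
          exact (QuotientGroup.eq_one_iff y).2 (mem_torus_of_odd H hm hF he hUc hU y.2 ho)⟩
      · exact ⟨2, by
          rw [show (2 : ℕ) ^ 2 = 4 from rfl, ← QuotientGroup.mk_pow,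
            show y ^ 4 = 1 from Subtype.ext (by simpa using h4)]
          rfl⟩
    haveI := hpg.isNilpotent
    infer_instance
  exact Group.isSolvable_of_ker_le_range (G' := (U.subgroupOf N)) (U.subgroupOf N).subtype
    (QuotientGroup.mk' (U.subgroupOf N)) (by rw [Subgroup.range_subtype, QuotientGroup.ker_mk'])

omit H in
/-- The set of partners generating a solvable subgroup. -/
def solSet (x : Sz F e) : Set (Sz F e) :=
  {y | Group.IsSolvable (Subgroup.closure ({x, y} : Set (Sz F e)))}

omit [Fintype F] in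
theorem natCard_solSet_conj (k x : Sz F e) :
    Nat.card (solSet (k * x * k⁻¹)) = Nat.card (solSet x) := by
  have key : ∀ x k y : Sz F e, y ∈ solSet x → k * y * k⁻¹ ∈ solSet (k * x * k⁻¹) := by
    intro x k y hy
    haveI : Group.IsSolvable (Subgroup.closure ({x, y} : Set (Sz F e))) := hy
    have e1 : Subgroup.closure ({k * x * k⁻¹, k * y * k⁻¹} : Set (Sz F e)) =
        (Subgroup.closure ({x, y} : Set (Sz F e))).map (MulAut.conj k).toMonoidHom := by
      rw [MonoidHom.map_closure, Set.image_pair]
      rfl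
    show Group.IsSolvable _
    rw [e1]
    exact Group.isSolvable_of_surjective (f := ((MulAut.conj k).subgroupMap _).toMonoidHom)
      (MulEquiv.surjective _)
  refine (Nat.card_congr ((MulAut.conj k).toEquiv.subtypeEquiv fun y => ⟨key x k y, fun h => ?_⟩)).symm
  have := key _ k⁻¹ _ h
  simpa [mul_assoc] using this

include hm hF he in
theorem not_isSolvable : ¬ Group.IsSolvable (Sz F e) := by
  intro hsol
  have h4 : 4 ≤ Nat.card F := by
    rw [Nat.card_eq_fintype_card, hF]
    calc 4 = 2 ^ 2 := rfl
      _ ≤ _ := Nat.pow_le_pow_right two_pos (by omega)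
  haveI := isSimpleGroup H h4
  have hc := (IsSimpleGroup.comm_iff_isSolvable (G := Sz F e)).2 hsol
  have h := hc (su H 1 0) (sw H)
  apply sw_notMem_borel H
  have h1 : Moves H (sw H) none (some (0, 0)) := sw_moves_none H
  have h2 : Moves H (su H 1 0 * sw H) none (some (1, 0)) := by
    have := Moves.trans H h1 (su_moves H 1 0 0 0)
    simpa using this
  have h3 : Moves H (sw H * su H 1 0) none (some (0, 0)) :=
    Moves.trans H (borel_moves H (su_mem_borel H 1 0)) h1
  rw [h] at h2
  have := Moves.unique H h2 h3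
  simp at this

include hm hF he hp in
theorem proper_cases {M : Subgroup (Sz F e)} (hM : M ≠ ⊤) :
    (∃ k : Sz F e, ∀ g ∈ M, k⁻¹ * g * k ∈ borel H) ∨
      ∃ U : Subgroup (Sz F e), IsCyclic U ∧ IsTorusOrder m (Nat.card U) ∧
        M ≤ Subgroup.normalizer (U : Set (Sz F e)) := by
  rcases subgroup_classification H hm hF he M hM with ⟨P, hP⟩ | ⟨U, hc, hU, hle⟩ |
    ⟨k, hk1, hkm, hdvd, -⟩
  · obtain ⟨k, hk⟩ := exists_sylow_conj_uni H hF P
    have hPmap : (P : Subgroup (Sz F e)) = (uni H).map (MulAut.conj k).toMonoidHom := by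
      ext x
      rw [Subgroup.mem_map_equiv, MulAut.conj_symm_apply]
      exact hk x
    rw [hPmap, ← Subgroup.map_equiv_normalizer_eq, normalizer_uni] at hP
    refine Or.inl ⟨k, fun g hg => ?_⟩
    have := hP hg
    rwa [Subgroup.mem_map_equiv, MulAut.conj_symm_apply] at this
  · exact Or.inr ⟨U, hc, by simpa [IsTorusOrder] using hU, hle⟩
  · exfalso
    rcases hp.eq_one_or_self_of_dvd _ hdvd with h | h <;> omega

include hm hF he hp in
/-- Solvable pairs: a common fixed point or a common torus normaliser. -/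
theorem mem_solSet_iff {x y : Sz F e} :
    y ∈ solSet x ↔ (∃ p, Moves H x p p ∧ Moves H y p p) ∨
      ∃ U : Subgroup (Sz F e), IsCyclic U ∧ IsTorusOrder m (Nat.card U) ∧
        x ∈ Subgroup.normalizer (U : Set (Sz F e)) ∧ y ∈ Subgroup.normalizer (U : Set (Sz F e)) := by
  constructor
  · intro hsol
    have hM : Subgroup.closure ({x, y} : Set (Sz F e)) ≠ ⊤ := by
      intro htop
      have hsol' : Group.IsSolvable (Subgroup.closure ({x, y} : Set (Sz F e))) := hsol
      rw [htop] at hsol'
      exact not_isSolvable H hm hF he (Group.isSolvable_of_surjective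
        (f := (Subgroup.topEquiv (G := Sz F e)).toMonoidHom) (MulEquiv.surjective _))
    have hx : x ∈ Subgroup.closure ({x, y} : Set (Sz F e)) := Subgroup.subset_closure (Or.inl rfl)
    have hy : y ∈ Subgroup.closure ({x, y} : Set (Sz F e)) := Subgroup.subset_closure (Or.inr rfl)
    rcases proper_cases H hm hF he hp hM with ⟨k, hk⟩ | ⟨U, hc, hU, hle⟩
    · obtain ⟨p, hkp⟩ := exists_moves H k none
      exact Or.inl ⟨p, Moves.conj' H hkp (borel_moves H (hk x hx)),
        Moves.conj' H hkp (borel_moves H (hk y hy))⟩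
    · exact Or.inr ⟨U, hc, hU, hle hx, hle hy⟩
  · rintro (⟨p, hxp, hyp⟩ | ⟨U, hc, hU, hx, hy⟩)
    · obtain ⟨k, hk⟩ : ∃ k, Moves H k none p := ⟨_, toSL_rep H p⟩
      haveI := isSolvable_borel H
      haveI : Group.IsSolvable ((borel H).map (MulAut.conj k).toMonoidHom) :=
        Group.isSolvable_of_surjective (f := ((MulAut.conj k).subgroupMap (borel H)).toMonoidHom)
          (MulEquiv.surjective _)
      have hle : Subgroup.closure ({x, y} : Set (Sz F e)) ≤ (borel H).map (MulAut.conj k).toMonoidHom := by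
        rw [Subgroup.closure_le]
        rintro g (rfl | rfl)
        · rw [SetLike.mem_coe, Subgroup.mem_map_equiv, MulAut.conj_symm_apply]
          exact mem_borel_of_moves H (Moves.conj H hk hxp)
        · rw [SetLike.mem_coe, Subgroup.mem_map_equiv, MulAut.conj_symm_apply]
          exact mem_borel_of_moves H (Moves.conj H hk hyp)
      exact Group.isSolvable_of_isSolvable_injective (Subgroup.inclusion_injective hle)
    · haveI := isSolvable_normalizer_torus H hm hF he hc hU
      have hle : Subgroup.closure ({x, y} : Set (Sz F e)) ≤ Subgroup.normalizer (U : Set (Sz F e)) := by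
        rw [Subgroup.closure_le]
        rintro g (rfl | rfl) <;> assumption
      exact Group.isSolvable_of_isSolvable_injective (Subgroup.inclusion_injective hle)

end CfsgLib.KnownA.Suzuki
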