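import Cfsg.Agent.Lib.KnownA.Suzuki.Solvable

/-!
Counting the solvable partners of an element of a Suzuki group over a field of prime degree.
-/

set_option autoImplicit false

namespace CfsgLib.KnownA.Suzuki

open MulAction Cfsg.Lie

variable {F : Type*} [Field F] [Fintype F] {e m : ℕ} (H : TitsField F e) (hm : 1 ≤ m)
  (hF : Fintype.card F = 2 ^ (2 * m + 1)) (he : e = 2 ^ (m + 1)) (hp : (2 * m + 1).Prime)

include H hm hF he

/-- Two tori of the same order are conjugate. -/
theorem exists_conj_torus {U V : Subgroup (Sz F e)} (hUc : IsCyclic U)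
    (hU : IsTorusOrder m (Nat.card U)) (hVc : IsCyclic V) (hV : Nat.card V = Nat.card U) :
    ∃ k : Sz F e, V = U.map (MulAut.conj k).toMonoidHom := by
  obtain ⟨u, hu, hu1⟩ := exists_ne_one_mem_torus H hm hF he hU
  obtain ⟨v, hv, hv1⟩ := exists_ne_one_mem_torus H hm hF he (hV ▸ hU)
  obtain ⟨hu4, hCu⟩ := torus_eq_centralizer H hm hF he hUc hU hu hu1
  obtain ⟨hv4, hCv⟩ := torus_eq_centralizer H hm hF he hVc (hV ▸ hU) hv hv1
  have hiff : ∀ w : Sz F e, w ^ 4 ≠ 1 →
      (Fpf H w ↔ Nat.card (Subgroup.centralizer ({w} : Set (Sz F e))) ≠ 2 ^ (2 * m + 1) - 1) := by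
    intro w hw
    constructor
    · intro hf hc
      have h2 := (natCard_normalizer_torus H hm hF he (isCyclic_centralizer H hw)
        (natCard_centralizer_cases H hm hF he hw)).1 hc
      rw [natCard_normalizer H hm hF he hf] at h2
      have : 0 < Nat.card (Subgroup.centralizer ({w} : Set (Sz F e))) := Nat.card_pos
      omega
    · intro hc
      by_contra hf
      unfold Fpf at hf
      push Not at hf
      obtain ⟨p, hp⟩ := hf
      obtain ⟨r, hr, hne⟩ : ∃ r, Moves H w r r ∧ r ≠ p := by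
        by_contra hcc
        push Not at hcc
        exact hw (pow_four_of_unique H hp hcc)
      obtain ⟨k, hk1, hk2⟩ := exists_moves_pair H (Ne.symm hne)
      obtain ⟨t, ht⟩ := exists_sh_of_moves H (Moves.conj H hk1 hp) (Moves.conj H hk2 hr)
      have ht1 : t ≠ 1 := by
        rintro rfl
        rw [sh_one] at ht
        apply hw
        have := congrArg (fun x => k * x * k⁻¹) ht
        simp [mul_assoc] at this
        rw [this, one_pow]
      have hgk : w = k * sh H t * k⁻¹ := by rw [← ht]; group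
      apply hc
      rw [hgk, centralizer_conj H, Subgroup.card_map_of_injective (MulAut.conj k).injective,
        centralizer_sh H ht1, natCard_tor H, Nat.card_eq_fintype_card, hF]
  by_cases hf : Fpf H u
  · have hf' : Fpf H v := by
      rw [hiff v hv4, hCv, hV, ← hCu]
      exact (hiff u hu4).1 hf
    obtain ⟨k, hk⟩ := exists_conj_centralizer H hm hF hf hf' (by rw [hCu, hCv, hV])
    exact ⟨k, by rw [← hCv, hk, hCu]⟩
  · have hf' : ¬ Fpf H v := fun h => hf (by
      rw [hiff u hu4, hCu, ← hV, ← hCv]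
      exact (hiff v hv4).1 h)
    have hform : ∀ w : Sz F e, w ^ 4 ≠ 1 → ¬ Fpf H w → ∃ k : Sz F e,
        Subgroup.centralizer ({w} : Set (Sz F e)) = (tor H).map (MulAut.conj k).toMonoidHom := by
      intro w hw hf
      unfold Fpf at hf
      push Not at hf
      obtain ⟨p, hp⟩ := hf
      obtain ⟨r, hr, hne⟩ : ∃ r, Moves H w r r ∧ r ≠ p := by
        by_contra hcc
        push Not at hcc
        exact hw (pow_four_of_unique H hp hcc)
      obtain ⟨k, hk1, hk2⟩ := exists_moves_pair H (Ne.symm hne)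
      obtain ⟨t, ht⟩ := exists_sh_of_moves H (Moves.conj H hk1 hp) (Moves.conj H hk2 hr)
      have ht1 : t ≠ 1 := by
        rintro rfl
        rw [sh_one] at ht
        apply hw
        have := congrArg (fun x => k * x * k⁻¹) ht
        simp [mul_assoc] at this
        rw [this, one_pow]
      have hgk : w = k * sh H t * k⁻¹ := by rw [← ht]; group
      exact ⟨k, by rw [hgk, centralizer_conj H, centralizer_sh H ht1]⟩
    obtain ⟨k, hk⟩ := hform u hu4 hf
    obtain ⟨l, hl⟩ := hform v hv4 hf'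
    refine ⟨l * k⁻¹, ?_⟩
    rw [← hCv, hl, ← hCu, hk, Subgroup.map_map]
    congr 1
    ext y
    simp [mul_assoc]

/-- The tori of a given order normalised by an element. -/
def toriAt (k : ℕ) (x : Sz F e) : Set (Subgroup (Sz F e)) :=
  {U | IsCyclic U ∧ Nat.card U = k ∧ x ∈ Subgroup.normalizer (U : Set (Sz F e))}

/-- Tori normalised by an element, counted through the conjugators. -/
theorem natCard_toriAt {k : ℕ} (hk : IsTorusOrder m k) {U : Subgroup (Sz F e)} (hUc : IsCyclic U)
    (hU : Nat.card U = k) (x : Sz F e) :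
    Nat.card (toriAt k x) * Nat.card (Subgroup.normalizer (U : Set (Sz F e))) =
      Nat.card {g : Sz F e // g⁻¹ * x * g ∈ Subgroup.normalizer (U : Set (Sz F e))} := by
  set N := Subgroup.normalizer (U : Set (Sz F e))
  have hconj : ∀ V : toriAt k x, ∃ g : Sz F e, (V : Subgroup (Sz F e)) = U.map (MulAut.conj g).toMonoidHom :=
    fun V => exists_conj_torus H hm hF he hUc (hU ▸ hk) V.2.1 (V.2.2.1.trans hU.symm)
  choose c hc using hconj
  have hmemN : ∀ (g : Sz F e) (V : Subgroup (Sz F e)), V = U.map (MulAut.conj g).toMonoidHom →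
      ∀ y, y ∈ Subgroup.normalizer (V : Set (Sz F e)) ↔ g⁻¹ * y * g ∈ N := by
    intro g V hV y
    rw [hV, ← Subgroup.map_equiv_normalizer_eq, Subgroup.mem_map_equiv, MulAut.conj_symm_apply]
  rw [← Nat.card_prod]
  refine Nat.card_eq_of_bijective (fun p : toriAt k x × N =>
    (⟨c p.1 * p.2, ?_⟩ : {g : Sz F e // g⁻¹ * x * g ∈ N})) ⟨?_, ?_⟩
  · have h1 := (hmemN _ _ (hc p.1) x).1 p.1.2.2.2
    have h2 := N.mul_mem (N.mul_mem (N.inv_mem p.2.2) h1) p.2.2
    simpa [mul_assoc] using h2
  · rintro ⟨V, n⟩ ⟨V', n'⟩ h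
    have h' : c V * n = c V' * n' := congrArg Subtype.val h
    have hV : V = V' := by
      apply Subtype.ext
      rw [hc V, hc V']
      have e1 : ∀ n : N, U.map (MulAut.conj (n : Sz F e)).toMonoidHom = U := fun n => by
        ext y
        rw [Subgroup.mem_map_equiv, MulAut.conj_symm_apply]
        simpa using ((Subgroup.mem_normalizer_iff.1 (N.inv_mem n.2)) y).symm
      have e2 : ∀ (g : Sz F e) (n : N), U.map (MulAut.conj (g * n)).toMonoidHom =
          U.map (MulAut.conj g).toMonoidHom := fun g n => by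
        conv_rhs => rw [← e1 n, Subgroup.map_map]
        congr 1
        ext y
        simp [mul_assoc]
      rw [← e2 (c V) n, ← e2 (c V') n', h']
    subst hV
    exact Prod.ext rfl (Subtype.ext (mul_left_cancel h'))
  · rintro ⟨g, hg⟩
    let V : toriAt k x := ⟨U.map (MulAut.conj g).toMonoidHom,
      ((MulAut.conj g).subgroupMap U).isCyclic.1 hUc,
      (Subgroup.card_map_of_injective (MulAut.conj g).injective).trans hU, (hmemN g _ rfl x).2 hg⟩
    refine ⟨(V, ⟨(c V)⁻¹ * g, ?_⟩), Subtype.ext (by simp)⟩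
    rw [Subgroup.mem_normalizer_iff]
    intro y
    have h3 : ∀ z, z ∈ U.map (MulAut.conj g).toMonoidHom ↔
        z ∈ U.map (MulAut.conj (c V)).toMonoidHom := fun z => by rw [← hc V]
    have h4 := h3 (g * y * g⁻¹)
    rw [Subgroup.mem_map_equiv, Subgroup.mem_map_equiv, MulAut.conj_symm_apply,
      MulAut.conj_symm_apply, show g⁻¹ * (g * y * g⁻¹) * g = y by group] at h4
    rw [h4, show (c V)⁻¹ * g * y * ((c V)⁻¹ * g)⁻¹ = (c V)⁻¹ * (g * y * g⁻¹) * c V by group]

/-- A torus of every order. -/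
theorem exists_torus_order {k : ℕ} (hk : IsTorusOrder m k) :
    ∃ U : Subgroup (Sz F e), IsCyclic U ∧ Nat.card U = k := by
  rcases hk with rfl | h
  · obtain ⟨t, ht⟩ := exists_unit_ne_one H (by
      rw [Nat.card_eq_fintype_card, hF]
      calc 4 = 2 ^ 2 := rfl
        _ ≤ _ := Nat.pow_le_pow_right two_pos (by omega) : 4 ≤ Nat.card F)
    have ht4 : sh H t ^ 4 ≠ 1 := by
      intro h4
      have : sh H (t ^ 4) = 1 := by
        rw [← h4]
        simp [pow_succ, sh_mul]
      have h2 : ((t ^ 2 : Fˣ) : F) = 1 := H.sq_inj (by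
        rw [← Units.val_pow_eq_pow_val, ← pow_mul, sh_inj H (this.trans (sh_one H).symm), Units.val_one,
          one_pow])
      exact ht (Units.ext (H.sq_inj (by rw [← Units.val_pow_eq_pow_val, h2, Units.val_one, one_pow])))
    refine ⟨_, isCyclic_centralizer H ht4, ?_⟩
    rw [centralizer_sh H ht, natCard_tor H, Nat.card_eq_fintype_card, hF]
  · obtain ⟨g, hg, hcard⟩ := exists_centralizer_card H hm hF he h
    exact ⟨_, isCyclic_centralizer H (fpf_pow_four H hF hg), hcard⟩

omit hm he in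
/-- The centraliser of a central involution of the standard Sylow subgroup. -/
theorem centralizer_sz {b : F} (hb : b ≠ 0) :
    Subgroup.centralizer ({sz H b} : Set (Sz F e)) = uni H := by
  refine le_antisymm (fun c hc => ?_) ?_
  · have hb1 : sz H b ≠ 1 := fun h => hb (su_inj H (h.trans (su_zero H).symm)).2
    have hc' : sz H b * c = c * sz H b := (Subgroup.mem_centralizer_singleton_iff.1 hc).symm
    have h4 := pow_four_of_commute H hF (g := sz H b)
      (pow_four_uni H ⟨0, b, rfl⟩) hb1 hc'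
    obtain ⟨q, hq⟩ := exists_moves H c none
    have hqb : Moves H (sz H b) q q := by
      have h1 : Moves H (sz H b * c) none q := by
        rw [hc']
        exact Moves.trans H (borel_moves H (su_mem_borel H 0 b)) hq
      simpa using Moves.trans H (Moves.symm H hq) h1
    rw [su_unique_fixed H hF hb1 hqb] at hq
    obtain ⟨u, v, t, rfl⟩ := mem_borel_of_moves H hq
    have ht : t = 1 := by
      have h := (mul_inv_eq_iff_eq_mul).2 hc'.symm
      rw [conj_sz] at h
      have h' := (mul_eq_right₀ hb).1 (su_inj H h).2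
      rw [← inv_eq_one]
      exact pow_e2_inj H _ _ (Units.ext (by rw [Units.val_pow_eq_pow_val, h']; simp))
    exact ⟨u, v, by rw [ht, sh_one, mul_one]⟩
  · rintro _ ⟨u, v, rfl⟩
    exact Subgroup.mem_centralizer_singleton_iff.2 (sz_mul_su H u v b).symm

/-- A `2`-element in the normaliser of a torus: the intersection with the Borel subgroup. -/
theorem natCard_normalizer_inf_borel {x : Sz F e} (hx : x ^ 4 = 1) (hx1 : x ≠ 1)
    (hxb : Moves H x none none) {U : Subgroup (Sz F e)} (hUc : IsCyclic U)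
    (hU : IsTorusOrder m (Nat.card U)) (hxN : x ∈ Subgroup.normalizer (U : Set (Sz F e))) :
    Nat.card (Subgroup.normalizer (U : Set (Sz F e)) ⊓ borel H : Subgroup (Sz F e)) * Nat.card U =
      Nat.card (Subgroup.normalizer (U : Set (Sz F e))) := by
  classical
  haveI := Fact.mk Nat.prime_two
  set N := Subgroup.normalizer (U : Set (Sz F e)) with hNdef
  obtain ⟨p0, hp0, huniq⟩ := exists_unique_fixed H hF hx hx1
  have hp0n : p0 = none := (huniq none hxb).symm
  subst hp0n
  -- no element of the torus fixes the point at infinity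
  have hdis : ∀ c ∈ U, Moves H c none none → c = 1 := by
    intro c hc hcb
    by_contra hc1
    obtain ⟨hc4, hC⟩ := torus_eq_centralizer H hm hF he hUc hU hc hc1
    obtain ⟨r, hr, hne⟩ : ∃ r, Moves H c r r ∧ r ≠ none := by
      by_contra hcc
      push Not at hcc
      exact hc4 (pow_four_of_unique H hcb hcc)
    obtain ⟨r', hr'⟩ := exists_moves H x r
    have hcx : x⁻¹ * c * x ∈ U := by
      simpa using (Subgroup.mem_normalizer_iff.1 (N.inv_mem hxN) c).1 hc
    have h2 : Moves H (x * c * x⁻¹) r' r' := Moves.trans H (Moves.symm H hr') (Moves.trans H hr hr')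
    have hxc : x * c * x⁻¹ ∈ U := (Subgroup.mem_normalizer_iff.1 hxN c).1 hc
    have hcomm : c * (x * c * x⁻¹) = x * c * x⁻¹ * c := by
      letI := hUc.commGroup
      exact congrArg Subtype.val (mul_comm (⟨c, hc⟩ : U) ⟨_, hxc⟩)
    -- `c` permutes the fixed points of its conjugate
    have hr'' : Moves H c r' r' := by
      obtain ⟨s, hs⟩ := exists_moves H c r'
      have hs2 : Moves H (x * c * x⁻¹) s s := by
        have h3 : Moves H (x * c * x⁻¹ * c) r' s := by
          rw [← hcomm]
          exact Moves.trans H h2 hs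
        simpa using Moves.trans H (Moves.symm H hs) h3
      have hn2 : Moves H (x * c * x⁻¹) none none :=
        Moves.trans H (Moves.symm H hxb) (Moves.trans H hcb hxb)
      have hne' : r' ≠ none := by
        rintro rfl
        exact hne (Moves.unique H (Moves.symm H hr') (Moves.symm H hxb))
      by_cases hss : s = r'
      · rwa [hss] at hs
      · exfalso
        have hsn : s ≠ none := by
          rintro rfl
          exact hne' (Moves.unique H (Moves.symm H hs) (Moves.symm H hcb))
        exact hc1 (conj_eq_one_iff.1 (eq_one_of_three H (p := none) (q := r') (r := s) hne'.symm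
          (Ne.symm hss) hsn.symm hn2 h2 hs2))
    have : r' = r := by
      by_contra hne'
      exact hc1 (eq_one_of_three H (p := none) (q := r) (r := r') hne.symm (Ne.symm hne')
        (fun h => hne (Moves.unique H (Moves.symm H hr') (h ▸ Moves.symm H hxb))) hcb hr hr'')
    rw [this] at hr'
    exact hne (huniq r hr')
  -- the intersection is a Sylow subgroup of the normaliser
  set D := N ⊓ borel H with hDdef
  have hD : IsPGroup 2 D := by
    intro d
    rcases odd_or_pow_four H (d : Sz F e) with ho | h4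
    · exact ⟨0, Subtype.ext (by
        simpa using hdis _ (mem_torus_of_odd H hm hF he hUc hU d.2.1 ho) (borel_moves H d.2.2))⟩
    · exact ⟨2, Subtype.ext (by simpa using h4)⟩
  have hpx : IsPGroup 2 (Subgroup.zpowers (⟨x, hxN⟩ : N)) := by
    obtain ⟨i, -, hi⟩ := (Nat.dvd_prime_pow Nat.prime_two (m := 2)).1 (orderOf_dvd_of_pow_eq_one hx)
    exact IsPGroup.of_card (n := i) (by rw [Nat.card_zpowers, ← Subgroup.orderOf_coe, hi])
  obtain ⟨Q, hQ⟩ := hpx.exists_le_sylow
  obtain ⟨P, hP⟩ := (Q.isPGroup'.map N.subtype).exists_le_sylow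
  have hQD : (Q : Subgroup N).map N.subtype ≤ D := by
    rintro _ ⟨y, hy, rfl⟩
    refine ⟨y.2, ?_⟩
    obtain ⟨k, hk⟩ := exists_sylow_conj_uni H hF P
    have hxP : x ∈ (P : Subgroup (Sz F e)) := hP ⟨⟨x, hxN⟩, hQ (Subgroup.mem_zpowers _), rfl⟩
    obtain ⟨pk, hpk⟩ := exists_moves H k none
    have hpkn : pk = none := huniq pk (Moves.conj' H hpk (borel_moves H (uni_le_borel H ((hk x).1 hxP))))
    subst hpkn
    have hyP : (y : Sz F e) ∈ (P : Subgroup (Sz F e)) := hP ⟨y, hy, rfl⟩
    exact mem_borel_of_moves H (Moves.conj' H hpk (borel_moves H (uni_le_borel H ((hk _).1 hyP))))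
  have hcardU : Odd (Nat.card U) := (pairwise_coprime H hm hU hU dvd_rfl).2.1
  -- `D` is a complement of the torus
  have hle : Nat.card D * Nat.card U ≤ Nat.card N := by
    rw [← Nat.card_prod]
    refine Nat.card_le_card_of_injective (fun p : D × U => (⟨(p.1 : Sz F e) * p.2,
      N.mul_mem p.1.2.1 (Subgroup.le_normalizer p.2.2)⟩ : N)) ?_
    rintro ⟨d, c⟩ ⟨d', c'⟩ h
    have h' : (d : Sz F e) * c = d' * c' := congrArg Subtype.val h
    have e1 : (d' : Sz F e)⁻¹ * d = c' * (c : Sz F e)⁻¹ := by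
      rw [inv_mul_eq_iff_eq_mul, ← mul_assoc, ← h', mul_inv_cancel_right]
    have h1 : (d' : Sz F e)⁻¹ * d = 1 := hdis _ (e1 ▸ U.mul_mem c'.2 (U.inv_mem c.2))
      (borel_moves H ((borel H).mul_mem ((borel H).inv_mem d'.2.2) d.2.2))
    have h2 := inv_mul_eq_one.1 h1
    rw [h2] at h'
    exact Prod.ext (Subtype.ext h2.symm) (Subtype.ext (mul_left_cancel h'))
  refine le_antisymm hle ?_
  have hQcard : Nat.card Q ≤ Nat.card D := by
    rw [Nat.card_congr ((Q : Subgroup N).equivMapOfInjective N.subtype N.subtype_injective).toEquiv]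
    exact Nat.le_of_dvd Nat.card_pos (Subgroup.card_dvd_of_le hQD)
  refine le_trans ?_ (Nat.mul_le_mul_right _ hQcard)
  rw [← (Q : Subgroup N).card_mul_index]
  refine Nat.mul_le_mul_left _ (Nat.le_of_dvd Nat.card_pos ?_)
  have hN2 : Nat.card N = 2 * Nat.card U ∨ Nat.card N = 4 * Nat.card U := by
    by_cases hq : Nat.card U = 2 ^ (2 * m + 1) - 1
    · exact Or.inl ((natCard_normalizer_torus H hm hF he hUc hU).1 hq)
    · exact Or.inr ((natCard_normalizer_torus H hm hF he hUc hU).2 hq)
  have hidx : (Q : Subgroup N).index ∣ Nat.card N := (Q : Subgroup N).index_dvd_card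
  have hco : Nat.Coprime (Q : Subgroup N).index 2 :=
    Nat.coprime_comm.1 ((Nat.Prime.coprime_iff_not_dvd Nat.prime_two).2 Q.not_dvd_index)
  rcases hN2 with h | h <;> rw [h] at hidx
  · exact hco.dvd_of_dvd_mul_left hidx
  · exact (hco.pow_right 2).dvd_of_dvd_mul_left hidx

omit hm he in
theorem fixed_of_mem {x : Sz F e} (hx : x ^ 4 = 1) (hx1 : x ≠ 1) (hxb : Moves H x none none)
    {y : Sz F e} : (∃ p, Moves H x p p ∧ Moves H y p p) ↔ y ∈ borel H := by
  obtain ⟨p0, -, huniq⟩ := exists_unique_fixed H hF hx hx1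
  constructor
  · rintro ⟨p, hxp, hyp⟩
    rw [(huniq p hxp).trans (huniq none hxb).symm] at hyp
    exact mem_borel_of_moves H hyp
  · exact fun hy => ⟨none, hxb, borel_moves H hy⟩

/-- The partners outside the Borel subgroup. -/
theorem natCard_solSet_two (hp : (2 * m + 1).Prime) {x : Sz F e} (hx : x ^ 4 = 1) (hx1 : x ≠ 1)
    (hxb : Moves H x none none) :
    Nat.card (solSet x) = (2 ^ (2 * m + 1)) ^ 2 * (2 ^ (2 * m + 1) - 1) +
      (Nat.card {p : toriAt (2 ^ (2 * m + 1) - 1) x × Sz F e //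
          p.2 ∈ Subgroup.normalizer ((p.1 : Subgroup (Sz F e)) : Set (Sz F e)) ∧ p.2 ∉ borel H} +
        Nat.card {p : toriAt (kp m) x × Sz F e //
          p.2 ∈ Subgroup.normalizer ((p.1 : Subgroup (Sz F e)) : Set (Sz F e)) ∧ p.2 ∉ borel H} +
        Nat.card {p : toriAt (km m) x × Sz F e //
          p.2 ∈ Subgroup.normalizer ((p.1 : Subgroup (Sz F e)) : Set (Sz F e)) ∧ p.2 ∉ borel H}) := by
  classical
  have hB : Nat.card (borel H) = (2 ^ (2 * m + 1)) ^ 2 * (2 ^ (2 * m + 1) - 1) := by
    rw [natCard_borel, Nat.card_eq_fintype_card, hF]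
  -- a torus normalised by `x` and an outside element is unique
  have huniqU : ∀ (U V : Subgroup (Sz F e)), IsCyclic U → IsTorusOrder m (Nat.card U) → IsCyclic V →
      IsTorusOrder m (Nat.card V) → ∀ y : Sz F e, y ∉ borel H →
      x ∈ Subgroup.normalizer (U : Set (Sz F e)) → x ∈ Subgroup.normalizer (V : Set (Sz F e)) →
      y ∈ Subgroup.normalizer (U : Set (Sz F e)) → y ∈ Subgroup.normalizer (V : Set (Sz F e)) → U = V := by
    intro U V hUc hU hVc hV y hyb hxU hxV hyU hyV
    set D := Subgroup.normalizer (U : Set (Sz F e)) ⊓ Subgroup.normalizer (V : Set (Sz F e)) with hD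
    by_contra hne
    have hodd : ∀ d ∈ D, Odd (orderOf d) → d = 1 := fun d hd ho => by
      by_contra hd1
      exact hne (torus_eq_of_mem H hm hF he hUc hU hVc hV
        (mem_torus_of_odd H hm hF he hUc hU hd.1 ho) (mem_torus_of_odd H hm hF he hVc hV hd.2 ho) hd1)
    haveI := Fact.mk Nat.prime_two
    have hD2 : IsPGroup 2 D := fun d => by
      rcases odd_or_pow_four H (d : Sz F e) with ho | h4
      · exact ⟨0, Subtype.ext (by simpa using hodd _ d.2 ho)⟩
      · exact ⟨2, Subtype.ext (by simpa using h4)⟩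
    obtain ⟨P, hP⟩ := hD2.exists_le_sylow
    obtain ⟨k, hk⟩ := exists_sylow_conj_uni H hF P
    obtain ⟨pk, hpk⟩ := exists_moves H k none
    obtain ⟨p0, -, huniq⟩ := exists_unique_fixed H hF hx hx1
    have hxP : x ∈ (P : Subgroup (Sz F e)) := hP ⟨hxU, hxV⟩
    have hpkn : pk = none := (huniq pk (Moves.conj' H hpk (borel_moves H (uni_le_borel H ((hk x).1 hxP))))).trans
      (huniq none hxb).symm
    subst hpkn
    exact hyb (mem_borel_of_moves H (Moves.conj' H hpk
      (borel_moves H (uni_le_borel H ((hk y).1 (hP ⟨hyU, hyV⟩))))))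
  set q := 2 ^ (2 * m + 1) with hq
  let Tk : ℕ → Type _ := fun k => {p : toriAt k x × Sz F e //
    p.2 ∈ Subgroup.normalizer ((p.1 : Subgroup (Sz F e)) : Set (Sz F e)) ∧ p.2 ∉ borel H}
  rw [← hB, ← Nat.card_sum, ← Nat.card_sum, ← Nat.card_sum]
  symm
  refine Nat.card_eq_of_bijective (fun z : borel H ⊕ ((Tk (q - 1) ⊕ Tk (kp m)) ⊕ Tk (km m)) =>
    (⟨Sum.elim (fun b : borel H => (b : Sz F e))
      (Sum.elim (Sum.elim (fun p => p.1.2) (fun p => p.1.2)) (fun p => p.1.2)) z, ?_⟩ : solSet x)) ⟨?_, ?_⟩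
  · show _ ∈ solSet x
    rw [mem_solSet_iff H hm hF he hp]
    rcases z with b | (p | p) | p
    · exact Or.inl ⟨none, hxb, borel_moves H b.2⟩
    · exact Or.inr ⟨_, p.1.1.2.1, Or.inl p.1.1.2.2.1, p.1.1.2.2.2, p.2.1⟩
    · exact Or.inr ⟨_, p.1.1.2.1, Or.inr (Or.inl p.1.1.2.2.1), p.1.1.2.2.2, p.2.1⟩
    · exact Or.inr ⟨_, p.1.1.2.1, Or.inr (Or.inr p.1.1.2.2.1), p.1.1.2.2.2, p.2.1⟩
  · have hko : ∀ k l, IsTorusOrder m k → IsTorusOrder m l → ∀ (p : Tk k) (p' : Tk l),
        p.1.2 = p'.1.2 → (p.1.1 : Subgroup (Sz F e)) = (p'.1.1 : Subgroup (Sz F e)) ∧ k = l := by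
      intro k l hk hl p p' h
      have hU := huniqU _ _ p.1.1.2.1 (p.1.1.2.2.1.symm ▸ hk) p'.1.1.2.1 (p'.1.1.2.2.1.symm ▸ hl) p.1.2
        p.2.2 p.1.1.2.2.2 p'.1.1.2.2.2 p.2.1 (h ▸ p'.2.1)
      exact ⟨hU, by rw [← p.1.1.2.2.1, ← p'.1.1.2.2.1, hU]⟩
    have hsame : ∀ k, IsTorusOrder m k → ∀ (p p' : Tk k), p.1.2 = p'.1.2 → p = p' := fun k hk p p' h =>
      Subtype.ext (Prod.ext (Subtype.ext (hko k k hk hk p p' h).1) h)
    have hne : q - 1 ≠ kp m ∧ q - 1 ≠ km m ∧ kp m ≠ km m := by
      have h1 := pow_succ_le m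
      have h2 : 2 ^ (m + 1) < q := Nat.pow_lt_pow_right one_lt_two (by omega)
      have h3 : 1 ≤ 2 ^ (m + 1) := Nat.one_le_two_pow
      have h4 : 2 ^ (m + 1) ≠ 2 := by
        have : 2 ^ 2 ≤ 2 ^ (m + 1) := Nat.pow_le_pow_right two_pos (by omega)
        omega
      simp only [kp, km, ← hq]
      omega
    have o1 : IsTorusOrder m (q - 1) := Or.inl rfl
    have o2 : IsTorusOrder m (kp m) := Or.inr (Or.inl rfl)
    have o3 : IsTorusOrder m (km m) := Or.inr (Or.inr rfl)
    intro z z' h
    have h' := congrArg Subtype.val h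
    rcases z with b | (p | p) | p <;> rcases z' with b' | (p' | p') | p' <;>
      simp only [Sum.elim_inl, Sum.elim_inr] at h'
    · exact congrArg Sum.inl (Subtype.ext h')
    · exact absurd (h' ▸ b.2) p'.2.2
    · exact absurd (h' ▸ b.2) p'.2.2
    · exact absurd (h' ▸ b.2) p'.2.2
    · exact absurd (h'.symm ▸ b'.2) p.2.2
    · exact congrArg (fun t => Sum.inr (Sum.inl (Sum.inl t))) (hsame _ o1 p p' h')
    · exact absurd (hko _ _ o1 o2 p p' h').2 hne.1
    · exact absurd (hko _ _ o1 o3 p p' h').2 hne.2.1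
    · exact absurd (h'.symm ▸ b'.2) p.2.2
    · exact absurd (hko _ _ o2 o1 p p' h').2.symm hne.1
    · exact congrArg (fun t => Sum.inr (Sum.inl (Sum.inr t))) (hsame _ o2 p p' h')
    · exact absurd (hko _ _ o2 o3 p p' h').2 hne.2.2
    · exact absurd (h'.symm ▸ b'.2) p.2.2
    · exact absurd (hko _ _ o3 o1 p p' h').2.symm hne.2.1
    · exact absurd (hko _ _ o3 o2 p p' h').2.symm hne.2.2
    · exact congrArg (fun t => Sum.inr (Sum.inr t)) (hsame _ o3 p p' h')
  · rintro ⟨y, hy⟩
    by_cases hyb : y ∈ borel H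
    · exact ⟨Sum.inl ⟨y, hyb⟩, rfl⟩
    rcases (mem_solSet_iff H hm hF he hp).1 hy with h | ⟨U, hUc, hU, hxU, hyU⟩
    · exact absurd ((fixed_of_mem H hF hx hx1 hxb).1 h) hyb
    · rcases hU with h | h | h
      · exact ⟨Sum.inr (Sum.inl (Sum.inl ⟨(⟨U, hUc, h, hxU⟩, y), hyU, hyb⟩)), rfl⟩
      · exact ⟨Sum.inr (Sum.inl (Sum.inr ⟨(⟨U, hUc, h, hxU⟩, y), hyU, hyb⟩)), rfl⟩
      · exact ⟨Sum.inr (Sum.inr ⟨(⟨U, hUc, h, hxU⟩, y), hyU, hyb⟩), rfl⟩

/-- Each torus contributes a fixed number of partners. -/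
theorem natCard_pairs {k : ℕ} (hk : IsTorusOrder m k) {x : Sz F e} (hx : x ^ 4 = 1) (hx1 : x ≠ 1)
    (hxb : Moves H x none none) :
    Nat.card {p : toriAt k x × Sz F e //
      p.2 ∈ Subgroup.normalizer ((p.1 : Subgroup (Sz F e)) : Set (Sz F e)) ∧ p.2 ∉ borel H} =
      Nat.card (toriAt k x) * ((if k = 2 ^ (2 * m + 1) - 1 then 2 else 4) * (k - 1)) := by
  classical
  letI : Fintype (toriAt k x) := Fintype.ofFinite _
  rw [Nat.card_congr (Equiv.subtypeProdEquivSigmaSubtype
    (fun (U : toriAt k x) (y : Sz F e) =>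
      y ∈ Subgroup.normalizer ((U : Subgroup (Sz F e)) : Set (Sz F e)) ∧ y ∉ borel H)), Nat.card_sigma]
  have hfib : ∀ U : toriAt k x, Nat.card {y : Sz F e //
      y ∈ Subgroup.normalizer ((U : Subgroup (Sz F e)) : Set (Sz F e)) ∧ y ∉ borel H} =
      (if k = 2 ^ (2 * m + 1) - 1 then 2 else 4) * (k - 1) := by
    rintro ⟨U, hUc, hU, hxU⟩
    set N := Subgroup.normalizer (U : Set (Sz F e))
    have hUo : IsTorusOrder m (Nat.card U) := hU.symm ▸ hk
    have hD := natCard_normalizer_inf_borel H hm hF he hx hx1 hxb hUc hUo hxU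
    have hN : Nat.card N = (if k = 2 ^ (2 * m + 1) - 1 then 2 else 4) * k := by
      split_ifs with hq
      · rw [(natCard_normalizer_torus H hm hF he hUc hUo).1 (hU.trans hq), hU]
      · rw [(natCard_normalizer_torus H hm hF he hUc hUo).2 (fun h => hq (hU ▸ h)), hU]
    rw [hU, hN] at hD
    have hDc : Nat.card (N ⊓ borel H : Subgroup (Sz F e)) = (if k = 2 ^ (2 * m + 1) - 1 then 2 else 4) :=
      Nat.eq_of_mul_eq_mul_right (hU ▸ Nat.card_pos) hD
    have h1 : Nat.card {y : Sz F e // y ∈ N ∧ y ∉ borel H} +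
        Nat.card (N ⊓ borel H : Subgroup (Sz F e)) = Nat.card N := by
      rw [← Nat.card_sum]
      refine Nat.card_eq_of_bijective (fun z : {y : Sz F e // y ∈ N ∧ y ∉ borel H} ⊕
          (N ⊓ borel H : Subgroup (Sz F e)) =>
        (Sum.elim (fun a => ⟨a.1, a.2.1⟩) (fun b => ⟨b.1, b.2.1⟩) z : N)) ⟨?_, ?_⟩
      · intro a b h
        rcases a with a | a <;> rcases b with b | b <;>
          simp only [Sum.elim_inl, Sum.elim_inr, Subtype.mk.injEq] at h
        · exact congrArg Sum.inl (Subtype.ext h)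
        · exact absurd (h ▸ b.2.2) a.2.2
        · exact absurd (h ▸ a.2.2) b.2.2
        · exact congrArg Sum.inr (Subtype.ext h)
      · intro y
        by_cases hy : (y : Sz F e) ∈ borel H
        · exact ⟨Sum.inr ⟨y, y.2, hy⟩, rfl⟩
        · exact ⟨Sum.inl ⟨y, y.2, hy⟩, rfl⟩
    rw [hDc, hN] at h1
    rw [Nat.mul_sub, mul_one]
    exact Nat.eq_sub_of_add_eq h1
  rw [Finset.sum_congr rfl (fun U _ => hfib U), Finset.sum_const, Finset.card_univ, smul_eq_mul,
    ← Nat.card_eq_fintype_card]

omit hm he in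
theorem natCard_conjugators_mul {x : Sz F e} (N : Subgroup (Sz F e)) :
    Nat.card {g : Sz F e // g⁻¹ * x * g ∈ N} =
      Nat.card {w : Sz F e // w ∈ N ∧ ∃ g : Sz F e, g⁻¹ * x * g = w} *
        Nat.card (Subgroup.centralizer ({x} : Set (Sz F e))) := by
  rw [← Nat.card_prod]
  have hw : ∀ w : {w : Sz F e // w ∈ N ∧ ∃ g : Sz F e, g⁻¹ * x * g = w}, ∃ g : Sz F e,
      g⁻¹ * x * g = w := fun w => w.2.2
  choose l hl using hw
  symm
  have hcz : ∀ c ∈ Subgroup.centralizer ({x} : Set (Sz F e)), c⁻¹ * x * c = x := fun c hc => by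
    rw [mul_assoc, ← Subgroup.mem_centralizer_singleton_iff.1 hc, inv_mul_cancel_left]
  have hkey : ∀ (c : Subgroup.centralizer ({x} : Set (Sz F e))) (w),
      ((c : Sz F e) * l w)⁻¹ * x * (c * l w) = w := fun c w => by
    rw [show ((c : Sz F e) * l w)⁻¹ * x * (c * l w) = (l w)⁻¹ * ((c : Sz F e)⁻¹ * x * c) * l w by group,
      hcz _ c.2, hl]
  refine Nat.card_eq_of_bijective (fun p : {w : Sz F e // w ∈ N ∧ ∃ g : Sz F e, g⁻¹ * x * g = w} ×
    Subgroup.centralizer ({x} : Set (Sz F e)) => (⟨(p.2 : Sz F e) * l p.1,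
      (hkey p.2 p.1).symm ▸ p.1.2.1⟩ : {g : Sz F e // g⁻¹ * x * g ∈ N})) ⟨?_, ?_⟩
  · rintro ⟨w, c⟩ ⟨w', c'⟩ h
    have h1 : (c : Sz F e) * l w = c' * l w' := congrArg Subtype.val h
    have hw' : w = w' := Subtype.ext (by rw [← hkey c w, ← hkey c' w', h1])
    subst hw'
    exact Prod.ext rfl (Subtype.ext (mul_right_cancel h1))
  · rintro ⟨g, hg⟩
    let w : {w : Sz F e // w ∈ N ∧ ∃ g : Sz F e, g⁻¹ * x * g = w} := ⟨_, hg, g, rfl⟩
    refine ⟨(w, ⟨g * (l w)⁻¹, Subgroup.mem_centralizer_singleton_iff.2 ?_⟩), Subtype.ext (by simp)⟩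
    have h1 : (l w)⁻¹ * x * l w = g⁻¹ * x * g := hl w
    have h2 := congrArg (fun t => g * t * (l w)⁻¹) h1
    simpa [mul_assoc] using h2

omit hm he in
/-- An element of order dividing four lies in a conjugate of the standard Sylow subgroup. -/
theorem exists_conj_su {x : Sz F e} (hx : x ^ 4 = 1) : ∃ k : Sz F e, ∃ a b, k⁻¹ * x * k = su H a b := by
  obtain ⟨P, hP⟩ := exists_sylow_mem H hF hx
  obtain ⟨k, hk⟩ := exists_sylow_conj_uni H hF P
  exact ⟨k, (hk x).1 hP⟩

omit hm he in
theorem centralizer_su {a b : F} (ha : a ≠ 0) :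
    Nat.card (Subgroup.centralizer ({su H a b} : Set (Sz F e))) = 2 * 2 ^ (2 * m + 1) := by
  classical
  set x := su H a b
  have hsq : x * x = sz H (a ^ e * a) := by rw [su_mul, H.add_self, H.add_self, zero_add]
  have hb0 : a ^ e * a ≠ 0 := mul_ne_zero (pow_ne_zero _ ha) ha
  have hmem : ∀ c, c ∈ Subgroup.centralizer ({x} : Set (Sz F e)) ↔
      ∃ u v, (u = 0 ∨ u = a) ∧ c = su H u v := by
    intro c
    constructor
    · intro hc
      have hc' : c * x = x * c := Subgroup.mem_centralizer_singleton_iff.1 hc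
      have hc2 : c ∈ Subgroup.centralizer ({sz H (a ^ e * a)} : Set (Sz F e)) := by
        rw [Subgroup.mem_centralizer_singleton_iff, ← hsq, ← mul_assoc, hc', mul_assoc, hc', ← mul_assoc]
      rw [centralizer_sz H hF hb0] at hc2
      obtain ⟨u, v, rfl⟩ := hc2
      rw [su_mul, su_mul] at hc'
      have h := (su_inj H hc').2
      have h2 : u ^ e * a + a ^ e * u = 0 := by linear_combination h + (a ^ e * u) * H.two
      refine ⟨u, v, ?_, rfl⟩
      by_cases hu : u = 0
      · exact Or.inl hu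
      refine Or.inr ?_
      have h3 : u ^ e * a = a ^ e * u := H.eq_of_add h2
      set r := u / a with hr
      have hre : r ^ e = r := by
        rw [hr, div_pow, div_eq_div_iff (pow_ne_zero _ ha) ha, h3]
        ring
      have h4 : r * (r - 1) = 0 := by
        have h5 := H.sq r
        rw [hre, hre] at h5
        linear_combination -h5
      rcases mul_eq_zero.1 h4 with h | h
      · exact absurd (by rwa [hr, div_eq_zero_iff, or_iff_left ha] at h) hu
      · exact eq_of_div_eq_one (sub_eq_zero.1 h)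
    · rintro ⟨u, v, hu, rfl⟩
      rw [Subgroup.mem_centralizer_singleton_iff, su_mul, su_mul, add_comm u a]
      congr 1
      rcases hu with rfl | rfl
      · simp [zero_pow H.e_ne, add_comm]
      · ring
  have hset : Nat.card (Subgroup.centralizer ({x} : Set (Sz F e))) = Nat.card (Bool × F) := by
    symm
    refine Nat.card_eq_of_bijective (fun p : Bool × F => (⟨su H (cond p.1 a 0) p.2,
      (hmem _).2 ⟨_, _, by cases p.1 <;> simp, rfl⟩⟩ : Subgroup.centralizer ({x} : Set (Sz F e)))) ⟨?_, ?_⟩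
    · rintro ⟨i, v⟩ ⟨j, w⟩ h
      obtain ⟨h1, h2⟩ := su_inj H (congrArg Subtype.val h :)
      cases i <;> cases j <;> simp only [cond_true, cond_false] at h1
      · exact Prod.ext rfl h2
      · exact absurd h1.symm ha
      · exact absurd h1 ha
      · exact Prod.ext rfl h2
    · rintro ⟨c, hc⟩
      obtain ⟨u, v, hu, rfl⟩ := (hmem c).1 hc
      rcases hu with rfl | rfl
      · exact ⟨(false, v), rfl⟩
      · exact ⟨(true, v), rfl⟩
  rw [hset, Nat.card_prod, Nat.card_eq_fintype_card (α := F), hF]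
  simp

omit hm he in
/-- The elements of order four form two classes, exchanged by inversion. -/
theorem conj_or_conj_inv {a b c d : F} (ha : a ≠ 0) (hc : c ≠ 0) :
    ∃ g : Sz F e, g⁻¹ * su H a b * g = su H c d ∨ g⁻¹ * su H a b * g = (su H c d)⁻¹ := by
  classical
  have hnorm : ∀ a b : F, a ≠ 0 → ∃ (g : Sz F e) (b' : F), g⁻¹ * su H a b * g = su H 1 b' := by
    intro a b ha
    obtain ⟨t, ht⟩ := Finite.surjective_of_injective (f := fun x : Fˣ => x ^ e)
      (fun x y h => pow_e_inj H x y h) (Units.mk0 a⁻¹ (inv_ne_zero ha))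
    have ht' : (t : F) ^ e = a⁻¹ := congrArg Units.val ht
    refine ⟨sh H t, (t : F) ^ (e + 2) * b, ?_⟩
    rw [mul_assoc, sh_conj, inv_mul_cancel_left, ht', inv_mul_cancel₀ ha]
  obtain ⟨g, b', hg⟩ := hnorm a b ha
  obtain ⟨g', d', hg'⟩ := hnorm c d hc
  -- conjugation shifts the second coordinate by the hyperplane
  have hshift : ∀ u y : F, (su H u 0)⁻¹ * su H 1 y * su H u 0 = su H 1 (y + (u ^ e + u)) := by
    intro u y
    rw [su_inv, su_mul, su_mul]
    have e1 : u + 1 + u = 1 := by linear_combination u * H.two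
    rw [e1, H.add_pow, one_pow]
    congr 1
    linear_combination (u ^ e * u) * H.two
  let φ : F →+ F := AddMonoidHom.mk' (fun x : F => x ^ e + x) fun x y => by simp only [H.add_pow]; ring
  have hk2 : Nat.card φ.ker = 2 := by
    have hk : (φ.ker : Set F) = {0, 1} := by
      ext x
      simp only [SetLike.mem_coe, AddMonoidHom.mem_ker, Set.mem_insert_iff, Set.mem_singleton_iff]
      constructor
      · intro hx
        have h2 : x ^ e = x := H.eq_of_add hx
        have h3 : x * (x - 1) = 0 := by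
          have h4 := H.sq x
          rw [h2, h2] at h4
          linear_combination -h4
        exact (mul_eq_zero.1 h3).imp_right sub_eq_zero.1
      · rintro (rfl | rfl)
        · show (0 : F) ^ e + 0 = 0
          simp [zero_pow H.e_ne]
        · show (1 : F) ^ e + 1 = 0
          rw [one_pow, H.add_self]
    rw [← SetLike.coe_sort_coe, Nat.card_coe_set_eq, hk, Set.ncard_pair zero_ne_one]
  have hidx : φ.range.index = 2 := by
    have h1 := φ.ker.card_mul_index
    rw [AddSubgroup.index_ker, hk2] at h1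
    have h2 := φ.range.card_mul_index
    rw [← h1, mul_comm 2] at h2
    exact Nat.eq_of_mul_eq_mul_left Nat.card_pos h2
  have h1T : (1 : F) ∉ φ.range := by
    rintro ⟨x, hx⟩
    have h4 : x ^ e + x = 1 := hx
    have h5 := congrArg (· ^ e) h4
    simp only [H.add_pow, H.sq, one_pow] at h5
    have h6 : x * (x - 1) = 0 := by linear_combination h5 - h4
    rcases mul_eq_zero.1 h6 with h | h
    · rw [h, zero_pow H.e_ne, add_zero] at h4
      exact zero_ne_one h4
    · rw [sub_eq_zero.1 h, one_pow, H.add_self] at h4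
      exact zero_ne_one h4
  by_cases hT : b' + d' ∈ φ.range
  · obtain ⟨u, hu⟩ := hT
    have hu' : u ^ e + u = b' + d' := hu
    refine ⟨g * su H u 0 * g'⁻¹, Or.inl ?_⟩
    have h3 : (su H u 0)⁻¹ * (g⁻¹ * su H a b * g) * su H u 0 = g'⁻¹ * su H c d * g' := by
      rw [hg, hg', hshift, hu']
      congr 1
      linear_combination b' * H.two
    have h4 := congrArg (fun x => g' * x * g'⁻¹) h3
    simpa [mul_assoc] using h4
  · have hT' : b' + (d' + 1) ∈ φ.range := by
      rw [← add_assoc, AddSubgroup.add_mem_iff_of_index_two hidx]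
      exact iff_of_false hT h1T
    obtain ⟨u, hu⟩ := hT'
    have hu' : u ^ e + u = b' + (d' + 1) := hu
    refine ⟨g * su H u 0 * g'⁻¹, Or.inr ?_⟩
    have h3 : (su H u 0)⁻¹ * (g⁻¹ * su H a b * g) * su H u 0 = g'⁻¹ * (su H c d)⁻¹ * g' := by
      rw [hg, show g'⁻¹ * (su H c d)⁻¹ * g' = (g'⁻¹ * su H c d * g')⁻¹ by group, hg', hshift, su_inv,
        hu', one_pow, one_mul]
      congr 1
      linear_combination b' * H.two
    have h4 := congrArg (fun x => g' * x * g'⁻¹) h3
    simpa [mul_assoc] using h4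

/-- Tori normalised by the standard involution. -/
theorem toriAt_sz {k : ℕ} (hk : IsTorusOrder m k) :
    Nat.card (toriAt k (sz H (1 : F))) * (if k = 2 ^ (2 * m + 1) - 1 then 2 else 4) =
      (2 ^ (2 * m + 1)) ^ 2 := by
  obtain ⟨U, hUc, hU⟩ := exists_torus_order H hm hF he hk
  have hUo : IsTorusOrder m (Nat.card U) := hU.symm ▸ hk
  set N := Subgroup.normalizer (U : Set (Sz F e)) with hN
  have hNcard : Nat.card N = (if k = 2 ^ (2 * m + 1) - 1 then 2 else 4) * k := by
    split_ifs with hq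
    · rw [(natCard_normalizer_torus H hm hF he hUc hUo).1 (hU.trans hq), hU]
    · rw [(natCard_normalizer_torus H hm hF he hUc hUo).2 (fun h => hq (hU ▸ h)), hU]
  haveI := Fact.mk Nat.prime_two
  obtain ⟨a, ha⟩ := exists_prime_orderOf_dvd_card' (G := N) 2 (by
    rw [hNcard]
    split_ifs
    · exact dvd_mul_right _ _
    · exact (show 2 ∣ 4 by norm_num).trans (dvd_mul_right _ _))
  have haa : (a : Sz F e) * a = 1 := by
    rw [← sq, ← Subgroup.coe_pow, ← ha, pow_orderOf_eq_one, Subgroup.coe_one]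
  have ha1 : (a : Sz F e) ≠ 1 := fun h => by
    rw [show a = 1 from Subtype.ext h, orderOf_one] at ha
    exact absurd ha (by norm_num)
  have hinv := natCard_involutions_normalizer H hm hF he hUc hUo a.2 haa ha1
  have hcl : Nat.card {w : Sz F e // w ∈ N ∧ ∃ g : Sz F e, g⁻¹ * sz H (1 : F) * g = w} =
      Nat.card {w : Sz F e // w ∈ N ∧ w * w = 1 ∧ w ≠ 1} := by
    refine Nat.card_congr (Equiv.subtypeEquivRight fun w => and_congr_right fun _ => ?_)
    constructor
    · rintro ⟨g, rfl⟩
      refine ⟨?_, fun h => ?_⟩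
      · rw [show g⁻¹ * sz H (1 : F) * g * (g⁻¹ * sz H 1 * g) = g⁻¹ * (sz H 1 * sz H 1) * g by group,
          sz_mul, H.add_self, show sz H (0 : F) = 1 from su_zero H]
        simp
      · have h2 : sz H (1 : F) = 1 := by
          have := congrArg (fun x => g * x * g⁻¹) h
          simpa [mul_assoc] using this
        exact one_ne_zero (su_inj H (h2.trans (su_zero H).symm)).2
    · rintro ⟨hw, hw1⟩
      exact exists_conj_involution H hF hw hw1
  have h := natCard_toriAt H hm hF he hk hUc hU (sz H (1 : F))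
  rw [natCard_conjugators_mul H hF N, hcl, hinv, hU, centralizer_sz H hF one_ne_zero, natCard_uni,
    Nat.card_eq_fintype_card (α := F), hF, hNcard, ← mul_assoc, mul_comm k] at h
  exact Nat.eq_of_mul_eq_mul_right (hU ▸ Nat.card_pos) h

/-- Tori normalised by an element of order four. -/
theorem toriAt_su {a b : F} (ha : a ≠ 0) :
    Nat.card (toriAt (2 ^ (2 * m + 1) - 1) (su H a b)) = 0 ∧
      ∀ k, k = kp m ∨ k = km m → Nat.card (toriAt k (su H a b)) * 2 = 2 ^ (2 * m + 1) := by
  classical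
  haveI := Fact.mk Nat.prime_two
  set x := su H a b with hx
  have hxx : x * x ≠ 1 := fun h => by
    rw [hx, su_mul, H.add_self, H.add_self, zero_add] at h
    exact mul_ne_zero (pow_ne_zero _ ha) ha (su_inj H (h.trans (su_zero H).symm)).2
  have hx4 : x ^ 4 = 1 := pow_four_uni H ⟨a, b, rfl⟩
  have hx1 : x ≠ 1 := fun h => hxx (by rw [h, mul_one])
  have hxb : Moves H x none none := borel_moves H (su_mem_borel H a b)
  refine ⟨?_, fun k hk => ?_⟩
  · refine Nat.card_eq_zero.2 (Or.inl ⟨fun ⟨U, hUc, hU, hxU⟩ => ?_⟩)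
    have hUo : IsTorusOrder m (Nat.card U) := Or.inl hU
    have hD := natCard_normalizer_inf_borel H hm hF he hx4 hx1 hxb hUc hUo hxU
    rw [(natCard_normalizer_torus H hm hF he hUc hUo).1 hU] at hD
    have h2 := Nat.eq_of_mul_eq_mul_right Nat.card_pos hD
    have hsq := pow_card_eq_one' (x := (⟨x, hxU, su_mem_borel H a b⟩ :
      (Subgroup.normalizer (U : Set (Sz F e)) ⊓ borel H : Subgroup (Sz F e))))
    rw [h2] at hsq
    exact hxx (by rw [← sq]; exact congrArg Subtype.val hsq)
  have hko : IsTorusOrder m k := Or.inr hk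
  have hkq : k ≠ 2 ^ (2 * m + 1) - 1 := by
    have h1 := pow_succ_le m
    have h2 : 2 ^ (m + 1) < 2 ^ (2 * m + 1) := Nat.pow_lt_pow_right one_lt_two (by omega)
    have h4 : 2 ^ 2 ≤ 2 ^ (m + 1) := Nat.pow_le_pow_right two_pos (by omega)
    rcases hk with rfl | rfl <;> simp only [kp, km] <;> omega
  obtain ⟨U, hUc, hU⟩ := exists_torus_order H hm hF he hko
  have hUo : IsTorusOrder m (Nat.card U) := hU.symm ▸ hko
  set N := Subgroup.normalizer (U : Set (Sz F e)) with hN
  have hNcard : Nat.card N = 4 * k := by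
    rw [(natCard_normalizer_torus H hm hF he hUc hUo).2 (hU.symm ▸ hkq), hU]
  -- count the elements of order four in the normaliser
  obtain ⟨i, hi⟩ := exists_prime_orderOf_dvd_card' (G := N) 2 (by rw [hNcard]; exact ⟨2 * k, by ring⟩)
  have hii : (i : Sz F e) * i = 1 := by
    rw [← sq, ← Subgroup.coe_pow, ← hi, pow_orderOf_eq_one, Subgroup.coe_one]
  have hi1 : (i : Sz F e) ≠ 1 := fun h => by
    rw [show i = 1 from Subtype.ext h, orderOf_one] at hi
    exact absurd hi (by norm_num)
  have hinv := natCard_involutions_normalizer H hm hF he hUc hUo i.2 hii hi1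
  letI : Fintype (Sz F e) := Fintype.ofFinite _
  set sA := (Finset.univ.filter fun w : Sz F e => w ∈ N) with hsA
  set sU := (Finset.univ.filter fun w : Sz F e => w ∈ U) with hsU
  set sI := (Finset.univ.filter fun w : Sz F e => w ∈ N ∧ w * w = 1 ∧ w ≠ 1) with hsI
  set s4 := (Finset.univ.filter fun w : Sz F e => w ∈ N ∧ w ^ 4 = 1 ∧ w * w ≠ 1) with hs4
  have hsplit : sA = sU ∪ sI ∪ s4 := by
    ext w
    simp only [hsA, hsU, hsI, hs4, Finset.mem_filter, Finset.mem_univ, true_and, Finset.mem_union]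
    refine ⟨fun hw => ?_, ?_⟩
    · rcases odd_or_pow_four H w with ho | h4
      · exact Or.inl (Or.inl (mem_torus_of_odd H hm hF he hUc hUo hw ho))
      · by_cases hw1 : w = 1
        · exact Or.inl (Or.inl (hw1 ▸ U.one_mem))
        by_cases hww : w * w = 1
        · exact Or.inl (Or.inr ⟨hw, hww, hw1⟩)
        · exact Or.inr ⟨hw, h4, hww⟩
    · rintro ((h | h) | h)
      · exact Subgroup.le_normalizer h
      · exact h.1
      · exact h.1
  have hdisU : ∀ w ∈ U, w ^ 4 = 1 → w = 1 := fun w hw h4 => by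
    by_contra hw1
    exact (torus_eq_centralizer H hm hF he hUc hUo hw hw1).1 h4
  have hd1 : Disjoint sU sI := Finset.disjoint_left.2 fun w hw hw' => by
    simp only [hsU, hsI, Finset.mem_filter, Finset.mem_univ, true_and] at hw hw'
    exact hw'.2.2 (hdisU w hw (by simp only [pow_succ, pow_zero, one_mul, hw'.2.1]))
  have hd2 : Disjoint (sU ∪ sI) s4 := Finset.disjoint_left.2 fun w hw hw' => by
    simp only [hsU, hsI, hs4, Finset.mem_filter, Finset.mem_univ, true_and, Finset.mem_union] at hw hw'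
    rcases hw with h | h
    · exact hw'.2.2 (by rw [hdisU w h hw'.2.1, mul_one])
    · exact hw'.2.2 h.2.1
  have hc4 : Nat.card {w : Sz F e // w ∈ N ∧ w ^ 4 = 1 ∧ w * w ≠ 1} = 2 * k := by
    have h := congrArg Finset.card hsplit
    rw [Finset.card_union_of_disjoint hd2, Finset.card_union_of_disjoint hd1] at h
    have e1 : sA.card = Nat.card N := by rw [Nat.card_eq_fintype_card, Fintype.card_subtype]
    have e2 : sU.card = Nat.card U := by rw [Nat.card_eq_fintype_card, Fintype.card_subtype]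
    have e3 : sI.card = Nat.card U := by
      rw [← hinv, Nat.card_eq_fintype_card, Fintype.card_subtype]
    have e4 : s4.card = Nat.card {w : Sz F e // w ∈ N ∧ w ^ 4 = 1 ∧ w * w ≠ 1} := by
      rw [Nat.card_eq_fintype_card, Fintype.card_subtype]
    rw [e1, e2, e3, e4, hNcard, hU] at h
    omega
  -- half of them are conjugate to `x`
  have hnot : ∀ g g' : Sz F e, g⁻¹ * x * g = (g'⁻¹ * x * g')⁻¹ → False := by
    intro g g' h
    refine not_conj_inv H hF ha (g' * g⁻¹) (b := b) ?_
    have h2 := congrArg (fun t => g' * t * g'⁻¹) h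
    simpa [hx, mul_assoc] using h2
  have hall : ∀ w : Sz F e, w ^ 4 = 1 → w * w ≠ 1 →
      ∃ g : Sz F e, g⁻¹ * x * g = w ∨ g⁻¹ * x * g = w⁻¹ := by
    intro w hw4 hww
    obtain ⟨l, c, d, hl⟩ := exists_conj_su H hF hw4
    have hc : c ≠ 0 := by
      rintro rfl
      apply hww
      have h2 : (l⁻¹ * w * l) * (l⁻¹ * w * l) = 1 := by
        rw [hl, su_mul]
        simp [zero_pow H.e_ne, H.add_self, su_zero]
      have := congrArg (fun t => l * t * l⁻¹) h2
      simpa [mul_assoc] using this
    obtain ⟨g, hg | hg⟩ := conj_or_conj_inv H hF (b := b) (d := d) ha hc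
    · refine ⟨g * l⁻¹, Or.inl ?_⟩
      rw [hx, show (g * l⁻¹)⁻¹ * su H a b * (g * l⁻¹) = l * (g⁻¹ * su H a b * g) * l⁻¹ by group, hg, ← hl]
      group
    · refine ⟨g * l⁻¹, Or.inr ?_⟩
      rw [hx, show (g * l⁻¹)⁻¹ * su H a b * (g * l⁻¹) = l * (g⁻¹ * su H a b * g) * l⁻¹ by group, hg, ← hl]
      group
  set Cx := {w : Sz F e // w ∈ N ∧ ∃ g : Sz F e, g⁻¹ * x * g = w} with hCx
  have hconjprop : ∀ g : Sz F e, (g⁻¹ * x * g) ^ 4 = 1 ∧ g⁻¹ * x * g * (g⁻¹ * x * g) ≠ 1 := by
    intro g
    refine ⟨?_, fun h => hxx ?_⟩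
    · rw [show g⁻¹ * x * g = g⁻¹ * x * g⁻¹⁻¹ by rw [inv_inv], conj_pow, hx4]; simp
    · have := congrArg (fun t => g * t * g⁻¹) h
      simpa [mul_assoc] using this
  have hhalf : Nat.card (Cx ⊕ Cx) = Nat.card {w : Sz F e // w ∈ N ∧ w ^ 4 = 1 ∧ w * w ≠ 1} := by
    refine Nat.card_eq_of_bijective (fun z => Sum.elim
      (fun w : Cx => (⟨w.1, w.2.1, by obtain ⟨g, hg⟩ := w.2.2; exact hg ▸ hconjprop g⟩ :
        {w : Sz F e // w ∈ N ∧ w ^ 4 = 1 ∧ w * w ≠ 1}))
      (fun w : Cx => ⟨w.1⁻¹, N.inv_mem w.2.1, by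
        obtain ⟨g, hg⟩ := w.2.2
        obtain ⟨h1, h2⟩ := hg ▸ hconjprop g
        refine ⟨by rw [inv_pow, h1, inv_one], fun h => h2 ?_⟩
        rw [← _root_.mul_inv_rev, inv_eq_one] at h
        exact h⟩) z) ⟨?_, ?_⟩
    · intro z z' h
      rcases z with w | w <;> rcases z' with w' | w' <;>
        simp only [Sum.elim_inl, Sum.elim_inr, Subtype.mk.injEq] at h
      · exact congrArg Sum.inl (Subtype.ext h)
      · obtain ⟨g, hg⟩ := w.2.2
        obtain ⟨g', hg'⟩ := w'.2.2
        exact (hnot g g' (by rw [hg, hg', h])).elim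
      · obtain ⟨g, hg⟩ := w.2.2
        obtain ⟨g', hg'⟩ := w'.2.2
        exact (hnot g' g (by rw [hg, hg', h])).elim
      · exact congrArg Sum.inr (Subtype.ext (inv_injective h))
    · rintro ⟨w, hwN, hw4, hww⟩
      obtain ⟨g, hg | hg⟩ := hall w hw4 hww
      · exact ⟨Sum.inl ⟨w, hwN, g, hg⟩, rfl⟩
      · exact ⟨Sum.inr ⟨w⁻¹, N.inv_mem hwN, g, hg⟩, Subtype.ext (inv_inv w)⟩
  rw [Nat.card_sum, hc4] at hhalf
  have h := natCard_toriAt H hm hF he hko hUc hU x
  rw [natCard_conjugators_mul H hF N, centralizer_su H hF ha, hNcard] at h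
  have hCk : Nat.card Cx = k := by omega
  rw [hCx] at hCk
  rw [hCk] at h
  refine Nat.eq_of_mul_eq_mul_right (show 0 < 2 * k by
    have : 0 < k := hU ▸ Nat.card_pos
    omega) ?_
  linarith

/-- The five counts. -/
theorem natCard_solSet (hp : (2 * m + 1).Prime) (x : Sz F e) :
    (orderOf x = 2 → Nat.card (solSet x) = (2 ^ (2 * m + 1)) ^ 2 * (4 * 2 ^ (2 * m + 1) - 3)) ∧
    (orderOf x = 4 → Nat.card (solSet x) = (2 ^ (2 * m + 1)) ^ 2 * (2 ^ (2 * m + 1) + 3)) ∧
    (x ≠ 1 → orderOf x ∣ 2 ^ (2 * m + 1) - 1 →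
      Nat.card (solSet x) = 2 * (2 ^ (2 * m + 1)) ^ 2 * (2 ^ (2 * m + 1) - 1)) ∧
    (x ≠ 1 → orderOf x ∣ kp m → Nat.card (solSet x) = 4 * kp m) ∧
    (x ≠ 1 → orderOf x ∣ km m → Nat.card (solSet x) = 4 * km m) := by
  classical
  set q := 2 ^ (2 * m + 1) with hq
  have hle := pow_succ_le m
  have hlt : 2 ^ (m + 1) < q := Nat.pow_lt_pow_right one_lt_two (by omega)
  have hr4 : 2 ^ 2 ≤ 2 ^ (m + 1) := Nat.pow_le_pow_right two_pos (by omega)
  have o1 : IsTorusOrder m (q - 1) := Or.inl rfl
  have o2 : IsTorusOrder m (kp m) := Or.inr (Or.inl rfl)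
  have o3 : IsTorusOrder m (km m) := Or.inr (Or.inr rfl)
  have n2 : kp m ≠ q - 1 := by simp only [kp, ← hq]; omega
  have n3 : km m ≠ q - 1 := by simp only [km, ← hq]; omega
  have hsum : kp m - 1 + (km m - 1) = 2 * q := by simp only [kp, km, ← hq]; omega
  refine ⟨?_, ?_, ?_, ?_, ?_⟩
  · intro hx
    have hxx : x * x = 1 := by rw [← sq]; exact orderOf_dvd_iff_pow_eq_one.1 hx.dvd
    obtain ⟨l, hl⟩ := exists_conj_involution H hF hxx (fun h => by simp [h] at hx)
    rw [← hl, show l⁻¹ * sz H (1 : F) * l = l⁻¹ * sz H 1 * l⁻¹⁻¹ by rw [inv_inv], natCard_solSet_conj H]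
    have h1 : sz H (1 : F) ≠ 1 := fun h => one_ne_zero (su_inj H (h.trans (su_zero H).symm)).2
    have h4 : sz H (1 : F) ^ 4 = 1 := pow_four_uni H ⟨0, 1, rfl⟩
    have hb : Moves H (sz H (1 : F)) none none := borel_moves H (su_mem_borel H 0 1)
    have t1 := toriAt_sz H hm hF he o1
    have t2 := toriAt_sz H hm hF he o2
    have t3 := toriAt_sz H hm hF he o3
    rw [natCard_solSet_two H hm hF he hp h4 h1 hb, natCard_pairs H hm hF he o1 h4 h1 hb,
      natCard_pairs H hm hF he o2 h4 h1 hb, natCard_pairs H hm hF he o3 h4 h1 hb]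
    simp only [← hq, if_pos, if_neg n2, if_neg n3] at t1 t2 t3 ⊢
    calc q ^ 2 * (q - 1) + (Nat.card (toriAt (q - 1) (sz H (1 : F))) * (2 * (q - 1 - 1)) +
          Nat.card (toriAt (kp m) (sz H (1 : F))) * (4 * (kp m - 1)) +
          Nat.card (toriAt (km m) (sz H (1 : F))) * (4 * (km m - 1)))
        = q ^ 2 * ((q - 1) + (q - 1 - 1) + (kp m - 1 + (km m - 1))) := by
          rw [← mul_assoc, ← mul_assoc, ← mul_assoc, t1, t2, t3]; ring
      _ = _ := by rw [hsum]; congr 1; omega
  · intro hx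
    have hx4 : x ^ 4 = 1 := orderOf_dvd_iff_pow_eq_one.1 hx.dvd
    obtain ⟨l, a, b, hl⟩ := exists_conj_su H hF hx4
    have ha : a ≠ 0 := by
      rintro rfl
      have h2 : (l⁻¹ * x * l) * (l⁻¹ * x * l) = 1 := by
        rw [hl, su_mul]
        simp [zero_pow H.e_ne, H.add_self, su_zero]
      have hxx : x ^ 2 = 1 := by
        rw [sq]
        have := congrArg (fun t => l * t * l⁻¹) h2
        simpa [mul_assoc] using this
      have := orderOf_le_of_pow_eq_one two_pos hxx
      omega
    have hxl : x = l * su H a b * l⁻¹ := by rw [← hl]; group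
    rw [hxl, natCard_solSet_conj H]
    have h1 : su H a b ≠ 1 := fun h => ha (su_inj H (h.trans (su_zero H).symm)).1
    have h4 : su H a b ^ 4 = 1 := pow_four_uni H ⟨a, b, rfl⟩
    have hb : Moves H (su H a b) none none := borel_moves H (su_mem_borel H a b)
    obtain ⟨t1, t23⟩ := toriAt_su H hm hF he (b := b) ha
    have t2 := t23 _ (Or.inl rfl)
    have t3 := t23 _ (Or.inr rfl)
    rw [natCard_solSet_two H hm hF he hp h4 h1 hb, natCard_pairs H hm hF he o1 h4 h1 hb,
      natCard_pairs H hm hF he o2 h4 h1 hb, natCard_pairs H hm hF he o3 h4 h1 hb]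
    simp only [← hq] at t1 t2 t3 ⊢
    rw [if_neg n2, if_neg n3, t1, zero_mul, zero_add,
      show (4 : ℕ) * (kp m - 1) = 2 * (2 * (kp m - 1)) by ring,
      show (4 : ℕ) * (km m - 1) = 2 * (2 * (km m - 1)) by ring, ← mul_assoc, ← mul_assoc (Nat.card _) 2,
      t2, t3, ← mul_add, ← mul_add, hsum]
    obtain ⟨d, hd⟩ : ∃ d, q = d + 1 := ⟨q - 1, by omega⟩
    rw [hd, Nat.add_sub_cancel]
    ring
  · intro hx1 hxo
    have hqodd : Odd (q - 1) := Nat.Even.sub_odd (by omega) (hq ▸ Nat.even_pow.2 ⟨even_two, by omega⟩) odd_one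
    have hodd : Odd (orderOf x) := hqodd.of_dvd_nat hxo
    have hx4 : x ^ 4 ≠ 1 := fun h => hx1 (orderOf_eq_one_iff.1 (Nat.eq_one_of_dvd_coprimes
      (Nat.Coprime.pow_right 2 (Nat.coprime_two_right.2 hodd)) dvd_rfl (orderOf_dvd_of_pow_eq_one h)))
    have hf : ¬ Fpf H x := by
      intro hf
      have h1 := orderOf_dvd_of_pow_eq_one (n := orderOf x) (pow_orderOf_eq_one x)
      have h2 : orderOf x ∣ (2 ^ (2 * m + 1)) ^ 2 + 1 := by
        rw [← kp_mul_km m]
        rcases orderOf_fpf H hm hF he hf with h | h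
        · exact h.mul_right _
        · exact h.mul_left _
      have hco : Nat.Coprime (q - 1) (q ^ 2 + 1) := by
        rw [Nat.coprime_iff_gcd_eq_one]
        have h1 : (q - 1).gcd (q ^ 2 + 1) ∣ 2 := by
          have h3 : q - 1 ∣ q ^ 2 - 1 := by simpa using Nat.sub_dvd_pow_sub_pow q 1 2
          have h4 := Nat.dvd_sub (Nat.gcd_dvd_right (q - 1) (q ^ 2 + 1))
            ((Nat.gcd_dvd_left (q - 1) (q ^ 2 + 1)).trans h3)
          rwa [show q ^ 2 + 1 - (q ^ 2 - 1) = 2 by
            have : 1 ≤ q ^ 2 := Nat.one_le_pow _ _ (by positivity)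
            omega] at h4
        rcases (Nat.dvd_prime Nat.prime_two).1 h1 with h | h
        · exact h
        · exact absurd (h ▸ Nat.gcd_dvd_left (q - 1) (q ^ 2 + 1)) hqodd.not_two_dvd_nat
      exact hx1 (orderOf_eq_one_iff.1 (Nat.eq_one_of_dvd_coprimes hco hxo h2))
    unfold Fpf at hf
    push Not at hf
    obtain ⟨p, hp'⟩ := hf
    obtain ⟨r, hr, hne⟩ : ∃ r, Moves H x r r ∧ r ≠ p := by
      by_contra hcc
      push Not at hcc
      exact hx4 (pow_four_of_unique H hp' hcc)
    obtain ⟨k, hk1, hk2⟩ := exists_moves_pair H (Ne.symm hne)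
    obtain ⟨t, ht⟩ := exists_sh_of_moves H (Moves.conj H hk1 hp') (Moves.conj H hk2 hr)
    have ht1 : t ≠ 1 := by
      rintro rfl
      rw [sh_one] at ht
      apply hx1
      have := congrArg (fun x => k * x * k⁻¹) ht
      simpa [mul_assoc] using this
    rw [show x = k * sh H t * k⁻¹ by rw [← ht]; group, natCard_solSet_conj H]
    have hto : orderOf (sh H t) = orderOf x := by
      rw [← ht]
      exact MulEquiv.orderOf_eq (MulAut.conj k⁻¹) x |> fun h => by simpa using h
    have hw' : Moves H (sw H) (some (0, 0)) none := by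
      have := Moves.symm H (sw_moves_none H)
      rwa [inv_eq_of_mul_eq_one_right (sw_sq H)] at this
    have hfix : ∀ p, Moves H (sh H t) p p → p = none ∨ p = some (0, 0) := by
      intro p hp
      by_contra hne'
      push Not at hne'
      exact ht1 (sh_inj H ((eq_one_of_three H (p := none) (q := some (0, 0)) (r := p) (by simp)
        hne'.2.symm hne'.1.symm (toSL_sh_none H t) (sh_moves_zero H t) hp).trans (sh_one H).symm))
    -- the partners: two Borel subgroups and the torus normaliser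
    have hset : ∀ y, y ∈ solSet (sh H t) ↔ y ∈ borel H ∨ sw H * y * sw H ∈ borel H ∨ sw H * y ∈ tor H := by
      intro y
      rw [mem_solSet_iff H hm hF he hp]
      constructor
      · rintro (⟨p, hxp, hyp⟩ | ⟨U, hUc, hU, hxU, hyU⟩)
        · rcases hfix p hxp with rfl | rfl
          · exact Or.inl (mem_borel_of_moves H hyp)
          · exact Or.inr (Or.inl (mem_borel_of_moves H
              (Moves.trans H (sw_moves_none H) (Moves.trans H hyp hw'))))
        · have hUt : U = tor H := by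
            have hmem := mem_torus_of_odd H hm hF he hUc hU hxU (hto.symm ▸ hodd)
            have hsh1 : sh H t ≠ 1 := fun h => ht1 (sh_inj H (h.trans (sh_one H).symm))
            rw [← (torus_eq_centralizer H hm hF he hUc hU hmem hsh1).2, centralizer_sh H ht1]
          rw [hUt] at hyU
          rcases mem_normalizer_tor_cases H ht1 hyU with h | h
          · obtain ⟨s, rfl⟩ := h
            exact Or.inl (sh_mem_borel H s)
          · exact Or.inr (Or.inr h)
      · rintro (h | h | h)
        · exact Or.inl ⟨none, toSL_sh_none H t, borel_moves H h⟩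
        · refine Or.inl ⟨some (0, 0), sh_moves_zero H t, ?_⟩
          have h2 := Moves.trans H hw' (Moves.trans H (borel_moves H h) (sw_moves_none H))
          rwa [show sw H * (sw H * y * sw H) * sw H = sw H * sw H * y * (sw H * sw H) by group, sw_sq,
            one_mul, mul_one] at h2
        · refine Or.inr ⟨tor H, ?_, ?_, ?_, ?_⟩
          · have ht4 : sh H t ^ 4 ≠ 1 := fun h4 => hx4 (by
              rw [show x = k * sh H t * k⁻¹ by rw [← ht]; group, conj_pow, h4, mul_one, mul_inv_cancel])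
            rw [← centralizer_sh H ht1]
            exact isCyclic_centralizer H ht4
          · left
            rw [natCard_tor H, Nat.card_eq_fintype_card, hF]
          · exact Subgroup.le_normalizer ⟨t, rfl⟩
          · have hwN : sw H ∈ Subgroup.normalizer (tor H : Set (Sz F e)) := by
              have key' : ∀ y ∈ tor H, sw H * y * (sw H)⁻¹ ∈ tor H := by
                rintro _ ⟨s, rfl⟩
                refine ⟨s⁻¹, ?_⟩
                rw [mul_inv_eq_iff_eq_mul, sw_conj, inv_inv]
              refine Subgroup.mem_normalizer_iff.2 fun z => ⟨key' z, fun h => ?_⟩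
              have h' := key' _ h
              rwa [show sw H * (sw H * z * (sw H)⁻¹) * (sw H)⁻¹ = sw H * sw H * z * (sw H * sw H)⁻¹ by group,
                sw_sq, inv_one, one_mul, mul_one] at h'
            have := Subgroup.mul_mem _ hwN (Subgroup.le_normalizer h)
            rwa [← mul_assoc, sw_sq, one_mul] at this
    letI : Fintype (Sz F e) := Fintype.ofFinite _
    set s0 := (Finset.univ.filter fun y : Sz F e => y ∈ borel H) with hs0
    set s1 := (Finset.univ.filter fun y : Sz F e => sw H * y * sw H ∈ borel H) with hs1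
    set s2 := (Finset.univ.filter fun y : Sz F e => sw H * y ∈ tor H) with hs2
    have hcard : Nat.card (solSet (sh H t)) = ((s0 ∪ s1) ∪ s2).card := by
      rw [Nat.card_eq_fintype_card, ← Set.toFinset_card]
      congr 1
      ext y
      simp [hset, hs0, hs1, hs2, or_assoc]
    have hdis : Disjoint (s0 ∪ s1) s2 := Finset.disjoint_left.2 fun y hy hy2 => by
      simp only [hs0, hs1, hs2, Finset.mem_filter, Finset.mem_univ, true_and, Finset.mem_union] at hy hy2
      obtain ⟨s, hs⟩ := hy2
      apply sw_notMem_borel H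
      rcases hy with h | h
      · have : sw H = sh H s * y⁻¹ := by rw [← hs]; group
        rw [this]
        exact (borel H).mul_mem (sh_mem_borel H s) ((borel H).inv_mem h)
      · have : sw H = (sh H s)⁻¹ * (sw H * y * sw H) := by rw [← hs]; group
        rw [this]
        exact (borel H).mul_mem ((borel H).inv_mem (sh_mem_borel H s)) h
    have hint : s0 ∩ s1 = Finset.univ.filter fun y : Sz F e => y ∈ tor H := by
      ext y
      simp only [hs0, hs1, Finset.mem_inter, Finset.mem_filter, Finset.mem_univ, true_and]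
      constructor
      · rintro ⟨h1, h2⟩
        have h3 := Moves.trans H hw' (Moves.trans H (borel_moves H h2) (sw_moves_none H))
        rw [show sw H * (sw H * y * sw H) * sw H = sw H * sw H * y * (sw H * sw H) by group, sw_sq,
          one_mul, mul_one] at h3
        exact exists_sh_of_moves H (borel_moves H h1) h3
      · rintro ⟨s, rfl⟩
        refine ⟨sh_mem_borel H s, ?_⟩
        rw [show sw H * sh H s = sh H s⁻¹ * sw H by rw [sw_conj, inv_inv], mul_assoc, sw_sq, mul_one]
        exact sh_mem_borel H _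
    have c0 : s0.card = Nat.card (borel H) := by rw [Nat.card_eq_fintype_card, Fintype.card_subtype]
    have c1 : s1.card = Nat.card (borel H) := by
      rw [Nat.card_eq_fintype_card, Fintype.card_subtype]
      refine Finset.card_nbij' (fun y => sw H * y * sw H) (fun y => sw H * y * sw H) ?_ ?_ ?_ ?_
      · intro y hy
        simpa [hs1] using hy
      · intro y hy
        simp only [Finset.coe_filter, Finset.mem_univ, true_and, Set.mem_setOf_eq, hs1] at hy ⊢
        rwa [show sw H * (sw H * y * sw H) * sw H = sw H * sw H * y * (sw H * sw H) by group, sw_sq,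
          one_mul, mul_one]
      · intro y _
        show sw H * (sw H * y * sw H) * sw H = y
        rw [show sw H * (sw H * y * sw H) * sw H = sw H * sw H * y * (sw H * sw H) by group, sw_sq,
          one_mul, mul_one]
      · intro y _
        show sw H * (sw H * y * sw H) * sw H = y
        rw [show sw H * (sw H * y * sw H) * sw H = sw H * sw H * y * (sw H * sw H) by group, sw_sq,
          one_mul, mul_one]
    have c2 : s2.card = Nat.card (tor H) := by
      rw [Nat.card_eq_fintype_card, Fintype.card_subtype]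
      refine Finset.card_nbij' (fun y => sw H * y) (fun y => sw H * y) ?_ ?_ ?_ ?_
      · intro y hy
        simpa [hs2] using hy
      · intro y hy
        simp only [Finset.coe_filter, Finset.mem_univ, true_and, Set.mem_setOf_eq, hs2] at hy ⊢
        rwa [← mul_assoc, sw_sq, one_mul]
      · intro y _
        show sw H * (sw H * y) = y
        rw [← mul_assoc, sw_sq, one_mul]
      · intro y _
        show sw H * (sw H * y) = y
        rw [← mul_assoc, sw_sq, one_mul]
    have cU := Finset.card_union_add_card_inter s0 s1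
    have ct : (Finset.univ.filter fun y : Sz F e => y ∈ tor H).card = Nat.card (tor H) := by
      rw [Nat.card_eq_fintype_card, Fintype.card_subtype]
    rw [hint, ct, c0, c1, natCard_borel H, Nat.card_eq_fintype_card (α := F), hF] at cU
    rw [hcard, Finset.card_union_of_disjoint hdis, c2]
    rw [mul_assoc]
    omega
  all_goals
    intro hx1 hxo
    have hdvd : orderOf x ∣ q ^ 2 + 1 := by
      rw [hq, ← kp_mul_km m]
      first
        | exact hxo.mul_right _
        | exact hxo.mul_left _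
    have hqe : Even q := hq ▸ Nat.even_pow.2 ⟨even_two, by omega⟩
    have hodd : Odd (orderOf x) := ((hqe.pow_of_ne_zero two_ne_zero).add_one).of_dvd_nat hdvd
    have hco : Nat.Coprime (orderOf x) (q - 1) := by
      refine Nat.Coprime.coprime_dvd_left hdvd ?_
      rw [Nat.coprime_iff_gcd_eq_one]
      have h1 : (q ^ 2 + 1).gcd (q - 1) ∣ 2 := by
        have h3 : q - 1 ∣ q ^ 2 - 1 := by simpa using Nat.sub_dvd_pow_sub_pow q 1 2
        have h4 := Nat.dvd_sub (Nat.gcd_dvd_left (q ^ 2 + 1) (q - 1))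
          ((Nat.gcd_dvd_right (q ^ 2 + 1) (q - 1)).trans h3)
        rwa [show q ^ 2 + 1 - (q ^ 2 - 1) = 2 by
          have : 1 ≤ q ^ 2 := Nat.one_le_pow _ _ (by positivity)
          omega] at h4
      rcases (Nat.dvd_prime Nat.prime_two).1 h1 with h | h
      · exact h
      · exact absurd (h ▸ Nat.gcd_dvd_right (q ^ 2 + 1) (q - 1))
          (Nat.Even.sub_odd (by omega) hqe odd_one).not_two_dvd_nat
    have hxf := fpf_of_coprime H hm hF hx1 hodd hco
    have hx4 := fpf_pow_four H hF hxf
    set C := Subgroup.centralizer ({x} : Set (Sz F e))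
    have hCo : IsTorusOrder m (Nat.card C) := natCard_centralizer_cases H hm hF he hx4
    have hCc := isCyclic_centralizer H hx4
    have hxC : x ∈ C := Subgroup.mem_centralizer_singleton_iff.2 rfl
    have hsol : solSet x = (Subgroup.normalizer (C : Set (Sz F e)) : Set (Sz F e)) := by
      ext y
      rw [mem_solSet_iff H hm hF he hp]
      constructor
      · rintro (⟨p, hxp, -⟩ | ⟨U, hUc, hU, hxU, hyU⟩)
        · exact absurd hxp (hxf p)
        · have hmem := mem_torus_of_odd H hm hF he hUc hU hxU hodd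
          rw [← (torus_eq_centralizer H hm hF he hUc hU hmem hx1).2] at hyU
          exact hyU
      · intro hy
        exact Or.inr ⟨C, hCc, hCo, Subgroup.le_normalizer hxC, hy⟩
    rw [hsol, SetLike.coe_sort_coe, natCard_normalizer H hm hF he hxf]
    congr 1
    have hdC : orderOf x ∣ Nat.card C := Subgroup.orderOf_dvd_natCard C hxC
    rcases natCard_centralizer_eq H hm hF he hxf with h | h <;> first
      | exact h
      | (exfalso
         apply hx1
         rw [← orderOf_eq_one_iff]
         rw [h] at hdC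
         first
           | exact Nat.eq_one_of_dvd_coprimes (kp_coprime_km m) hxo hdC
           | exact Nat.eq_one_of_dvd_coprimes (kp_coprime_km m) hdC hxo)

end CfsgLib.KnownA.Suzuki
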