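import Cfsg.Agent.Lib.KnownA.Suzuki.NormTorus
import Cfsg.Agent.Lib.Chars.PermChar
import Cfsg.Agent.Lib.CharApps.Basic

/-!
# The Steinberg character of a Suzuki group
-/

set_option autoImplicit false
set_option linter.unusedSectionVars false

namespace CfsgLib.KnownA.Suzuki

open MulAction Cfsg.Lie CfsgLib

variable {F : Type*} [Field F] [Fintype F] {e m : ℕ} (H : TitsField F e)

include H

/-- Fixed cosets of the point stabiliser are fixed points. -/
theorem natCard_fixedBy_borel (x : Sz F e) :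
    Nat.card (MulAction.fixedBy (Sz F e ⧸ borel H) x) = Nat.card {p // Moves H x p p} := by
  have hfix : ∀ p, (QuotientGroup.mk (rep H p) : Sz F e ⧸ borel H) ∈ MulAction.fixedBy (Sz F e ⧸ borel H) x ↔
      Moves H x p p := by
    intro p
    rw [MulAction.mem_fixedBy, MulAction.Quotient.smul_mk, mk_eq_iff]
    constructor
    · rintro ⟨q, h1, h2⟩
      obtain rfl := Moves.unique H (toSL_rep H p) h2
      simpa using Moves.trans H (Moves.symm H h2) h1
    · exact fun h => ⟨p, Moves.trans H (toSL_rep H p) h, toSL_rep H p⟩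
  refine (Nat.card_eq_of_bijective
    (fun p : {p // Moves H x p p} => (⟨_, (hfix p.1).2 p.2⟩ : MulAction.fixedBy (Sz F e ⧸ borel H) x))
    ⟨fun p q h => ?_, fun c => ?_⟩).symm
  · obtain ⟨r, h1, h2⟩ := (mk_eq_iff H).1 (congrArg Subtype.val h)
    exact Subtype.ext ((Moves.unique H (toSL_rep H p.1) h1).trans
      (Moves.unique H (toSL_rep H q.1) h2).symm)
  · obtain ⟨c, hc⟩ := c
    induction c using QuotientGroup.induction_on with | H g => ?_
    obtain ⟨p, hp⟩ := exists_moves H g none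
    have he : (QuotientGroup.mk (rep H p) : Sz F e ⧸ borel H) = QuotientGroup.mk g :=
      (mk_eq_iff H).2 ⟨p, toSL_rep H p, hp⟩
    exact ⟨⟨p, (hfix p).1 (he ▸ hc)⟩, Subtype.ext he⟩

theorem sh_fixed {t : Fˣ} (ht : t ≠ 1) (p : Option (F × F)) :
    Moves H (sh H t) p p ↔ p = none ∨ p = some (0, 0) := by
  have h0 : Moves H (sh H t) (some ((0 : F), (0 : F))) (some ((0 : F), (0 : F))) := by
    have := toSL_sh_some H t 0 0
    simpa [Moves] using this
  refine ⟨fun hp => ?_, ?_⟩
  · by_contra hne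
    push Not at hne
    exact ht (sh_inj H ((eq_one_of_three H (p := none) (q := some (0, 0)) (r := p) (by simp)
      hne.2.symm hne.1.symm (toSL_sh_none H t) h0 hp).trans (sh_one H).symm))
  · rintro (rfl | rfl)
    exacts [toSL_sh_none H t, h0]

theorem index_borel : Nat.card (Sz F e ⧸ borel H) = Fintype.card F ^ 2 + 1 := by
  have h := Subgroup.card_eq_card_quotient_mul_card_subgroup (borel H)
  rw [natCard_Sz H, natCard_borel H, Nat.card_eq_fintype_card (α := F)] at h
  exact (Nat.eq_of_mul_eq_mul_right (by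
    have : 1 < Fintype.card F := Fintype.one_lt_card
    exact Nat.mul_pos (pow_pos (by omega) _) (by omega)) h).symm

/-- The Steinberg character. -/
theorem exists_steinberg (hF : Fintype.card F = 2 ^ (2 * m + 1)) :
    ∃ St : Cfsg.IrrCharacter (Sz F e),
      Cfsg.charDegree (St : Sz F e → ℂ) = Fintype.card F ^ 2 ∧
      (∀ t : Fˣ, t ≠ 1 → (St : Sz F e → ℂ) (sh H t) = 1) ∧
      (∀ g, Fpf H g → (St : Sz F e → ℂ) g = -1) ∧
      (∀ g, g ^ 4 = 1 → g ≠ 1 → (St : Sz F e → ℂ) g = 0) := by
  classical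
  haveI := Fintype.ofFinite (Sz F e)
  haveI : MulAction.IsPretransitive (Sz F e) (Sz F e ⧸ borel H) := inferInstance
  have h2 : 2 ≤ Nat.card (Sz F e ⧸ borel H) := by
    rw [index_borel H]
    have : 0 < Fintype.card F ^ 2 := pow_pos Fintype.card_pos _
    omega
  have hirr := (Chars.isIrr_fixedBy_sub_one_iff h2).2 (two_pretransitive H)
  refine ⟨⟨_, hirr⟩, ?_, fun t ht => ?_, fun g hg => ?_, fun g hg hg1 => ?_⟩
  · have h := CharApps.deg_eq (⟨_, hirr⟩ : Cfsg.IrrCharacter (Sz F e))
    simp only [MulAction.fixedBy_one_eq_univ, Nat.card_coe_set_eq, Set.ncard_univ, index_borel H] at h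
    push_cast at h
    rw [add_sub_cancel_right] at h
    exact_mod_cast h.symm
  · show (Nat.card (MulAction.fixedBy (Sz F e ⧸ borel H) (sh H t)) : ℂ) - 1 = 1
    rw [natCard_fixedBy_borel H, show Nat.card {p // Moves H (sh H t) p p} = 2 by
      rw [Nat.card_congr (Equiv.subtypeEquivRight (q := fun p => p ∈ ({none, some (0, 0)} : Set (Option (F × F))))
        fun p => sh_fixed H ht p)]
      exact (Nat.card_coe_set_eq _).trans (Set.ncard_pair (by simp))]
    norm_num
  · show (Nat.card (MulAction.fixedBy (Sz F e ⧸ borel H) g) : ℂ) - 1 = -1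
    haveI : IsEmpty {p // Moves H g p p} := ⟨fun p => hg p.1 p.2⟩
    rw [natCard_fixedBy_borel H, Nat.card_of_isEmpty]
    norm_num
  · show (Nat.card (MulAction.fixedBy (Sz F e ⧸ borel H) g) : ℂ) - 1 = 0
    obtain ⟨p, hp, hu⟩ := exists_unique_fixed H hF hg hg1
    haveI : Unique {p // Moves H g p p} := ⟨⟨⟨p, hp⟩⟩, fun q => Subtype.ext (hu q.1 q.2)⟩
    rw [natCard_fixedBy_borel H, Nat.card_unique]
    norm_num

end CfsgLib.KnownA.Suzuki
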