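import Cfsg.Agent.Lib.KnownA.Suzuki.Real
import Cfsg.Agent.Lib.KnownA.Suzuki.Out
import Mathlib.GroupTheory.SpecificGroups.ZGroup

/-!
Subgroups of odd order of a Suzuki group are cyclic.
-/

set_option autoImplicit false

namespace CfsgLib.KnownA.Suzuki

open Matrix Cfsg.Lie
open scoped commutatorElement

variable {F : Type*} [Field F] [Fintype F] {e m : ℕ} (H : TitsField F e) (hm : 1 ≤ m)
  (hF : Fintype.card F = 2 ^ (2 * m + 1)) (he : e = 2 ^ (m + 1))

include H

include hF in
theorem centralizer_eq_of_mem' {g x : Sz F e} (hg : g ^ 4 ≠ 1)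
    (hx : x ∈ Subgroup.centralizer ({g} : Set (Sz F e))) (hx1 : x ≠ 1) :
    x ^ 4 ≠ 1 ∧
      Subgroup.centralizer ({x} : Set (Sz F e)) = Subgroup.centralizer ({g} : Set (Sz F e)) := by
  have hxg : g * x = x * g := (Subgroup.mem_centralizer_singleton_iff.1 hx).symm
  have hx4 : x ^ 4 ≠ 1 := fun h => hg (pow_four_of_commute H hF h hx1 hxg.symm)
  refine ⟨hx4, ?_⟩
  haveI := isCyclic_centralizer H hg
  haveI := isCyclic_centralizer H hx4
  apply le_antisymm
  · intro y hy
    have := (IsCyclic.commGroup (α := Subgroup.centralizer ({x} : Set (Sz F e)))).mul_comm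
      ⟨y, hy⟩ ⟨g, Subgroup.mem_centralizer_singleton_iff.2 hxg⟩
    exact Subgroup.mem_centralizer_singleton_iff.2 (congrArg Subtype.val this)
  · intro y hy
    have := (IsCyclic.commGroup (α := Subgroup.centralizer ({g} : Set (Sz F e)))).mul_comm
      ⟨y, hy⟩ ⟨x, hx⟩
    exact Subgroup.mem_centralizer_singleton_iff.2 (congrArg Subtype.val this)

include hm hF he in
theorem mem_centralizer_of_odd {g y : Sz F e} (hg : g ^ 4 ≠ 1) (hy : Odd (orderOf y))
    (hn : y * g * y⁻¹ ∈ Subgroup.centralizer ({g} : Set (Sz F e))) :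
    y ∈ Subgroup.centralizer ({g} : Set (Sz F e)) := by
  by_cases hf : Fpf H g
  · have hne : y * g * y⁻¹ ≠ 1 := fun h => hg (by rw [conj_eq_one_iff.1 h, one_pow])
    have hN : y ∈ Subgroup.normalizer
        ((Subgroup.centralizer ({g} : Set (Sz F e)) : Subgroup (Sz F e)) : Set (Sz F e)) := by
      refine Subgroup.mem_normalizer_iff.2 fun z => ?_
      have h2 := (centralizer_eq_of_mem' H hF hg hn hne).2
      rw [centralizer_conj H] at h2
      constructor
      · intro hz
        rw [← h2]
        exact ⟨z, hz, rfl⟩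
      · intro hz
        rw [← h2] at hz
        obtain ⟨w, hw, hwz⟩ := hz
        have : w = z := conj_injective hwz
        exact this ▸ hw
    set C := Subgroup.centralizer ({g} : Set (Sz F e))
    set N := Subgroup.normalizer (C : Set (Sz F e))
    have hidx : (C.subgroupOf N).index = 4 := by
      have h1 := (C.subgroupOf N).card_mul_index
      rw [Nat.card_congr (Subgroup.subgroupOfEquivOfLe Subgroup.le_normalizer).toEquiv] at h1
      rw [natCard_normalizer H hm hF he hf] at h1
      exact Nat.eq_of_mul_eq_mul_left Nat.card_pos (h1.trans (mul_comm 4 _))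
    have hy4 : y ^ 4 ∈ C := by
      have h := Subgroup.pow_index_mem (C.subgroupOf N) (⟨y, hN⟩ : N)
      rw [hidx] at h
      exact h
    obtain ⟨k, hk⟩ := exists_pow_eq_self_of_coprime (x := y) (n := 4)
      (Nat.Coprime.pow_left 2 (Nat.coprime_two_left.2 hy))
    rw [← hk]
    exact C.pow_mem hy4 k
  · unfold Fpf at hf
    push Not at hf
    obtain ⟨p, hp⟩ := hf
    obtain ⟨q, hq, hne⟩ : ∃ q, Moves H g q q ∧ q ≠ p := by
      by_contra hc
      push Not at hc
      exact hg (pow_four_of_unique H hp hc)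
    obtain ⟨k, hk1, hk2⟩ := exists_moves_pair H (Ne.symm hne)
    obtain ⟨t, ht⟩ := exists_sh_of_moves H (Moves.conj H hk1 hp) (Moves.conj H hk2 hq)
    have ht1 : t ≠ 1 := by
      rintro rfl
      rw [sh_one] at ht
      apply hg
      have := congrArg (fun x => k * x * k⁻¹) ht
      simp [mul_assoc] at this
      rw [this, one_pow]
    have hgk : g = k * sh H t * k⁻¹ := by rw [← ht]; group
    subst hgk
    rw [centralizer_conj H, centralizer_sh H ht1] at hn ⊢
    obtain ⟨_, ⟨s, rfl⟩, hs⟩ := hn
    have hs' : k * sh H s * k⁻¹ = y * (k * sh H t * k⁻¹) * y⁻¹ := hs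
    set w := k⁻¹ * y * k with hw
    have hws : w * sh H t * w⁻¹ = sh H s := by
      rw [show w * sh H t * w⁻¹ = k⁻¹ * (y * (k * sh H t * k⁻¹) * y⁻¹) * k by rw [hw]; group, ← hs']
      group
    have h00 : ∀ r, Moves H (sh H r) (some (0, 0)) (some (0, 0)) := sh_moves_zero H
    have hs1 : sh H s ≠ 1 := by
      rw [← hws]
      intro h
      exact ht1 (sh_inj H ((conj_eq_one_iff.1 h).trans (sh_one H).symm))
    have htwo : ∀ a, Moves H (sh H s) a a → a = none ∨ a = some (0, 0) := by
      intro a ha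
      by_contra hne'
      push Not at hne'
      exact hs1 (eq_one_of_three H (p := none) (q := some (0, 0)) (r := a) (by simp)
        hne'.2.symm hne'.1.symm (toSL_sh_none H s) (h00 s) ha)
    have himg : ∀ a, Moves H (sh H t) a a → ∃ b, Moves H w a b ∧ (b = none ∨ b = some (0, 0)) := by
      intro a ha
      obtain ⟨b, hb⟩ := exists_moves H w a
      refine ⟨b, hb, htwo b ?_⟩
      rw [← hws]
      exact Moves.trans H (Moves.symm H hb) (Moves.trans H ha hb)
    obtain ⟨b1, hb1, hc1⟩ := himg none (toSL_sh_none H t)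
    obtain ⟨b2, hb2, hc2⟩ := himg _ (h00 t)
    have hne12 : b1 ≠ b2 := by
      rintro rfl
      simpa using Moves.unique H (Moves.symm H hb1) (Moves.symm H hb2)
    have hwodd : Odd (orderOf w) := by
      have h3 : orderOf w = orderOf y := by
        rw [hw, show k⁻¹ * y * k = (MulAut.conj k⁻¹) y by simp]
        exact MulEquiv.orderOf_eq _ y
      rwa [h3]
    have hsq : Moves H (w * w) none none ∧ Moves H (w * w) (some (0, 0)) (some (0, 0)) := by
      rcases hc1 with rfl | rfl <;> rcases hc2 with rfl | rfl <;>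
        first
          | exact absurd rfl hne12
          | exact ⟨Moves.trans H hb1 hb1, Moves.trans H hb2 hb2⟩
          | exact ⟨Moves.trans H hb1 hb2, Moves.trans H hb2 hb1⟩
    obtain ⟨r, hr⟩ := exists_sh_of_moves H hsq.1 hsq.2
    obtain ⟨j, hj⟩ := exists_pow_eq_self_of_coprime (x := w) (n := 2) (Nat.coprime_two_left.2 hwodd)
    have hwt : w ∈ tor H := by
      rw [← hj]
      exact (tor H).pow_mem ⟨r, by rw [sq, hr]⟩ j
    exact ⟨w, hwt, by rw [hw]; simp [mul_assoc]⟩

include hm hF he in
/-- A non-trivial subgroup of odd order lies in the centraliser of an element. -/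
theorem le_centralizer_of_odd (M : Subgroup (Sz F e)) (hodd : Odd (Nat.card M)) (hne : M ≠ ⊥) :
    ∃ g : Sz F e, g ^ 4 ≠ 1 ∧ M ≤ Subgroup.centralizer ({g} : Set (Sz F e)) := by
  haveI : IsZGroup M := by
    refine (isZGroup_iff (G := M)).2 fun p hp P => ?_
    haveI := Fact.mk hp
    have hP : IsPGroup p ((P : Subgroup M).map M.subtype) := P.isPGroup'.map _
    rcases eq_or_ne p 2 with rfl | hp2
    · have h1 : Nat.card P = 1 := by
        obtain ⟨k, hk⟩ := P.isPGroup'.exists_card_eq
        rcases k with _ | k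
        · simpa using hk
        · exfalso
          have hd := Subgroup.card_subgroup_dvd_card (P : Subgroup M)
          rw [hk] at hd
          exact hodd.not_two_dvd_nat ((dvd_pow_self 2 k.succ_ne_zero).trans hd)
      haveI := (Nat.card_eq_one_iff_unique.1 h1).1
      infer_instance
    · haveI := isCyclic_of_isPGroup H hF hp2 _ hP
      exact ((P : Subgroup M).equivMapOfInjective M.subtype M.subtype_injective).isCyclic.2 inferInstance
  haveI : Nontrivial M := (Subgroup.nontrivial_iff_ne_bot M).2 hne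
  obtain ⟨a, ha1, hnorm⟩ : ∃ a : M, a ≠ 1 ∧ ∀ y : M, Commute (y * a * y⁻¹) a := by
    by_cases hab : commutator M = ⊥
    · obtain ⟨a, ha⟩ := exists_ne (1 : M)
      have hc : ∀ x y : M, Commute x y := fun x y => by
        have h : ⁅x, y⁆ ∈ (⊥ : Subgroup M) := by
          rw [← hab, commutator_def]
          exact Subgroup.commutator_mem_commutator (Subgroup.mem_top x) (Subgroup.mem_top y)
        exact commutatorElement_eq_one_iff_commute.1 (Subgroup.mem_bot.1 h)
      exact ⟨a, ha, fun y => hc _ _⟩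
    · haveI := IsZGroup.isCyclic_commutator (G := M)
      letI := IsCyclic.commGroup (α := commutator M)
      obtain ⟨⟨a, ham⟩, ha⟩ : ∃ a : commutator M, a ≠ 1 := by
        haveI := (Subgroup.nontrivial_iff_ne_bot _).2 hab
        exact exists_ne 1
      refine ⟨a, fun h => ha (Subtype.ext h), fun y => ?_⟩
      exact congrArg Subtype.val (mul_comm
        (⟨y * a * y⁻¹, (inferInstance : (commutator M).Normal).conj_mem a ham y⟩ : commutator M)
        ⟨a, ham⟩)
  have ho : ∀ x : M, Odd (orderOf (x : Sz F e)) := fun x => by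
    rw [Subgroup.orderOf_coe]
    exact hodd.of_dvd_nat (orderOf_dvd_natCard x)
  have ha4 : (a : Sz F e) ^ 4 ≠ 1 := fun h => ha1 (Subtype.ext (orderOf_eq_one_iff.1
    (Nat.eq_one_of_dvd_coprimes (Nat.Coprime.pow_right 2 (Nat.coprime_two_right.2 (ho a))) dvd_rfl
      (orderOf_dvd_of_pow_eq_one h))))
  refine ⟨a, ha4, fun y hy => mem_centralizer_of_odd H hm hF he ha4 (ho ⟨y, hy⟩) ?_⟩
  exact Subgroup.mem_centralizer_singleton_iff.2 (congrArg Subtype.val (hnorm ⟨y, hy⟩).eq)

omit [Fintype F] in
theorem sw_moves_vertical {b : F} (hb : b ≠ 0) :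
    Moves H (sw H) (some (0, b)) (some (b / b ^ e, 0)) := by
  refine toSL_smul H _ (c := b ^ e) (funext fun i => ?_)
  have hbe : b ^ e ≠ 0 := pow_ne_zero _ hb
  have hx : (b / b ^ e) ^ (e + 2) * b ^ e = 1 := by
    rw [div_pow, pow_add, pow_add, H.sq, show (b ^ e) ^ 2 = b ^ e * b ^ e from sq _]
    field_simp
  fin_cases i <;>
    simp [mat, sw, wGL, wMat, pv, fv, Matrix.mulVec, dotProduct, Fin.sum_univ_four, zero_pow H.e_ne,
      mul_div_cancel₀ _ hbe]
  rw [mul_comm]
  exact hx.symm

end CfsgLib.KnownA.Suzuki
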