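import Cfsg.Agent.Lib.KnownA.Suzuki.SubLemmas

/-!
Subgroups of a Suzuki group with several involutions at a point and no fixed point.
-/

set_option autoImplicit false

namespace CfsgLib.KnownA.Suzuki

open Matrix Cfsg.Lie Finset

variable {F : Type*} [Field F] [Fintype F] {e m : ℕ} (H : TitsField F e)
  (hF : Fintype.card F = 2 ^ (2 * m + 1)) (M : Subgroup (Sz F e))

include H

omit [Fintype F] in
/-- The torus parameters occurring in the Borel part of a subgroup. -/
def torusPart : Subgroup Fˣ where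
  carrier := {r | ∃ c d, su H c d * sh H r ∈ M}
  one_mem' := ⟨0, 0, by rw [su_zero, sh_one, one_mul]; exact M.one_mem⟩
  mul_mem' := by
    rintro r s ⟨a, b, h⟩ ⟨c, d, h'⟩
    have := M.mul_mem h h'
    rw [mul_assoc, ← mul_assoc (sh H r), sh_mul_su, mul_assoc, sh_mul, ← mul_assoc, su_mul] at this
    exact ⟨_, _, this⟩
  inv_mem' := by
    rintro r ⟨a, b, h⟩
    have := M.inv_mem h
    rw [_root_.mul_inv_rev, sh_inv, su_inv, sh_mul_su] at this
    exact ⟨_, _, this⟩

omit [Fintype F] in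
theorem conj_sz (c d z : F) (t : Fˣ) :
    su H c d * sh H t * sz H z * (su H c d * sh H t)⁻¹ = sz H (((t⁻¹ : Fˣ) : F) ^ (e + 2) * z) := by
  rw [mul_inv_eq_iff_eq_mul, mul_assoc, sh_mul_su, mul_zero, ← mul_assoc, ← sz_mul_su, ← mul_assoc]

omit [Fintype F] in
theorem exists_borel_form {g : Sz F e} (hg : g ∈ M) (h : Moves H g none none) :
    ∃ c d : F, ∃ r ∈ torusPart H M, g = su H c d * sh H r := by
  obtain ⟨c, d, r, rfl⟩ := mem_borel_of_moves H h
  exact ⟨c, d, r, ⟨c, d, hg⟩, rfl⟩

/-- In a finite field an injective power map sends every subgroup of units onto itself. -/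
theorem exists_pow_eq (j : ℕ) (hj : ∀ x y : Fˣ, x ^ j = y ^ j → x = y) (R : Subgroup Fˣ) {r : Fˣ}
    (hr : r ∈ R) : ∃ s ∈ R, s ^ j = r := by
  obtain ⟨⟨s, hs⟩, h⟩ := Finite.surjective_of_injective
    (f := fun x : R => (⟨x.1 ^ j, R.pow_mem x.2 j⟩ : R))
    (fun x y hxy => Subtype.ext (hj _ _ (congrArg Subtype.val hxy))) ⟨r, hr⟩
  exact ⟨s, hs, congrArg Subtype.val h⟩

theorem mem_of_pow_mem {j : ℕ} (hj : ∀ x y : Fˣ, x ^ j = y ^ j → x = y) (R : Subgroup Fˣ) {x : Fˣ}
    (hx : x ^ j ∈ R) : x ∈ R := by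
  obtain ⟨s, hs, h⟩ := exists_pow_eq H j hj R hx
  exact hj s x h ▸ hs

omit [Fintype F] in
theorem pow_e_inj (x y : Fˣ) (h : x ^ e = y ^ e) : x = y :=
  Units.ext (H.pow_inj (by rw [← Units.val_pow_eq_pow_val, h, Units.val_pow_eq_pow_val]))

omit [Fintype F] in
theorem pow_e1_inj (x y : Fˣ) (h : x ^ (e + 1) = y ^ (e + 1)) : x = y := by
  refine mul_inv_eq_one.1 (Units.ext (H.eq_one_of_pow_succ ?_))
  rw [← Units.val_pow_eq_pow_val, mul_pow, inv_pow, h, mul_inv_cancel, Units.val_one]

omit [Fintype F] in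
theorem pow_e2_inj (x y : Fˣ) (h : x ^ (e + 2) = y ^ (e + 2)) : x = y := by
  refine mul_inv_eq_one.1 (Units.ext (H.eq_one_of_pow_add_two ?_))
  rw [← Units.val_pow_eq_pow_val, mul_pow, inv_pow, h, mul_inv_cancel, Units.val_one]

include hF in
/-- An involution of `M` at infinity is conjugate to an involution moving infinity. -/
theorem exists_conj_of_moved {z u : Sz F e} (hz : z ∈ M) (hu : u ∈ M) (hzz : z * z = 1) (hz1 : z ≠ 1)
    (hzm : Moves H z none none) (huu : u * u = 1) (hum : ¬ Moves H u none none) :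
    ∃ g ∈ M, g * z * g⁻¹ = u := by
  set r := z * u with hr
  have hzi : z⁻¹ = z := inv_eq_of_mul_eq_one_right hzz
  have hui : u⁻¹ = u := inv_eq_of_mul_eq_one_right huu
  have hzr : z * r * z⁻¹ = r⁻¹ := by rw [hr, _root_.mul_inv_rev, hzi, hui, ← mul_assoc z z, hzz, one_mul]
  have hodd : Odd (orderOf r) := by
    by_contra hne
    rw [Nat.not_odd_iff_even] at hne
    obtain ⟨j, hj⟩ := hne
    have hn : 0 < orderOf r := orderOf_pos r
    set w := r ^ j with hw
    have hww : w * w = 1 := by rw [hw, ← pow_add, ← hj, pow_orderOf_eq_one]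
    have hw1 : w ≠ 1 := fun h => by
      have := orderOf_le_of_pow_eq_one (by omega : 0 < j) h
      omega
    have hwc : z * w * z⁻¹ = w := by
      rw [hw, ← conj_pow, hzr, inv_pow]
      exact inv_eq_of_mul_eq_one_right hww
    have hwu : u * w * u⁻¹ = w := by
      have h1 : u = z * r := by rw [hr, ← mul_assoc, hzz, one_mul]
      rw [h1, show z * r * w * (z * r)⁻¹ = z * (r * w * r⁻¹) * z⁻¹ by group,
        show r * w * r⁻¹ = w by rw [hw, ← pow_succ', pow_succ, mul_inv_cancel_right], hwc]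
    obtain ⟨p, hp, huniq⟩ := exists_unique_fixed H hF (g := w)
      (by simp only [pow_succ, pow_zero, one_mul, hww]) hw1
    have hmove : ∀ v : Sz F e, v * w * v⁻¹ = w → Moves H v p p := by
      intro v hv
      obtain ⟨q, hq⟩ := exists_moves H v p
      have : Moves H w q q := by
        rw [← hv]
        exact Moves.trans H (Moves.symm H hq) (Moves.trans H hp hq)
      rwa [huniq q this] at hq
    obtain ⟨p0, -, hz0⟩ := exists_unique_fixed H hF (g := z)
      (by simp only [pow_succ, pow_zero, one_mul, hzz]) hz1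
    have hpn : p = none := (hz0 p (hmove z hwc)).trans (hz0 none hzm).symm
    exact hum (hpn ▸ hmove u hwu)
  obtain ⟨l, hl⟩ := hodd
  have hconj : ∀ j : ℕ, r ^ j * z * (r ^ j)⁻¹ = r ^ (2 * j) * z := by
    intro j
    have h1 : z * (r ^ j)⁻¹ * z⁻¹ = r ^ j := by
      rw [← conj_inv, ← conj_pow, hzr, inv_pow, inv_inv]
    have h1' : z * (r ^ j)⁻¹ * z = r ^ j := by rw [hzi] at h1; exact h1
    rw [two_mul, pow_add]
    calc r ^ j * z * (r ^ j)⁻¹ = r ^ j * (z * (r ^ j)⁻¹ * z) * z⁻¹ := by group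
      _ = r ^ j * r ^ j * z := by rw [h1', hzi]
  refine ⟨r ^ l, M.pow_mem (M.mul_mem hz hu) l, ?_⟩
  rw [hconj]
  have h2 : r ^ (2 * l) = r⁻¹ := eq_inv_of_mul_eq_one_left (by rw [← pow_succ, ← hl, pow_orderOf_eq_one])
  rw [h2, hr, _root_.mul_inv_rev, hzi, hui, mul_assoc, hzz, mul_one]

/-- The hypotheses of the main case. -/
structure MovedSetup (b₀ : F) : Prop where
  mem : sz H b₀ ∈ M
  ne : b₀ ≠ 0
  other : ∃ b, b ≠ 0 ∧ b ≠ b₀ ∧ sz H b ∈ M
  swap : ∃ u ∈ M, u * u = 1 ∧ Moves H u none (some (0, 0))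

/-- What the counting gives. -/
structure MovedFacts (b₀ : F) : Prop where
  two : ∃ r ∈ torusPart H M, r ≠ 1
  zval : ∀ b : F, sz H b ∈ M ↔ b = 0 ∨ ∃ r ∈ torusPart H M, b = (r : F) * b₀
  torus : ∀ r ∈ torusPart H M, sh H r ∈ M
  orbit : ∀ g ∈ M, ∀ a b : F, Moves H g none (some (a, b)) → su H a b ∈ M

include hF in
theorem movedFacts {b₀ : F} (S : MovedSetup H M b₀) : MovedFacts H M b₀ := by
  classical
  letI : Fintype (Sz F e) := Fintype.ofFinite _
  obtain ⟨hz, hb0, ⟨b1, hb1, hb10, hz1⟩, u, hu, huu, hum⟩ := S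
  set z₀ := sz H b₀ with hz0def
  have hzz : ∀ b, sz H b * sz H b = 1 := fun b => by rw [sz_mul, H.add_self]; exact su_zero H
  have hzne : ∀ b, b ≠ 0 → sz H b ≠ 1 := fun b hb h => hb (su_inj H (h.trans (su_zero H).symm)).2
  have hzfix : ∀ b, Moves H (sz H b) none none := fun b => borel_moves H (su_mem_borel H 0 b)
  have hinv_borel : ∀ g, g * g = 1 → Moves H g none none → ∃ b, g = sz H b := by
    intro g hgg hg
    by_cases hg1 : g = 1
    · exact ⟨0, by rw [hg1]; exact (su_zero H).symm⟩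
    obtain ⟨c, d, t, rfl⟩ := mem_borel_of_moves H hg
    have h' := hgg
    rw [mul_assoc, ← mul_assoc (sh H t), sh_mul_su, mul_assoc, sh_mul, ← mul_assoc, su_mul] at h'
    set g0 := su H (c + ((t⁻¹ : Fˣ) : F) ^ e * c)
      (d + ((t⁻¹ : Fˣ) : F) ^ (e + 2) * d + c ^ e * (((t⁻¹ : Fˣ) : F) ^ e * c))
    have htt : t * t = 1 := by
      have h1 : sh H (t * t) = g0⁻¹ := eq_inv_of_mul_eq_one_right h'
      have h2 : (sh H (t * t)) ^ 4 = 1 := by rw [h1]; exact pow_four_uni H ⟨_, _, su_inv H _ _⟩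
      have h3 : sh H ((t * t) ^ 4) = 1 := by
        rw [← h2]
        simp [pow_succ, sh_mul]
      have h4 : ((t * t) ^ 4 : Fˣ) = 1 := sh_inj H (h3.trans (sh_one H).symm)
      have h5 : (((t * t) ^ 2 : Fˣ) : F) = 1 := H.sq_inj (by
        rw [← Units.val_pow_eq_pow_val, ← pow_mul, h4, Units.val_one, one_pow])
      refine Units.ext ?_
      rw [Units.val_one]
      exact H.sq_inj (by rw [← Units.val_pow_eq_pow_val, h5, one_pow])
    have ht : t = 1 := Units.ext (H.sq_inj (by
      rw [← Units.val_pow_eq_pow_val, sq, htt, Units.val_one, one_pow]))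
    subst ht
    rw [sh_one, mul_one] at hgg ⊢
    rw [su_mul, H.add_self, H.add_self, zero_add] at hgg
    have h0 := (su_inj H (hgg.trans (su_zero H).symm)).2
    have hc : c = 0 := by
      rcases mul_eq_zero.1 h0 with h | h
      · exact (pow_eq_zero_iff H.e_ne).1 h
      · exact h
    exact ⟨d, by rw [hc]⟩
  -- every involution is conjugate to `z₀`
  have hum' : ¬ Moves H u none none := fun h => by simpa using Moves.unique H h hum
  have hclass : ∀ g ∈ M, g * g = 1 → g ≠ 1 → ∃ k ∈ M, k * z₀ * k⁻¹ = g := by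
    intro g hg hgg hg1
    by_cases hgm : Moves H g none none
    · obtain ⟨k, hk, hk'⟩ := exists_conj_of_moved H hF M hg hu hgg hg1 hgm huu hum'
      obtain ⟨l, hl, hl'⟩ := exists_conj_of_moved H hF M hz hu (hzz b₀) (hzne _ hb0) (hzfix _) huu hum'
      refine ⟨k⁻¹ * l, M.mul_mem (M.inv_mem hk) hl, ?_⟩
      rw [show k⁻¹ * l * z₀ * (k⁻¹ * l)⁻¹ = k⁻¹ * (l * z₀ * l⁻¹) * k by group, hl', ← hk']
      group
    · exact exists_conj_of_moved H hF M hz hg (hzz b₀) (hzne _ hb0) (hzfix _) hgg hgm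
  have hzfix' : ∀ {b}, b ≠ 0 → ∀ q, Moves H (sz H b) q q → q = none := fun {b} hb q hq =>
    su_unique_fixed H hF (hzne b hb) hq
  have hR : ∀ r ∈ torusPart H M, sz H (((r⁻¹ : Fˣ) : F) ^ (e + 2) * b₀) ∈ M := by
    rintro r ⟨c, d, h⟩
    rw [← conj_sz H c d b₀ r]
    exact M.mul_mem (M.mul_mem h hz) (M.inv_mem h)
  have hzval : ∀ b : F, sz H b ∈ M ↔ b = 0 ∨ ∃ r ∈ torusPart H M, b = (r : F) * b₀ := by
    intro b
    constructor
    · intro hb
      refine or_iff_not_imp_left.2 fun hb' => ?_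
      obtain ⟨k, hk, hk'⟩ := hclass _ hb (hzz b) (hzne b hb')
      obtain ⟨q, hq⟩ := exists_moves H k none
      have hq' : Moves H (sz H b) q q := by
        rw [← hk']
        exact Moves.trans H (Moves.symm H hq) (Moves.trans H (hzfix _) hq)
      rw [hzfix' hb' q hq'] at hq
      obtain ⟨c, d, r, hr, rfl⟩ := exists_borel_form H M hk hq
      rw [conj_sz] at hk'
      refine ⟨(r⁻¹) ^ (e + 2), (torusPart H M).pow_mem ((torusPart H M).inv_mem hr) _, ?_⟩
      rw [Units.val_pow_eq_pow_val]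
      exact (su_inj H hk').2.symm
    · rintro (rfl | ⟨r, hr, rfl⟩)
      · rw [show sz H (0 : F) = 1 from su_zero H]; exact M.one_mem
      · obtain ⟨s, hs, hsr⟩ := exists_pow_eq H (e + 2) (pow_e2_inj H) (torusPart H M) hr
        have := hR s⁻¹ ((torusPart H M).inv_mem hs)
        rwa [inv_inv, ← Units.val_pow_eq_pow_val, hsr] at this
  have htwo : ∃ r ∈ torusPart H M, r ≠ 1 := by
    rcases (hzval b1).1 hz1 with h | ⟨r, hr, hrb⟩
    · exact absurd h hb1
    · exact ⟨r, hr, fun h => hb10 (by rw [hrb, h, Units.val_one, one_mul])⟩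
  -- counting
  set Pts : Finset (Option (F × F)) := univ.filter (fun y => y ≠ none ∧ ∃ g ∈ M, Moves H g none y)
    with hPts
  set I : Finset (Sz F e) := univ.filter (fun g => g ∈ M ∧ g ≠ 1 ∧ g * g = 1) with hI
  set R : Finset Fˣ := univ.filter (fun r => r ∈ torusPart H M) with hRdef
  set I0 : Finset (Sz F e) := I.filter (fun g => Moves H g none none) with hI0
  have hI0card : #I0 = #R := by
    symm
    refine Finset.card_bij (fun r _ => sz H ((r : F) * b₀)) ?_ ?_ ?_
    · intro r hr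
      simp only [hRdef, mem_filter, mem_univ, true_and] at hr
      simp only [hI0, hI, mem_filter, mem_univ, true_and]
      exact ⟨⟨(hzval _).2 (Or.inr ⟨r, hr, rfl⟩), hzne _ (mul_ne_zero r.ne_zero hb0), hzz _⟩, hzfix _⟩
    · intro r _ s _ h
      exact Units.ext (mul_right_cancel₀ hb0 (su_inj H h).2)
    · intro g hg
      simp only [hI0, hI, mem_filter, mem_univ, true_and] at hg
      obtain ⟨⟨hgM, hg1, hgg⟩, hgm⟩ := hg
      obtain ⟨b, rfl⟩ := hinv_borel g hgg hgm
      rcases (hzval b).1 hgM with rfl | ⟨r, hr, rfl⟩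
      · exact absurd (su_zero H) hg1
      · exact ⟨r, by simp [hRdef, hr], rfl⟩
  -- the fixed point of an involution
  have hfixpt : ∀ g ∈ I, ∃ y ∈ insert none Pts, Moves H g y y := by
    intro g hg
    simp only [hI, mem_filter, mem_univ, true_and] at hg
    obtain ⟨k, hk, hk'⟩ := hclass g hg.1 hg.2.2 hg.2.1
    obtain ⟨y, hy⟩ := exists_moves H k none
    refine ⟨y, ?_, ?_⟩
    · by_cases hyn : y = none
      · simp [hyn]
      · exact mem_insert_of_mem (by simp only [hPts, mem_filter, mem_univ, true_and]; exact ⟨hyn, k, hk, hy⟩)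
    · rw [← hk']
      exact Moves.trans H (Moves.symm H hy) (Moves.trans H (hzfix _) hy)
  choose fx hfx hfxm using hfixpt
  have hIuniq : ∀ g (hg : g ∈ I) (q : Option (F × F)), Moves H g q q → q = fx g hg := by
    intro g hg q hq
    have hg' := hg
    simp only [hI, mem_filter, mem_univ, true_and] at hg'
    obtain ⟨p, -, hp⟩ := exists_unique_fixed H hF (g := g)
      (by simp only [pow_succ, pow_zero, one_mul, hg'.2.2]) hg'.2.1
    rw [hp q hq, hp _ (hfxm g hg)]
  have hpt : ∀ y ∈ Pts, #(I.filter (fun g => Moves H g y y)) = #I0 := by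
    intro y hy
    simp only [hPts, mem_filter, mem_univ, true_and] at hy
    obtain ⟨-, k, hk, hky⟩ := hy
    symm
    refine Finset.card_bij (fun g _ => k * g * k⁻¹) ?_ ?_ ?_
    · intro g hg
      simp only [hI0, hI, mem_filter, mem_univ, true_and] at hg ⊢
      refine ⟨⟨M.mul_mem (M.mul_mem hk hg.1.1) (M.inv_mem hk), fun h => hg.1.2.1 (conj_eq_one_iff.1 h),
        ?_⟩, Moves.trans H (Moves.symm H hky) (Moves.trans H hg.2 hky)⟩
      rw [conj_mul, hg.1.2.2]
      simp
    · intro g _ g' _ h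
      exact conj_injective h
    · intro g hg
      simp only [hI0, hI, mem_filter, mem_univ, true_and] at hg ⊢
      refine ⟨k⁻¹ * g * k, ⟨⟨M.mul_mem (M.mul_mem (M.inv_mem hk) hg.1.1) hk, fun h => hg.1.2.1 ?_, ?_⟩,
        Moves.conj H hky hg.2⟩, by group⟩
      · have := congrArg (fun x => k * x * k⁻¹) h
        simpa [mul_assoc] using this
      · rw [show k⁻¹ * g * k * (k⁻¹ * g * k) = k⁻¹ * (g * g) * k by group, hg.1.2.2]
        simp
  set I1 : Finset (Sz F e) := I.filter (fun g => ¬ Moves H g none none) with hI1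
  have hI1card : #I1 = #Pts * #R := by
    have h : I1 = Pts.biUnion (fun y => I.filter (fun g => Moves H g y y)) := by
      ext g
      simp only [hI1, mem_filter, mem_biUnion]
      constructor
      · rintro ⟨hg, hgm⟩
        rcases mem_insert.1 (hfx g hg) with h | h
        · exact absurd (h ▸ hfxm g hg) hgm
        · exact ⟨_, h, hg, hfxm g hg⟩
      · rintro ⟨y, hy, hg, hgy⟩
        refine ⟨hg, fun hgn => ?_⟩
        simp only [hPts, mem_filter, mem_univ, true_and] at hy
        exact hy.1 ((hIuniq g hg y hgy).trans (hIuniq g hg none hgn).symm)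
    rw [h, Finset.card_biUnion, Finset.sum_congr rfl (fun y hy => (hpt y hy).trans hI0card),
      Finset.sum_const, smul_eq_mul]
    intro y _ y' _ hyy'
    refine Finset.disjoint_left.2 fun g hg hg' => hyy' ?_
    rw [mem_filter] at hg hg'
    exact (hIuniq g hg.1 y hg.2).trans (hIuniq g hg.1 y' hg'.2).symm
  have hsplit : #I1 = ∑ y ∈ Pts, #(I1.filter (fun g => Moves H g none y)) := by
    have h : I1 = Pts.biUnion (fun y => I1.filter (fun g => Moves H g none y)) := by
      ext g
      simp only [mem_biUnion, mem_filter]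
      refine ⟨fun hg => ?_, fun ⟨y, _, hg, _⟩ => hg⟩
      obtain ⟨y, hy⟩ := exists_moves H g none
      have hg' := hg
      simp only [hI1, hI, mem_filter, mem_univ, true_and] at hg'
      refine ⟨y, ?_, hg, hy⟩
      simp only [hPts, mem_filter, mem_univ, true_and]
      exact ⟨fun h => hg'.2 (h ▸ hy), g, hg'.1.1, hy⟩
    conv_lhs => rw [h]
    refine Finset.card_biUnion fun y _ y' _ hyy' => Finset.disjoint_left.2 fun g hg hg' => hyy' ?_
    rw [mem_filter] at hg hg'
    exact Moves.unique H hg.2 hg'.2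
  -- two-point stabilisers
  set St : Option (F × F) → Finset (Sz F e) := fun y =>
    univ.filter (fun g => g ∈ M ∧ Moves H g none none ∧ Moves H g y y) with hSt
  have hform : ∀ g ∈ M, Moves H g none none → ∃ r ∈ torusPart H M, ∃ c d, g = su H c d * sh H r :=
    fun g hg h => by
      obtain ⟨c, d, r, hr, hg⟩ := exists_borel_form H M hg h
      exact ⟨r, hr, c, d, hg⟩
  choose φ hφR φc φd hφ using hform
  have hφuniq : ∀ g (hg : g ∈ M) (h : Moves H g none none) (c d : F) (r : Fˣ),
      g = su H c d * sh H r → φ g hg h = r := by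
    intro g hg h c d r hgr
    have h1 := (hφ g hg h).symm.trans hgr
    have h2 : (su H c d)⁻¹ * su H (φc g hg h) (φd g hg h) = sh H r * (sh H (φ g hg h))⁻¹ := by
      rw [inv_mul_eq_iff_eq_mul, ← mul_assoc, ← h1, mul_inv_cancel_right]
    have h3 : sh H (r * (φ g hg h)⁻¹) = su H c (d + c ^ e * c) * su H (φc g hg h) (φd g hg h) := by
      rw [← sh_mul, ← sh_inv, ← h2, su_inv]
    rw [su_mul] at h3
    have h4 := congrArg (fun x => mat x 1 1) h3
    simp [mat, su, sh, uGL, hGL, uMat, hMat] at h4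
    exact (Units.ext ((mul_inv_eq_one₀ (Units.ne_zero _)).1 h4)).symm
  have hStle : ∀ y ∈ Pts, #(St y) ≤ #R ∧
      ∀ g (hg : g ∈ St y) g' (hg' : g' ∈ St y),
        φ g (mem_filter.1 hg).2.1 (mem_filter.1 hg).2.2.1 =
          φ g' (mem_filter.1 hg').2.1 (mem_filter.1 hg').2.2.1 → g = g' := by
    intro y hy
    have hinj : ∀ g (hg : g ∈ St y) g' (hg' : g' ∈ St y),
        φ g (mem_filter.1 hg).2.1 (mem_filter.1 hg).2.2.1 =
          φ g' (mem_filter.1 hg').2.1 (mem_filter.1 hg').2.2.1 → g = g' := by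
      intro g hg g' hg' heq
      simp only [hPts, mem_filter, mem_univ, true_and] at hy
      have e1 := hφ g (mem_filter.1 hg).2.1 (mem_filter.1 hg).2.2.1
      have e2 := hφ g' (mem_filter.1 hg').2.1 (mem_filter.1 hg').2.2.1
      rw [heq] at e1
      by_contra hne
      have hx : g * g'⁻¹ ∈ uni H := by
        rw [congrArg₂ (fun a b => a * b⁻¹) e1 e2, _root_.mul_inv_rev, mul_assoc, mul_inv_cancel_left,
          su_inv, su_mul]
        exact ⟨_, _, rfl⟩
      obtain ⟨a, b, hab⟩ := hx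
      have hfix : Moves H (su H a b) y y := by
        rw [← hab]
        exact Moves.trans H (Moves.symm H (mem_filter.1 hg').2.2.2) (mem_filter.1 hg).2.2.2
      exact hy.1 (su_unique_fixed H hF (fun h1 => hne (mul_inv_eq_one.1 (hab.trans h1))) hfix)
    refine ⟨?_, hinj⟩
    exact Finset.card_le_card_of_injOn
      (fun g => if hg : g ∈ St y then φ g (mem_filter.1 hg).2.1 (mem_filter.1 hg).2.2.1 else 1)
      (fun g hg => by
        have hg' : g ∈ St y := hg
        simp only [dif_pos hg', hRdef, coe_filter, mem_univ, true_and, Set.mem_setOf_eq]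
        exact hφR _ _ _)
      (fun g hg g' hg' h => by
        have h1 : g ∈ St y := hg
        have h2 : g' ∈ St y := hg'
        simp only [dif_pos h1, dif_pos h2] at h
        exact hinj g h1 g' h2 h)
  have hfib : ∀ y ∈ Pts, #(I1.filter (fun g => Moves H g none y)) ≤ #(St y) := by
    intro y hy
    rcases (I1.filter (fun g => Moves H g none y)).eq_empty_or_nonempty with h | ⟨g₁, hg₁⟩
    · simp [h]
    simp only [hI1, hI, mem_filter, mem_univ, true_and] at hg₁
    have hback : ∀ g, g * g = 1 → Moves H g none y → Moves H g y none := fun g hgg hgy => by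
      rw [← inv_eq_of_mul_eq_one_right hgg]
      exact Moves.symm H hgy
    refine Finset.card_le_card_of_injOn (fun g => g * g₁) (fun g hg => ?_)
      (fun g _ g' _ h => mul_right_cancel h)
    have hg' : g ∈ I1.filter (fun g => Moves H g none y) := hg
    simp only [hI1, hI, mem_filter, mem_univ, true_and] at hg'
    simp only [hSt, coe_filter, mem_univ, true_and, Set.mem_setOf_eq]
    exact ⟨M.mul_mem hg'.1.1.1 hg₁.1.1.1,
      Moves.trans H hg₁.2 (hback g hg'.1.1.2.2 hg'.2),
      Moves.trans H (hback g₁ hg₁.1.1.2.2 hg₁.2) hg'.2⟩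
  have hfull : ∀ y ∈ Pts, #(St y) = #R := by
    have hle : ∀ y ∈ Pts, #(I1.filter (fun g => Moves H g none y)) ≤ #R :=
      fun y hy => (hfib y hy).trans (hStle y hy).1
    have hsum : ∑ y ∈ Pts, #(I1.filter (fun g => Moves H g none y)) = ∑ _y ∈ Pts, #R := by
      rw [← hsplit, hI1card, Finset.sum_const, smul_eq_mul]
    intro y hy
    have := (Finset.sum_eq_sum_iff_of_le hle).1 hsum y hy
    have := hfib y hy
    have := (hStle y hy).1
    omega
  have hsurj : ∀ y ∈ Pts, ∀ r ∈ torusPart H M, ∃ g ∈ St y, ∃ c d, g = su H c d * sh H r := by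
    intro y hy r hr
    obtain ⟨g, hg, hgr⟩ := Finset.surj_on_of_inj_on_of_card_le
      (fun g (hg : g ∈ St y) => φ g (mem_filter.1 hg).2.1 (mem_filter.1 hg).2.2.1)
      (fun g hg => by simp [hRdef, hφR]) (fun g g' hg hg' h => (hStle y hy).2 g hg g' hg' h)
      (le_of_eq (hfull y hy).symm) r (by simp [hRdef, hr])
    refine ⟨g, hg, φc g (mem_filter.1 hg).2.1 (mem_filter.1 hg).2.2.1,
      φd g (mem_filter.1 hg).2.1 (mem_filter.1 hg).2.2.1, ?_⟩
    rw [hgr]
    exact hφ g _ _
  have h00 : (some (0, 0) : Option (F × F)) ∈ Pts := by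
    simp only [hPts, mem_filter, mem_univ, true_and]
    exact ⟨by simp, u, hu, hum⟩
  have htorus : ∀ r ∈ torusPart H M, sh H r ∈ M := by
    intro r hr
    obtain ⟨g, hg, c, d, hgr⟩ := hsurj _ h00 r hr
    simp only [hSt, mem_filter, mem_univ, true_and] at hg
    obtain ⟨s, hs⟩ := exists_sh_of_moves H hg.2.1 hg.2.2
    have h1 : φ g hg.1 hg.2.1 = r := hφuniq g _ _ c d r hgr
    have h2 : φ g hg.1 hg.2.1 = s := hφuniq g _ _ 0 0 s (by rw [su_zero, one_mul, hs])
    rw [← h1, h2, ← hs]
    exact hg.1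
  refine ⟨htwo, hzval, htorus, fun g hg a b hgab => ?_⟩
  obtain ⟨r0, hr0, hr01⟩ := htwo
  set Q : Finset (F × F) := univ.filter (fun p => su H p.1 p.2 ∈ M) with hQ
  set T : Finset (Sz F e) := univ.filter (fun x => x ∈ M ∧ ∃ c d, x = su H c d * sh H r0) with hT
  have hTQ : #T = #Q := by
    symm
    refine Finset.card_bij (fun p _ => su H p.1 p.2 * sh H r0) ?_ ?_ ?_
    · intro p hp
      simp only [hQ, mem_filter, mem_univ, true_and] at hp
      simp only [hT, mem_filter, mem_univ, true_and]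
      exact ⟨M.mul_mem hp (htorus r0 hr0), p.1, p.2, rfl⟩
    · intro p _ p' _ h
      obtain ⟨h1, h2⟩ := su_inj H (mul_right_cancel h)
      exact Prod.ext h1 h2
    · intro x hx
      simp only [hT, mem_filter, mem_univ, true_and] at hx
      obtain ⟨hxM, c, d, rfl⟩ := hx
      refine ⟨(c, d), ?_, rfl⟩
      simp only [hQ, mem_filter, mem_univ, true_and]
      simpa using M.mul_mem hxM (M.inv_mem (htorus r0 hr0))
  have hmap : Q.image some ⊆ Pts := by
    intro y hy
    rw [mem_image] at hy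
    obtain ⟨⟨c, d⟩, hp, rfl⟩ := hy
    simp only [hQ, mem_filter, mem_univ, true_and] at hp
    simp only [hPts, mem_filter, mem_univ, true_and]
    refine ⟨by simp, su H c d * u, M.mul_mem hp hu, Moves.trans H hum ?_⟩
    simpa using su_moves H c d 0 0
  have hle : #Pts ≤ #T := by
    have hx : ∀ y ∈ Pts, ∃ x ∈ T, x ≠ 1 ∧ Moves H x none none ∧ Moves H x y y := by
      intro y hy
      obtain ⟨g, hg, c, d, hgr⟩ := hsurj y hy r0 hr0
      simp only [hSt, mem_filter, mem_univ, true_and] at hg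
      refine ⟨g, by simp only [hT, mem_filter, mem_univ, true_and]; exact ⟨hg.1, c, d, hgr⟩,
        fun h1 => hr01 ?_, hg.2⟩
      have e1 := hφuniq g hg.1 hg.2.1 c d r0 hgr
      rw [hφuniq g hg.1 hg.2.1 0 0 1 (by rw [h1, su_zero, sh_one, one_mul])] at e1
      exact e1.symm
    choose x hxT hx1 hxn hxy using hx
    refine Finset.card_le_card_of_injOn (fun y => if hy : y ∈ Pts then x y hy else 1)
      (fun y hy => by
        have hy' : y ∈ Pts := hy
        simp only [dif_pos hy']
        exact hxT y hy') (fun y hy y' hy' h => ?_)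
    have h1 : y ∈ Pts := hy
    have h2 : y' ∈ Pts := hy'
    simp only [dif_pos h1, dif_pos h2] at h
    by_contra hne
    have hn : ∀ q ∈ Pts, q ≠ none := fun q hq => (mem_filter.1 hq).2.1
    exact hx1 y h1 (eq_one_of_three H (p := none) (q := y) (r := y') (hn y h1).symm hne (hn y' h2).symm
      (hxn y h1) (hxy y h1) (h ▸ hxy y' h2))
  have heq : Q.image some = Pts := Finset.eq_of_subset_of_card_le hmap (by
    rw [Finset.card_image_of_injective _ (Option.some_injective _), ← hTQ]
    exact hle)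
  have hmem : (some (a, b) : Option (F × F)) ∈ Pts := by
    simp only [hPts, mem_filter, mem_univ, true_and]
    exact ⟨by simp, g, hg, hgab⟩
  rw [← heq, mem_image] at hmem
  obtain ⟨p, hp, hpab⟩ := hmem
  simp only [hQ, mem_filter, mem_univ, true_and] at hp
  rw [Option.some.inj hpab] at hp
  exact hp

end CfsgLib.KnownA.Suzuki
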