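import Cfsg.Agent.Lib.KnownA.Suzuki.Subgroups
import Cfsg.Agent.Lib.KnownA.Suzuki.Solvable
import Cfsg.Agent.Lib.KnownA.Suzuki.Rows

/-!
The subfield subgroups of the Suzuki groups form one conjugacy class for each subfield.
-/

set_option autoImplicit false

namespace CfsgLib.KnownA.Suzuki

open MulAction Cfsg.Lie

section Range

variable {F : Type*} [Field F] {K : Type*} [Field K] {e : ℕ} (HK : TitsField K e) (H : TitsField F e)
  (φ : K →+* F)

theorem subfieldHom_su (a b : K) : subfieldHom HK H φ (su HK a b) = su H (φ a) (φ b) := by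
  refine mat_ext ?_
  rw [mat_subfieldHom]
  ext i j
  fin_cases i <;> fin_cases j <;> simp [mat, su, uGL, uMat, fv]

theorem subfieldHom_sh (t : Kˣ) :
    subfieldHom HK H φ (sh HK t) = sh H (Units.map φ.toMonoidHom t) := by
  refine mat_ext ?_
  rw [mat_subfieldHom]
  ext i j
  fin_cases i <;> fin_cases j <;> simp [mat, sh, hGL, hMat]

theorem subfieldHom_sw : subfieldHom HK H φ (sw HK) = sw H := by
  refine mat_ext ?_
  rw [mat_subfieldHom]
  ext i j
  fin_cases i <;> fin_cases j <;> simp [mat, sw, wGL, wMat]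

end Range

variable {F : Type*} [Field F] {e : ℕ} (H : TitsField F e)

include H

theorem subfield_tits (K : _root_.Subfield F) : TitsField K e :=
  { two := K.subtype.injective (by rw [map_ofNat, H.two, map_zero])
    sq := fun x => K.subtype.injective (by rw [map_pow, map_pow, map_pow, H.sq])
    two_pow := H.two_pow }

theorem subGen_eq_range (K : _root_.Subfield F) :
    subGen H K = (subfieldHom (subfield_tits H K) H K.subtype).range := by
  apply le_antisymm
  · rw [subGen, Subgroup.closure_le]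
    rintro g ((⟨a, ha, b, hb, rfl⟩ | ⟨t, ht, rfl⟩) | rfl)
    · exact ⟨su (subfield_tits H K) ⟨a, ha⟩ ⟨b, hb⟩, subfieldHom_su (subfield_tits H K) H K.subtype _ _⟩
    · refine ⟨sh (subfield_tits H K) (Units.mk0 ⟨t, ht⟩ fun h => t.ne_zero (congrArg Subtype.val h)), ?_⟩
      rw [subfieldHom_sh]
      congr 1
      exact Units.ext rfl
    · exact ⟨sw (subfield_tits H K), subfieldHom_sw (subfield_tits H K) H K.subtype⟩
  · rintro _ ⟨g, rfl⟩
    obtain ⟨⟨p, ⟨a, b⟩, t⟩, rfl⟩ := normalForm_surjective (subfield_tits H K) g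
    have hsu : ∀ a b : K, su H (a : F) (b : F) ∈ subGen H K := fun a b =>
      Subgroup.subset_closure (Or.inl (Or.inl ⟨a, a.2, b, b.2, rfl⟩))
    have hsh : sh H (Units.map K.subtype.toMonoidHom t) ∈ subGen H K :=
      Subgroup.subset_closure (Or.inl (Or.inr ⟨_, (t : K).2, rfl⟩))
    have hsw : sw H ∈ subGen H K := Subgroup.subset_closure (Or.inr rfl)
    rcases p with _ | ⟨c, d⟩
    · simp only [normalForm, rep, one_mul, map_mul, subfieldHom_su, subfieldHom_sh]
      exact Subgroup.mul_mem _ (hsu a b) hsh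
    · simp only [normalForm, rep, map_mul, subfieldHom_su, subfieldHom_sh, subfieldHom_sw]
      exact Subgroup.mul_mem _ (Subgroup.mul_mem _ (hsu c d) hsw) (Subgroup.mul_mem _ (hsu a b) hsh)

theorem natCard_subGen [Fintype F] (K : _root_.Subfield F) :
    Nat.card (subGen H K) = (Nat.card K ^ 2 + 1) * (Nat.card K ^ 2 * (Nat.card K - 1)) := by
  classical
  rw [subGen_eq_range, ← Nat.card_congr (MonoidHom.ofInjective
    (subfieldHom_injective (subfield_tits H K) H K.subtype)).toEquiv,
    natCard_Sz (subfield_tits H K), Nat.card_eq_fintype_card]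

omit H in
theorem subfield_eq_of_card [Fintype F] (K₁ K₂ : _root_.Subfield F) (h : Nat.card K₁ = Nat.card K₂) :
    K₁ = K₂ := by
  classical
  have h1 : 1 < Nat.card K₁ := Finite.one_lt_card
  set R := {x : F | x ^ Nat.card K₁ = x}
  have hfix : ∀ K : _root_.Subfield F, Nat.card K = Nat.card K₁ → (K : Set F) = R := by
    intro K hK
    refine Set.eq_of_subset_of_ncard_le (fun x hx => ?_) ?_
    · show x ^ Nat.card K₁ = x
      rw [← hK, Nat.card_eq_fintype_card]
      exact congrArg Subtype.val (FiniteField.pow_card (⟨x, hx⟩ : K))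
    · have hsub : R ⊆ ((Polynomial.X ^ Nat.card K₁ - Polynomial.X : Polynomial F).roots.toFinset : Set F) :=
        fun x (hx : x ^ Nat.card K₁ = x) => by
          rw [Finset.mem_coe, Multiset.mem_toFinset, Polynomial.mem_roots
            (FiniteField.X_pow_card_sub_X_ne_zero F h1)]
          simp [Polynomial.IsRoot, -Nat.card_eq_fintype_card, hx]
      refine le_trans (Set.ncard_le_ncard hsub) ?_
      rw [Set.ncard_coe_finset]
      refine le_trans (Multiset.toFinset_card_le _) (le_trans (Polynomial.card_roots' _) ?_)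
      rw [FiniteField.X_pow_card_sub_X_natDegree_eq F h1, ← Nat.card_coe_set_eq, SetLike.coe_sort_coe, hK]
  exact SetLike.coe_injective ((hfix K₁ rfl).trans (hfix K₂ h.symm).symm)

omit H in
theorem order_strict {a b : ℕ} (h : a < b) (ha : 2 ≤ a) :
    (a ^ 2 + 1) * (a ^ 2 * (a - 1)) < (b ^ 2 + 1) * (b ^ 2 * (b - 1)) := by
  have h2 : a ^ 2 < b ^ 2 := Nat.pow_lt_pow_left h two_ne_zero
  exact Nat.mul_lt_mul_of_lt_of_lt (by omega) (Nat.mul_lt_mul_of_lt_of_lt h2 (by omega))

variable [Fintype F] {m : ℕ} (hm : 1 ≤ m) (hF : Fintype.card F = 2 ^ (2 * m + 1))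
  (he : e = 2 ^ (m + 1))

include hm hF he in
/-- A non-solvable subgroup of the order of a Suzuki group is conjugate to the one of the subfield. -/
theorem conj_subGen_of_card (M : Subgroup (Sz F e)) (hM : ¬ Group.IsSolvable M) {s : ℕ} (hs : 2 ≤ s)
    (hcard : Nat.card M = (s ^ 2 + 1) * (s ^ 2 * (s - 1))) :
    ∃ c : Sz F e, ∃ K : _root_.Subfield F, Nat.card K = s ∧
      M.map (MulAut.conj c).toMonoidHom = subGen H K := by
  rcases subgroup_cases H hm hF he M with ⟨P, hP⟩ | ⟨U, hc, hU, hle⟩ | ⟨c, hS, h1⟩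
  · exfalso
    obtain ⟨l, hl⟩ := exists_sylow_conj_uni H hF P
    have hsub : M.map (MulAut.conj l⁻¹).toMonoidHom ≤ borel H := by
      rw [← normalizer_uni H]
      rintro _ ⟨g, hg, rfl⟩
      have hPeq : (P : Subgroup (Sz F e)).map (MulAut.conj l⁻¹).toMonoidHom = uni H := by
        ext x
        rw [Subgroup.mem_map_equiv, MulAut.conj_symm_apply, hl]
        simp [mul_assoc]
      rw [← hPeq, ← Subgroup.map_equiv_normalizer_eq]
      exact Subgroup.mem_map_of_mem _ (hP hg)
    haveI := isSolvable_borel H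
    exact hM (Group.isSolvable_of_isSolvable_injective
      (f := (Subgroup.inclusion hsub).comp ((MulAut.conj l⁻¹).subgroupMap M).toMonoidHom)
      ((Subgroup.inclusion_injective hsub).comp ((MulAut.conj l⁻¹).subgroupMap M).injective))
  · exfalso
    haveI := isSolvable_normalizer_torus H hm hF he hc (U := U) (by
      simpa [IsTorusOrder] using hU)
    exact hM (Group.isSolvable_of_isSolvable_injective (Subgroup.inclusion_injective hle))
  · obtain ⟨K, -, hK⟩ := moved_eq_subGen H hF _ hS h1
    refine ⟨c, K, ?_, hK⟩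
    have h := congrArg (fun G : Subgroup (Sz F e) => Nat.card G) hK
    rw [Subgroup.card_map_of_injective (f := (MulAut.conj c).toMonoidHom) (MulAut.conj c).injective,
      natCard_subGen H K, hcard] at h
    rcases lt_trichotomy (Nat.card K) s with hlt | heq | hgt
    · exact absurd h.symm (order_strict hlt Finite.one_lt_card).ne
    · exact heq
    · exact absurd h (order_strict hgt hs).ne

omit H in
/-- Existence and conjugacy of the subfield subgroups, in the ovoid model. -/
theorem subfield_subgroups (hm : 1 ≤ m) (hF : Fintype.card F = 2 ^ (2 * m + 1)) {K : Type*} [Field K]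
    [Fintype K] {k : ℕ} (hk : 1 ≤ k) (hK : Fintype.card K = 2 ^ (2 * k + 1))
    (hdiv : 2 * k + 1 ∣ 2 * m + 1) :
    (∃ S : Subgroup ↥(Cfsg.Sz F m), Nonempty (↥S ≃* ↥(Cfsg.Sz K k))) ∧
    ∀ S₁ S₂ : Subgroup ↥(Cfsg.Sz F m), Nonempty (↥S₁ ≃* ↥(Cfsg.Sz K k)) →
      Nonempty (↥S₂ ≃* ↥(Cfsg.Sz K k)) →
        ∃ g : ↥(Cfsg.Sz F m), S₂ = S₁.map (MulAut.conj g).toMonoidHom := by
  classical
  have H := titsField_of_card hF
  let iF := iso hm hF
  let iK := iso hk hK
  refine ⟨?_, ?_⟩
  · haveI : Fact (Nat.Prime 2) := ⟨Nat.prime_two⟩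
    have hchF : CharP F 2 := H.charP
    have hchK : CharP K 2 := (titsField_of_card hK).charP
    letI := ZMod.algebra K 2
    letI := ZMod.algebra F 2
    obtain ⟨φ⟩ := FiniteField.nonempty_algHom_of_finrank_dvd (F := ZMod 2) (K := K) (L := F)
      (by
        have e1 : Module.finrank (ZMod 2) K = 2 * k + 1 := by
          have h := Module.natCard_eq_pow_finrank (K := ZMod 2) (V := K)
          rw [Nat.card_zmod, Nat.card_eq_fintype_card, hK] at h
          exact (Nat.pow_right_injective le_rfl h).symm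
        have e2 : Module.finrank (ZMod 2) F = 2 * m + 1 := by
          have h := Module.natCard_eq_pow_finrank (K := ZMod 2) (V := F)
          rw [Nat.card_zmod, Nat.card_eq_fintype_card, hF] at h
          exact (Nat.pow_right_injective le_rfl h).symm
        rw [e1, e2]; exact hdiv)
    let ψ : K →+* F := φ.toRingHom
    have HK : TitsField K (ex m) :=
      { two := ψ.injective (by rw [map_ofNat, H.two, map_zero])
        sq := fun x => ψ.injective (by rw [map_pow, map_pow, map_pow, H.sq])
        two_pow := H.two_pow }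
    have hpe : ∀ x : K, x ^ ex k = x ^ ex m := by
      obtain ⟨i, hi⟩ := hdiv
      obtain ⟨j, rfl⟩ : Odd i := (odd_two_mul_add_one m).of_dvd_nat ⟨2 * k + 1, by rw [hi, mul_comm]⟩
      have hmk : m = k + (2 * k + 1) * j := by linarith
      intro x
      have hfx : ∀ j, x ^ (2 ^ ((2 * k + 1) * j)) = x := by
        intro j
        induction j with
        | zero => simp
        | succ j ih => rw [Nat.mul_succ, pow_add, pow_mul, ih, ← hK, FiniteField.pow_card]
      show x ^ 2 ^ (k + 1) = x ^ 2 ^ (m + 1)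
      rw [hmk, show k + (2 * k + 1) * j + 1 = (2 * k + 1) * j + (k + 1) by omega,
        pow_add 2 ((2 * k + 1) * j), pow_mul x, hfx]
    let f : Cfsg.Sz K k →* Cfsg.Sz F m := iF.toMonoidHom.comp ((subfieldHom HK H ψ).comp
      ((MulEquiv.subgroupCongr (sz_congr hpe)).toMonoidHom.comp iK.symm.toMonoidHom))
    have hf : Function.Injective f :=
      iF.injective.comp ((subfieldHom_injective HK H ψ).comp
        ((MulEquiv.subgroupCongr (sz_congr hpe)).injective.comp iK.symm.injective))
    exact ⟨f.range, ⟨(MonoidHom.ofInjective hf).symm⟩⟩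
  · intro S₁ S₂ h₁ h₂
    have key : ∀ S : Subgroup (Cfsg.Sz F m), Nonempty (S ≃* Cfsg.Sz K k) →
        ∃ c : Cfsg.Lie.Sz F (ex m), ∃ L : _root_.Subfield F, Nat.card L = Fintype.card K ∧
          (S.map iF.symm.toMonoidHom).map (MulAut.conj c).toMonoidHom = subGen H L := by
      rintro S ⟨g⟩
      let g' : S.map iF.symm.toMonoidHom ≃* Cfsg.Lie.Sz K (ex k) :=
        ((iF.symm.subgroupMap S).symm.trans g).trans iK.symm
      refine conj_subGen_of_card H hm hF rfl _ (fun hsol => ?_) (s := Fintype.card K)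
        (Fintype.one_lt_card) ?_
      · exact not_isSolvable (titsField_of_card hK) hk hK rfl
          (Group.isSolvable_of_surjective (f := g'.toMonoidHom) g'.surjective)
      · rw [Nat.card_congr g'.toEquiv, natCard_Sz (titsField_of_card hK)]
    obtain ⟨c₁, L₁, hL₁, e₁⟩ := key S₁ h₁
    obtain ⟨c₂, L₂, hL₂, e₂⟩ := key S₂ h₂
    obtain rfl := subfield_eq_of_card L₁ L₂ (hL₁.trans hL₂.symm)
    refine ⟨iF (c₂⁻¹ * c₁), ?_⟩
    ext x
    have h := Subgroup.ext_iff.1 (e₁.trans e₂.symm) (c₂ * iF.symm x * c₂⁻¹)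
    simp only [Subgroup.mem_map_equiv, MulAut.conj_symm_apply, MulEquiv.symm_symm] at h
    rw [Subgroup.mem_map_equiv, MulAut.conj_symm_apply]
    rw [show c₂⁻¹ * (c₂ * iF.symm x * c₂⁻¹) * c₂ = iF.symm x by group, MulEquiv.apply_symm_apply] at h
    rw [← h]
    simp [mul_assoc]

end CfsgLib.KnownA.Suzuki
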