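import Cfsg.Agent.Lib.KnownA.Suzuki.Steinberg
import Cfsg.Agent.Lib.KnownA.Suzuki.DegreeArith
import Cfsg.Agent.Lib.CharApps.TorusFamilyVanish
import Cfsg.Agent.Lib.CharApps.Codegree
import Cfsg.Prelude.Def_DegreeGraph

/-!
# The families of irreducible characters of a Suzuki group

The irreducible characters are sorted by the three families belonging to the cyclic tori; the sum of
the squares of the degrees then leaves room for exactly one pair of further characters of degree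
`(q - 1) 2 ^ m`.
-/

set_option autoImplicit false
set_option linter.unusedSectionVars false

namespace CfsgLib.KnownA.Suzuki

open Cfsg.Lie CfsgLib Finset
open CfsgLib.CharApps.TorusFamily
open scoped ComplexConjugate

variable {F : Type*} [Field F] [Fintype F] {e m : ℕ} (H : TitsField F e) (hm : 1 ≤ m)
  (hF : Fintype.card F = 2 ^ (2 * m + 1)) (he : e = 2 ^ (m + 1))

open scoped Classical in
/-- The families of irreducible characters of a Suzuki group, with their values on the tori. -/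
structure CharTable [Fintype (Sz F e)] [Fintype (Cfsg.IrrCharacter (Sz F e))] (H : TitsField F e)
    (m : ℕ) where
  /-- the principal character -/
  one : Cfsg.IrrCharacter (Sz F e)
  /-- the Steinberg character -/
  St : Cfsg.IrrCharacter (Sz F e)
  /-- the family of the split torus -/
  X0 : Finset (Cfsg.IrrCharacter (Sz F e))
  /-- the family of the torus of order `kp` -/
  Xp : Finset (Cfsg.IrrCharacter (Sz F e))
  /-- the family of the torus of order `km` -/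
  Xn : Finset (Cfsg.IrrCharacter (Sz F e))
  /-- the two characters of degree `(q - 1) 2 ^ m` -/
  W : Finset (Cfsg.IrrCharacter (Sz F e))
  /-- a torus of order `kp` -/
  Up : Subgroup (Sz F e)
  /-- a torus of order `km` -/
  Um : Subgroup (Sz F e)
  split : ∀ {β : Type} [AddCommGroup β] (f : Cfsg.IrrCharacter (Sz F e) → β),
    ∑ χ, f χ = f one + f St + ∑ χ ∈ X0, f χ + ∑ χ ∈ Xp, f χ + ∑ χ ∈ Xn, f χ + ∑ χ ∈ W, f χ
  card0 : X0.card + 1 = 4 ^ m
  cardp : 2 * Xp.card = 4 ^ m + 2 ^ m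
  cardn : 2 * Xn.card + 2 ^ m = 4 ^ m
  cardW : W.card = 2
  one_apply : ∀ g, (one : Sz F e → ℂ) g = 1
  St_one : Cfsg.charDegree (St : Sz F e → ℂ) = Fintype.card F ^ 2
  St_tor : ∀ t : Fˣ, t ≠ 1 → (St : Sz F e → ℂ) (sh H t) = 1
  St_fpf : ∀ g, Fpf H g → (St : Sz F e → ℂ) g = -1
  St_four : ∀ g, g ^ 4 = 1 → g ≠ 1 → (St : Sz F e → ℂ) g = 0
  deg0 : ∀ χ ∈ X0, Cfsg.charDegree (χ : Sz F e → ℂ) = Fintype.card F ^ 2 + 1
  degp : ∀ χ ∈ Xp, Cfsg.charDegree (χ : Sz F e → ℂ) = (Fintype.card F - 1) * km m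
  degn : ∀ χ ∈ Xn, Cfsg.charDegree (χ : Sz F e → ℂ) = (Fintype.card F - 1) * kp m
  degW : ∀ χ ∈ W, Cfsg.charDegree (χ : Sz F e → ℂ) = (Fintype.card F - 1) * 2 ^ m
  natCard_Up : Nat.card Up = kp m
  natCard_Um : Nat.card Um = km m
  fpf_Up : ∀ u ∈ Up, u ≠ 1 → Fpf H u
  fpf_Um : ∀ u ∈ Um, u ≠ 1 → Fpf H u
  cent_Up : ∀ u ∈ Up, u ≠ 1 → Subgroup.centralizer ({u} : Set (Sz F e)) = Up
  cent_Um : ∀ u ∈ Um, u ≠ 1 → Subgroup.centralizer ({u} : Set (Sz F e)) = Um
  normalizer_Up : Nat.card (Subgroup.normalizer (Up : Set (Sz F e))) = 4 * kp m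
  normalizer_Um : Nat.card (Subgroup.normalizer (Um : Set (Sz F e))) = 4 * km m
  agree0 : ∀ g, (∀ w ∈ tor H, w ≠ 1 → ¬ IsConj g w) → ∀ χ ∈ X0, ∀ χ' ∈ X0,
    (χ : Sz F e → ℂ) g = (χ' : Sz F e → ℂ) g
  agreep : ∀ g, (∀ w ∈ Up, w ≠ 1 → ¬ IsConj g w) → ∀ χ ∈ Xp, ∀ χ' ∈ Xp,
    (χ : Sz F e → ℂ) g = (χ' : Sz F e → ℂ) g
  agreen : ∀ g, (∀ w ∈ Um, w ≠ 1 → ¬ IsConj g w) → ∀ χ ∈ Xn, ∀ χ' ∈ Xn,
    (χ : Sz F e → ℂ) g = (χ' : Sz F e → ℂ) g
  tor_zero : ∀ w ∈ tor H, w ≠ 1 → ∀ χ ∈ Xp ∪ Xn ∪ W, (χ : Sz F e → ℂ) w = 0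
  Up_zero : ∀ u ∈ Up, u ≠ 1 → ∀ χ ∈ X0 ∪ Xn, (χ : Sz F e → ℂ) u = 0
  Up_W : ∀ u ∈ Up, u ≠ 1 → ∀ χ ∈ W, (χ : Sz F e → ℂ) u = 1
  Um_zero : ∀ v ∈ Um, v ≠ 1 → ∀ χ ∈ X0 ∪ Xp, (χ : Sz F e → ℂ) v = 0
  Um_W : ∀ v ∈ Um, v ≠ 1 → ∀ χ ∈ W, (χ : Sz F e → ℂ) v = -1

include H hm hF he

theorem coprime_card_sub_one :
    Nat.Coprime (2 ^ (2 * m + 1) - 1) ((2 ^ (2 * m + 1)) ^ 2 + 1) := by
  obtain ⟨j, hj⟩ := Nat.exists_eq_add_of_le (Nat.one_le_two_pow (n := 2 * m + 1))
  rw [hj, Nat.add_sub_cancel_left, show (1 + j) ^ 2 + 1 = 2 + j * (2 + j) by ring]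
  refine (Nat.coprime_add_mul_left_right j 2 (2 + j)).2 (Nat.coprime_two_right.2 ?_)
  have h2 : Even (2 ^ (2 * m + 1)) := Nat.even_pow.2 ⟨even_two, by omega⟩
  rw [hj] at h2
  exact (Nat.even_add'.1 h2).1 odd_one

theorem not_fpf_tor {w : Sz F e} (hw : w ∈ tor H) : ¬ Fpf H w := by
  obtain ⟨t, rfl⟩ := hw
  exact fun h => h none (toSL_sh_none H t)

theorem exists_tor_fam [Fintype (Sz F e)] [Fintype (Cfsg.IrrCharacter (Sz F e))] :
    Nonempty (Fam (tor H) 2) := by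
  classical
  have hcard : Nat.card (tor H) = 2 ^ (2 * m + 1) - 1 := by
    rw [natCard_tor H, Nat.card_eq_fintype_card, hF]
  have hcyc : IsCyclic (tor H) := isCyclic_of_surjective
    (MonoidHom.mk' (fun t : Fˣ => (⟨sh H t, t, rfl⟩ : tor H))
      fun t s => Subtype.ext (sh_mul H t s).symm) fun ⟨g, t, h⟩ => ⟨t, Subtype.ext h.symm⟩
  refine exists_fam _ ?_ (fun u hu hu1 => ?_) 2
    ((natCard_normalizer_torus H hm hF he hcyc (Or.inl hcard)).1 hcard)
  · rw [hcard]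
    have : 2 ^ 3 ≤ 2 ^ (2 * m + 1) := Nat.pow_le_pow_right two_pos (by omega)
    omega
  · obtain ⟨t, rfl⟩ := hu
    exact centralizer_sh H fun h => hu1 (by rw [h, sh_one])

theorem exists_torus_fam [Fintype (Sz F e)] [Fintype (Cfsg.IrrCharacter (Sz F e))] {k : ℕ}
    (hk : k = kp m ∨ k = km m) :
    ∃ U : Subgroup (Sz F e), Nat.card U = k ∧ (∀ u ∈ U, u ≠ 1 → Fpf H u) ∧
      (∀ u ∈ U, u ≠ 1 → Subgroup.centralizer ({u} : Set (Sz F e)) = U) ∧
      Nat.card (Subgroup.normalizer (U : Set (Sz F e))) = 4 * k ∧ Nonempty (Fam U 4) := by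
  obtain ⟨U, hc, hcard, hcent, hN⟩ := exists_torus H hm hF he hk
  obtain ⟨-, hodd, h1⟩ := pairwise_coprime H hm (Or.inr hk) (Or.inr hk) dvd_rfl
  refine ⟨U, hcard, fun u hu hu1 => ?_, hcent, hN,
    exists_fam U (by rw [hcard]; rcases hodd with ⟨j, rfl⟩; omega) hcent 4 (by rw [hN, hcard])⟩
  have hd : orderOf u ∣ k := hcard ▸ Subgroup.orderOf_dvd_natCard U hu
  refine fpf_of_coprime H hm hF hu1 (hodd.of_dvd_nat hd) (Nat.Coprime.coprime_dvd_left hd ?_)
  refine Nat.Coprime.coprime_dvd_left ?_ (coprime_card_sub_one H hm hF he).symm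
  rw [← kp_mul_km]
  rcases hk with rfl | rfl
  exacts [dvd_mul_right _ _, dvd_mul_left _ _]

theorem not_isConj_of_card {U V : Subgroup (Sz F e)}
    (hU : ∀ u ∈ U, u ≠ 1 → Subgroup.centralizer ({u} : Set (Sz F e)) = U)
    (hV : ∀ v ∈ V, v ≠ 1 → Subgroup.centralizer ({v} : Set (Sz F e)) = V)
    (hne : Nat.card U ≠ Nat.card V) {u v : Sz F e} (hu : u ∈ U) (hu1 : u ≠ 1) (hv : v ∈ V)
    (hv1 : v ≠ 1) : ¬ IsConj u v := by
  intro h
  obtain ⟨k, rfl⟩ := isConj_iff.1 h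
  apply hne
  rw [← hV _ hv hv1, centralizer_conj H, hU u hu hu1,
    Subgroup.card_map_of_injective (MulAut.conj k).injective]

/-- An element of a torus of order `4 + 1` is conjugate to all the non-identity elements. -/
theorem isConj_of_card_five {U : Subgroup (Sz F e)} (h5 : Nat.card U = 5)
    (hU : ∀ u ∈ U, u ≠ 1 → Subgroup.centralizer ({u} : Set (Sz F e)) = U)
    (hN : Nat.card (Subgroup.normalizer (U : Set (Sz F e))) = 4 * 5) {u v : Sz F e}
    (hu : u ∈ U) (hu1 : u ≠ 1) (hv : v ∈ U) (hv1 : v ≠ 1) : IsConj u v := by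
  classical
  haveI := Fintype.ofFinite (Sz F e)
  let N : Finset (Sz F e) := univ.filter fun y => y ∈ Subgroup.normalizer (U : Set (Sz F e))
  let S : Finset (Sz F e) := (univ.filter fun x => x ∈ U).erase 1
  let T : Finset (Sz F e) := N.image fun y => y * u * y⁻¹
  have hNc : N.card = 20 := by
    rw [← Fintype.card_subtype, ← Nat.card_eq_fintype_card]; exact hN
  have hSc : S.card = 4 := by
    rw [Finset.card_erase_of_mem (by simp), ← Fintype.card_subtype, ← Nat.card_eq_fintype_card]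
    rw [show Nat.card {x // x ∈ U} = 5 from h5]
  have hTS : T ⊆ S := by
    intro x hx
    obtain ⟨y, hy, rfl⟩ := mem_image.1 hx
    refine mem_erase.2 ⟨fun h => hu1 (by simpa using h), mem_filter.2 ⟨mem_univ _, ?_⟩⟩
    exact (Subgroup.mem_normalizer_iff.1 (mem_filter.1 hy).2 _).1 hu
  have hle : N.card ≤ 5 * T.card := by
    refine Finset.card_le_mul_card_image N 5 fun b hb => ?_
    obtain ⟨y, -, hy⟩ := mem_image.1 hb
    refine (Finset.card_le_card_of_injOn (fun z => y⁻¹ * z) (t := univ.filter fun x => x ∈ U) ?_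
      (fun a _ b _ h => mul_left_cancel h)).trans (le_of_eq ?_)
    · intro z hz
      refine mem_coe.2 (mem_filter.2 ⟨mem_univ _, ?_⟩)
      rw [← hU u hu hu1, Subgroup.mem_centralizer_singleton_iff]
      have hz2 : z * u * z⁻¹ = y * u * y⁻¹ := ((mem_filter.1 (mem_coe.1 hz)).2).trans hy.symm
      calc y⁻¹ * z * u = y⁻¹ * (z * u * z⁻¹) * z := by group
        _ = u * (y⁻¹ * z) := by rw [hz2]; group
    · rw [← Fintype.card_subtype, ← Nat.card_eq_fintype_card]; exact h5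
  have hTS' : T = S := Finset.eq_of_subset_of_card_le hTS (by omega)
  obtain ⟨y, -, hy⟩ := mem_image.1 (show v ∈ T by rw [hTS']; simp [S, hv, hv1])
  exact isConj_iff.2 ⟨y, hy⟩

set_option maxHeartbeats 2000000 in
/-- The families exist. -/
theorem exists_charTable [Fintype (Sz F e)] [Fintype (Cfsg.IrrCharacter (Sz F e))] :
    Nonempty (CharTable H m) := by
  classical
  obtain ⟨one, hone⟩ : ∃ χ : Cfsg.IrrCharacter (Sz F e), ∀ g, (χ : Sz F e → ℂ) g = 1 :=
    ⟨Chars.principal _, fun g => rfl⟩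
  obtain ⟨St, hStd, hStt, hStf, hSts⟩ := exists_steinberg H hF
  obtain ⟨F0⟩ := exists_tor_fam H hm hF he
  have hone1 : Cfsg.charDegree (one : Sz F e → ℂ) = 1 := (CharApps.deg_eq_one_iff one).1 (hone 1)
  -- numerical facts
  set M : ℤ := 2 ^ m with hMdef
  have hM : 2 ≤ M := le_self_pow₀ (by norm_num) (by omega)
  have hQ : (Fintype.card F : ℤ) = 2 * M ^ 2 := by rw [hF, hMdef]; push_cast; ring
  have hQ1 : ((Fintype.card F - 1 : ℕ) : ℤ) = 2 * M ^ 2 - 1 := by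
    rw [Nat.cast_sub Fintype.card_pos, hQ]; norm_num
  have hkp : (kp m : ℤ) = 2 * M ^ 2 + 2 * M + 1 := by
    rw [hMdef]; simp only [kp]; push_cast; ring
  have hkm : (km m : ℤ) = 2 * M ^ 2 - 2 * M + 1 := by
    rw [hMdef]; simp only [km]; push_cast [Nat.cast_sub (pow_succ_le m)]; ring
  have h8 : 8 ≤ 2 * M ^ 2 := by nlinarith only [hM]
  have ht0 : (F0.X.card : ℤ) = M ^ 2 - 1 := by
    have h := F0.card
    rw [natCard_tor H, Nat.card_eq_fintype_card] at h
    have h' : (F0.X.card : ℤ) * 2 + 1 = ((Fintype.card F - 1 : ℕ) : ℤ) := by exact_mod_cast h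
    linarith only [h', hQ1]
  have ht03 : 3 ≤ F0.X.card := by
    have : (3 : ℤ) ≤ F0.X.card := by nlinarith only [ht0, hM]
    exact_mod_cast this
  -- the torus of order `q - 1`
  obtain ⟨hone0, hone0a⟩ := F0.a_eq (by omega) (χ := one) (c := 1) fun u _ _ => by
    rw [hone, Int.cast_one]
  obtain ⟨hSt0, hSt0a⟩ := F0.a_eq (by omega) (χ := St) (c := 1) fun u hu hu1 => by
    obtain ⟨t, rfl⟩ := hu
    rw [hStt t fun h => hu1 (by rw [h, sh_one]), Int.cast_one]
  have hne : one ≠ St := fun h => by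
    rw [← h, hone1] at hStd
    have : 1 < Fintype.card F ^ 2 := Nat.one_lt_pow two_ne_zero Fintype.one_lt_card
    omega
  have hshift0 := F0.shift_nonneg ht03
  have ha0 : ∀ χ, χ ∉ F0.X → χ ≠ one → χ ≠ St → F0.a χ = 0 := by
    intro χ hχ h1 h2
    have h := F0.norm_le (S := {one, St, χ}) fun x hx => by
      simp only [mem_insert, mem_singleton] at hx
      rcases hx with rfl | rfl | rfl <;> assumption
    rw [Finset.sum_insert (by simp [hne, Ne.symm h1]), Finset.sum_pair (Ne.symm h2), hone0a, hSt0a] at h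
    push_cast at h
    exact mul_self_eq_zero.1 (le_antisymm (by linarith only [h, hshift0]) (mul_self_nonneg _))
  have hsum0 : ∀ f : Cfsg.IrrCharacter (Sz F e) → ℤ, ∑ χ ∈ univ \ F0.X, F0.a χ * f χ = f one + f St := by
    intro f
    rw [Finset.sum_eq_add one St hne (fun χ hχ h => by
        rw [ha0 χ (mem_sdiff.1 hχ).2 h.1 h.2, zero_mul])
      (fun h => absurd (mem_sdiff.2 ⟨mem_univ _, hone0⟩) h)
      (fun h => absurd (mem_sdiff.2 ⟨mem_univ _, hSt0⟩) h), hone0a, hSt0a, one_mul, one_mul]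
  have hr0 : F0.r = 0 := by
    have h := F0.norm
    rw [hsum0 F0.a, hone0a, hSt0a] at h
    push_cast at h
    by_contra hr
    have h3 : (3 : ℤ) ≤ F0.X.card := by exact_mod_cast ht03
    have h1 := Int.add_one_le_of_lt (mul_self_pos.2 hr)
    have h4 := mul_le_mul_of_nonneg_right h3 (mul_self_nonneg F0.r)
    rcases F0.sign with hs | hs <;> rw [hs] at h <;>
      nlinarith only [h, h1, h4, mul_self_nonneg (F0.r - 1), mul_self_nonneg (F0.r + 1)]
  have hD0 : (F0.D : ℤ) = (2 * M ^ 2) ^ 2 + 1 := by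
    have h := F0.weight
    rw [hsum0 fun χ => (Cfsg.charDegree (χ : Sz F e → ℂ) : ℤ), hone1, hStd, hr0] at h
    push_cast at h
    rw [hQ] at h
    rcases F0.sign with hs | hs <;> rw [hs] at h
    · linear_combination -h
    · nlinarith only [h, F0.D.cast_nonneg (α := ℤ), sq_nonneg (2 * M ^ 2)]
  let R : Finset (Cfsg.IrrCharacter (Sz F e)) := (univ \ F0.X) \ {one, St}
  have hR : ∀ χ, χ ∈ R ↔ χ ∉ F0.X ∧ χ ≠ one ∧ χ ≠ St := fun χ => by simp [R]
  have hsplit : ∀ f : Cfsg.IrrCharacter (Sz F e) → ℤ,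
      ∑ χ, f χ = ∑ χ ∈ F0.X, f χ + (f one + f St) + ∑ χ ∈ R, f χ := by
    intro f
    have h2 : ({one, St} : Finset (Cfsg.IrrCharacter (Sz F e))) ⊆ univ \ F0.X := by
      intro x hx
      simp only [mem_insert, mem_singleton] at hx
      rcases hx with rfl | rfl <;> exact mem_sdiff.2 ⟨mem_univ _, by assumption⟩
    rw [← Finset.sum_sdiff (Finset.subset_univ F0.X), ← Finset.sum_sdiff h2, Finset.sum_pair hne]
    ring
  let Nf : Cfsg.IrrCharacter (Sz F e) → ℤ := fun χ =>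
    (Cfsg.charDegree (χ : Sz F e → ℂ) : ℤ) / (2 * M ^ 2 - 1)
  have hNf : ∀ χ ∈ R, (Cfsg.charDegree (χ : Sz F e → ℂ) : ℤ) = (2 * M ^ 2 - 1) * Nf χ ∧ 0 < Nf χ := by
    intro χ hχ
    obtain ⟨h0, h1, h2⟩ := (hR χ).1 hχ
    have h := F0.dvd χ h0
    rw [ha0 χ h0 h1 h2, sub_zero, natCard_tor H, Nat.card_eq_fintype_card, hQ1] at h
    have he' := (Int.mul_ediv_cancel' h).symm
    have hp : (0 : ℤ) < Cfsg.charDegree (χ : Sz F e → ℂ) := by exact_mod_cast CharApps.deg_pos χ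
    refine ⟨he', ?_⟩
    show (0 : ℤ) < _ / _
    nlinarith only [he', hp, h8]
  have hT : 2 * ∑ χ ∈ R, Nf χ ^ 2 = (M ^ 2 + M) * (2 * M ^ 2 - 2 * M + 1) ^ 2 +
      (M ^ 2 - M) * (2 * M ^ 2 + 2 * M + 1) ^ 2 + 4 * M ^ 2 := by
    have h : ∑ χ, ((Cfsg.charDegree ((χ : Cfsg.IrrCharacter (Sz F e)) : Sz F e → ℂ) : ℤ)) ^ 2 =
        ((Nat.card (Sz F e) : ℕ) : ℤ) := by exact_mod_cast CharApps.sum_degree_sq_nat (G := Sz F e)
    rw [hsplit, natCard_Sz H, hone1, hStd, Finset.sum_congr rfl (fun χ hχ => by rw [F0.deg χ hχ, hD0] :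
        ∀ χ ∈ F0.X, (Cfsg.charDegree (χ : Sz F e → ℂ) : ℤ) ^ 2 = ((2 * M ^ 2) ^ 2 + 1) ^ 2),
      Finset.sum_congr rfl (fun χ hχ => by rw [(hNf χ hχ).1, mul_pow] :
        ∀ χ ∈ R, (Cfsg.charDegree (χ : Sz F e → ℂ) : ℤ) ^ 2 = (2 * M ^ 2 - 1) ^ 2 * Nf χ ^ 2),
      Finset.sum_const, nsmul_eq_mul, ← Finset.mul_sum, Nat.cast_mul, Nat.cast_mul, hQ1] at h
    push_cast at h
    rw [hQ, ht0] at h
    refine mul_left_cancel₀ (pow_ne_zero 2 (by linarith only [h8] : (2 * M ^ 2 - 1) ≠ 0)) ?_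
    linear_combination 2 * h
  -- the two fixed point free tori
  have hfp : ∀ g, Fpf H g → ∀ w ∈ tor H, w ≠ 1 → ¬ IsConj g w := by
    intro g hg w hw _ hc
    obtain ⟨k, rfl⟩ := isConj_iff.1 hc
    exact not_fpf_tor H hm hF he hw (fpf_conj H hg k)
  have key : ∀ (U : Subgroup (Sz F e)) (Fm : Fam U 4), (∀ u ∈ U, u ≠ 1 → Fpf H u) → 3 ≤ Fm.X.card →
      Fm.X ⊆ R ∧ (∀ u ∈ U, u ≠ 1 → (one : Sz F e → ℂ) u = ((1 : ℤ) : ℂ) ∧
        (St : Sz F e → ℂ) u = ((-1 : ℤ) : ℂ)) ∧ (∀ χ ∈ F0.X, χ ∉ Fm.X ∧ Fm.a χ = 0) ∧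
      ∃ u : ℤ, (∀ χ ∈ Fm.X, Nf χ = u) ∧
        (∑ χ ∈ R \ Fm.X, Fm.a χ * Fm.a χ) + (Fm.X.card : ℤ) * Fm.r * Fm.r - 2 * Fm.ε * Fm.r = 2 ∧
        -(2 * M ^ 2 + 1) + (∑ χ ∈ R \ Fm.X, Fm.a χ * Nf χ) + ((Fm.X.card : ℤ) * Fm.r - Fm.ε) * u = 0 ∧
        ∀ χ ∈ R \ Fm.X, (Nat.card U : ℤ) ∣ (2 * M ^ 2 - 1) * Nf χ - Fm.a χ := by
    intro U Fm hU h3
    have hv : ∀ u ∈ U, u ≠ 1 → (one : Sz F e → ℂ) u = ((1 : ℤ) : ℂ) ∧
        (St : Sz F e → ℂ) u = ((-1 : ℤ) : ℂ) := fun u hu hu1 => by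
      rw [hone, hStf u (hU u hu hu1)]; norm_num
    obtain ⟨h1X, h1a⟩ := Fm.a_eq (by omega) fun u hu hu1 => (hv u hu hu1).1
    obtain ⟨hSX, hSa⟩ := Fm.a_eq (by omega) fun u hu hu1 => (hv u hu hu1).2
    have hvan := Fm.vanish le_rfl h3 (s := 1) (t := -1) rfl rfl hne (fun u hu hu1 => (hv u hu hu1).1)
      (fun u hu hu1 => (hv u hu hu1).2) ht03 hone0 hSt0
      (fun χ hχ χ' hχ' u hu hu1 => F0.agree u (hfp u (hU u hu hu1)) χ hχ χ' hχ')
    have hsub : Fm.X ⊆ R := fun χ hχ => (hR χ).2 ⟨fun h => (hvan χ h).1 hχ,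
      fun h => h1X (h ▸ hχ), fun h => hSX (h ▸ hχ)⟩
    have hs : ∀ f : Cfsg.IrrCharacter (Sz F e) → ℤ,
        ∑ χ ∈ univ \ Fm.X, Fm.a χ * f χ = f one - f St + ∑ χ ∈ R \ Fm.X, Fm.a χ * f χ := by
      intro f
      have h := hsplit fun χ => Fm.a χ * f χ
      rw [Finset.sum_eq_zero (s := F0.X) fun χ hχ => by rw [(hvan χ hχ).2, zero_mul], h1a, hSa,
        ← Finset.sum_sdiff (Finset.subset_univ Fm.X), ← Finset.sum_sdiff hsub] at h
      linarith only [h]
    obtain ⟨χ₀, hχ₀⟩ := Finset.card_pos.1 (show 0 < Fm.X.card by omega)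
    have hu : ∀ χ ∈ Fm.X, Nf χ = Nf χ₀ := fun χ hχ => by
      show (_ : ℤ) / _ = _ / _
      rw [Fm.deg χ hχ, Fm.deg χ₀ hχ₀]
    refine ⟨hsub, hv, hvan, Nf χ₀, hu, ?_, ?_, fun χ hχ => ?_⟩
    · have h := Fm.norm
      rw [hs Fm.a, h1a, hSa] at h
      push_cast at h
      linarith only [h]
    · have h := Fm.weight
      rw [hs fun χ => (Cfsg.charDegree (χ : Sz F e → ℂ) : ℤ), hone1, hStd,
        Finset.sum_congr rfl (fun χ hχ => by rw [(hNf χ (mem_sdiff.1 hχ).1).1]; ring :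
          ∀ χ ∈ R \ Fm.X, Fm.a χ * (Cfsg.charDegree (χ : Sz F e → ℂ) : ℤ) =
            (2 * M ^ 2 - 1) * (Fm.a χ * Nf χ)), ← Finset.mul_sum, ← Fm.deg χ₀ hχ₀,
        (hNf χ₀ (hsub hχ₀)).1] at h
      push_cast at h
      rw [hQ] at h
      refine mul_left_cancel₀ (by linarith only [h8] : (2 * M ^ 2 - 1) ≠ 0) ?_
      linear_combination h
    · have h := Fm.dvd χ (mem_sdiff.1 hχ).2
      rwa [(hNf χ (mem_sdiff.1 hχ).1).1] at h
  obtain ⟨Up, hUpc, hUpf, hUpcent, hUpN, ⟨Fp⟩⟩ := exists_torus_fam H hm hF he (k := kp m) (Or.inl rfl)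
  obtain ⟨Um, hUmc, hUmf, hUmcent, hUmN, ⟨Fn⟩⟩ := exists_torus_fam H hm hF he (k := km m) (Or.inr rfl)
  have htp : 2 * (Fp.X.card : ℤ) = M ^ 2 + M := by
    have h := Fp.card
    rw [hUpc] at h
    have h' : (Fp.X.card : ℤ) * 4 + 1 = (kp m : ℤ) := by exact_mod_cast h
    linarith only [h', hkp]
  have htp3 : 3 ≤ Fp.X.card := by
    have : (3 : ℤ) ≤ Fp.X.card := by nlinarith only [htp, hM]
    exact_mod_cast this
  obtain ⟨hXpR, hvp, hvan0p, u, hXu, hnorm, hweight, hdvdp⟩ := key Up Fp hUpf htp3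
  have hnc : ∀ u ∈ Up, u ≠ 1 → ∀ v ∈ Um, v ≠ 1 → ¬ IsConj u v := fun u hu hu1 v hv hv1 =>
    not_isConj_of_card H hm hF he hUpcent hUmcent (by
      rw [hUpc, hUmc]
      intro h
      have h' : (kp m : ℤ) = km m := by rw [h]
      rw [hkp, hkm] at h'
      linarith only [h', hM]) hu hu1 hv hv1
  have hcop : ∀ k, k = kp m ∨ k = km m → IsCoprime (k : ℤ) (2 * M ^ 2 - 1) := by
    intro k hk
    rw [← hQ1, Nat.isCoprime_iff_coprime, hF]
    refine Nat.Coprime.coprime_dvd_left ?_ (coprime_card_sub_one H hm hF he).symm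
    rw [← kp_mul_km]
    rcases hk with rfl | rfl
    exacts [dvd_mul_right _ _, dvd_mul_left _ _]
  -- the characters that remain
  obtain ⟨Xn, W, hXnR, rfl, hXpN, hXnN, hWN, hXnc, hWc, hagn, hzeron, hWn, hap0, hap1⟩ :
      ∃ Xn W : Finset (Cfsg.IrrCharacter (Sz F e)), Xn ⊆ R \ Fp.X ∧ W = (R \ Fp.X) \ Xn ∧
      (∀ χ ∈ Fp.X, Nf χ = 2 * M ^ 2 - 2 * M + 1) ∧ (∀ χ ∈ Xn, Nf χ = 2 * M ^ 2 + 2 * M + 1) ∧
      (∀ χ ∈ W, Nf χ = M) ∧ 2 * (Xn.card : ℤ) = M ^ 2 - M ∧ W.card = 2 ∧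
      (∀ g, (∀ v ∈ Um, v ≠ 1 → ¬ IsConj g v) → ∀ χ ∈ Xn, ∀ χ' ∈ Xn,
        (χ : Sz F e → ℂ) g = (χ' : Sz F e → ℂ) g) ∧
      (∀ v ∈ Um, v ≠ 1 → ∀ χ ∈ F0.X ∪ Fp.X, (χ : Sz F e → ℂ) v = 0) ∧
      (∀ v ∈ Um, v ≠ 1 → ∀ χ ∈ W, (χ : Sz F e → ℂ) v = -1) ∧
      (∀ χ ∈ Xn, Fp.a χ = 0) ∧ (∀ χ ∈ W, Fp.a χ = 1) := by
    obtain ⟨x, hx⟩ := Finset.card_pos.1 (show 0 < Fp.X.card by omega)
    by_cases hm2 : 2 ≤ m
    · have hM4 : 4 ≤ M := by
        rw [hMdef]
        exact le_trans (by norm_num : (4 : ℤ) ≤ 2 ^ 2) (pow_le_pow_right₀ (by norm_num) hm2)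
      have htn : 2 * (Fn.X.card : ℤ) = M ^ 2 - M := by
        have h := Fn.card
        rw [hUmc] at h
        have h' : (Fn.X.card : ℤ) * 4 + 1 = (km m : ℤ) := by exact_mod_cast h
        linarith only [h', hkm]
      have htn3 : 3 ≤ Fn.X.card := by
        have : (3 : ℤ) ≤ Fn.X.card := by nlinarith only [htn, hM4]
        exact_mod_cast this
      obtain ⟨hXnR, hvn, hvan0n, w, hXw, hnormn, -, hdvdn⟩ := key Um Fn hUmf htn3
      have hvan1 := Fp.vanish le_rfl htp3 (s := 1) (t := -1) rfl rfl hne (fun u hu hu1 => (hvp u hu hu1).1)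
        (fun u hu hu1 => (hvp u hu hu1).2) htn3 (fun h => ((hR _).1 (hXnR h)).2.1 rfl)
        (fun h => ((hR _).1 (hXnR h)).2.2 rfl)
        (fun χ hχ χ' hχ' u hu hu1 => Fn.agree u (hnc u hu hu1) χ hχ χ' hχ')
      have hvan2 := Fn.vanish le_rfl htn3 (s := 1) (t := -1) rfl rfl hne (fun u hu hu1 => (hvn u hu hu1).1)
        (fun u hu hu1 => (hvn u hu hu1).2) htp3 (fun h => ((hR _).1 (hXpR h)).2.1 rfl)
        (fun h => ((hR _).1 (hXpR h)).2.2 rfl)
        (fun χ hχ χ' hχ' v hv hv1 => Fp.agree v (fun u hu hu1 hc => hnc u hu hu1 v hv hv1 hc.symm) χ hχ χ' hχ')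
      obtain ⟨y, hy⟩ := Finset.card_pos.1 (show 0 < Fn.X.card by omega)
      have hY : Fn.X ⊆ R \ Fp.X := fun χ hχ => mem_sdiff.2 ⟨hXnR hχ, (hvan1 χ hχ).1⟩
      have hdu : 2 * M ^ 2 - 2 * M + 1 ∣ u := by
        have h := hdvdn x (mem_sdiff.2 ⟨hXpR hx, (hvan2 x hx).1⟩)
        rw [(hvan2 x hx).2, sub_zero, hXu x hx, hUmc] at h
        exact hkm ▸ (hcop _ (Or.inr rfl)).dvd_of_dvd_mul_left h
      have hdw : 2 * M ^ 2 + 2 * M + 1 ∣ w := by
        have h := hdvdp y (hY hy)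
        rw [(hvan1 y hy).2, sub_zero, hXw y hy, hUpc] at h
        exact hkp ▸ (hcop _ (Or.inl rfl)).dvd_of_dvd_mul_left h
      obtain ⟨hu', hw', hrest, z, hz⟩ := DegreeArith.core Nf Fp.a hM4 (fun i hi => (hNf i hi).2) hXpR
        hY htp htn rfl rfl hXu hXw hdu hdw hT Fp.sign (fun i hi => (hvan1 i hi).2) hnorm hweight
      have hdfact : ∀ χ ∈ (R \ Fp.X) \ Fn.X, Nf χ = M := hrest
      have hWc : ((((R \ Fp.X) \ Fn.X).card : ℕ) : ℤ) = 2 := by
        have hs := hT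
        rw [DegreeArith.eq_sdiff_union hXpR hY,
          Finset.sum_congr rfl (fun i hi => by rw [hXu i hi, hu'] :
            ∀ i ∈ Fp.X, Nf i ^ 2 = (2 * M ^ 2 - 2 * M + 1) ^ 2),
          Finset.sum_congr rfl (fun i hi => by rw [hXw i hi, hw'] :
            ∀ i ∈ Fn.X, Nf i ^ 2 = (2 * M ^ 2 + 2 * M + 1) ^ 2),
          Finset.sum_congr rfl (fun i hi => by rw [hdfact i hi] : ∀ i ∈ (R \ Fp.X) \ Fn.X, Nf i ^ 2 = M ^ 2),
          Finset.sum_const, Finset.sum_const, Finset.sum_const] at hs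
        simp only [nsmul_eq_mul] at hs
        refine mul_right_cancel₀ (show 2 * M ^ 2 ≠ 0 by positivity) ?_
        linear_combination hs - (2 * M ^ 2 - 2 * M + 1) ^ 2 * htp - (2 * M ^ 2 + 2 * M + 1) ^ 2 * htn
      have hWp : ∀ χ ∈ (R \ Fp.X) \ Fn.X, Fp.a χ = 1 := by
        intro χ hχ
        obtain ⟨hχ1, -⟩ := mem_sdiff.1 hχ
        have hsh := Fp.shift_nonneg htp3
        have hsq : Fp.a χ * Fp.a χ ≤ 2 := by
          have := Finset.single_le_sum (f := fun i => Fp.a i * Fp.a i) (fun i _ => mul_self_nonneg _) hχ1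
          linarith only [this, hnorm, hsh]
        have hb : -1 ≤ Fp.a χ ∧ Fp.a χ ≤ 1 := by constructor <;> nlinarith only [hsq]
        have h := hdvdp χ hχ1
        rw [hdfact χ hχ, hUpc, hkp] at h
        have h2 : 2 * M ^ 2 + 2 * M + 1 ∣ Fp.a χ - 1 := by
          obtain ⟨c, hc⟩ := h
          exact ⟨M - 1 - c, by linear_combination -hc⟩
        have := Int.eq_zero_of_abs_lt_dvd h2 (abs_lt.2 ⟨by nlinarith only [hb.1, hM], by nlinarith only [hb.2, hM]⟩)
        linarith only [this]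
      have hWn : ∀ χ ∈ (R \ Fp.X) \ Fn.X, Fn.a χ = -1 := by
        intro χ hχ
        obtain ⟨hχ1, hχ2⟩ := mem_sdiff.1 hχ
        have hχ3 : χ ∈ R \ Fn.X := mem_sdiff.2 ⟨(mem_sdiff.1 hχ1).1, hχ2⟩
        have hsh := Fn.shift_nonneg htn3
        have hsq : Fn.a χ * Fn.a χ ≤ 2 := by
          have := Finset.single_le_sum (f := fun i => Fn.a i * Fn.a i) (fun i _ => mul_self_nonneg _) hχ3
          linarith only [this, hnormn, hsh]
        have hb : -1 ≤ Fn.a χ ∧ Fn.a χ ≤ 1 := by constructor <;> nlinarith only [hsq]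
        have h := hdvdn χ hχ3
        rw [hdfact χ hχ, hUmc, hkm] at h
        have h2 : 2 * M ^ 2 - 2 * M + 1 ∣ Fn.a χ + 1 := by
          obtain ⟨c, hc⟩ := h
          exact ⟨M + 1 - c, by linear_combination -hc⟩
        have := Int.eq_zero_of_abs_lt_dvd h2 (abs_lt.2 ⟨by nlinarith only [hb.1, hM4], by nlinarith only [hb.2, hM4]⟩)
        linarith only [this]
      refine ⟨Fn.X, (R \ Fp.X) \ Fn.X, hY, rfl, fun χ hχ => (hXu χ hχ).trans hu',
        fun χ hχ => (hXw χ hχ).trans hw', hdfact, htn, by exact_mod_cast hWc, Fn.agree, ?_, ?_, ?_⟩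
      · intro v hv hv1 χ hχ
        rcases mem_union.1 hχ with h | h
        · rw [Fn.const χ (hvan0n χ h).1 v hv hv1, (hvan0n χ h).2, Int.cast_zero]
        · rw [Fn.const χ (hvan2 χ h).1 v hv hv1, (hvan2 χ h).2, Int.cast_zero]
      · intro v hv hv1 χ hχ
        rw [Fn.const χ (mem_sdiff.1 hχ).2 v hv hv1, hWn χ hχ, Int.cast_neg, Int.cast_one]
      · exact ⟨fun χ hχ => (hvan1 χ hχ).2, hWp⟩
    · -- the field with eight elements
      obtain rfl : m = 1 := by omega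
      have hM2 : M = 2 := by rw [hMdef]; norm_num
      have h5 : Nat.card Um = 5 := by rw [hUmc]; rfl
      haveI : Nontrivial Um := Finite.one_lt_card_iff_nontrivial.1 (by omega)
      obtain ⟨⟨v, hv⟩, hv'⟩ := exists_ne (1 : Um)
      have hv1 : v ≠ 1 := fun h => hv' (Subtype.ext h)
      haveI := Fintype.ofFinite Um
      have hint : ∀ χ : Cfsg.IrrCharacter (Sz F e), ∃ z : ℤ, (χ : Sz F e → ℂ) v = z ∧
          5 ∣ (Cfsg.charDegree (χ : Sz F e → ℂ) : ℤ) - z := by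
        intro χ
        obtain ⟨k, hk⟩ := Chars.inner_irr_right_nat
          (Chars.isCharacter_restrict Um (Chars.isCharacter_of_irr χ.2)) (Chars.principal Um)
        have hsum : ∑ u : Um, (χ : Sz F e → ℂ) u =
            (Cfsg.charDegree (χ : Sz F e → ℂ) : ℂ) + 4 * (χ : Sz F e → ℂ) v := by
          rw [← Finset.add_sum_erase _ _ (mem_univ (1 : Um)), Subgroup.coe_one, CharApps.deg_eq,
            Finset.sum_congr rfl (fun w hw => ?_ : ∀ w ∈ univ.erase (1 : Um),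
              (χ : Sz F e → ℂ) w = (χ : Sz F e → ℂ) v),
            Finset.sum_const, Finset.card_erase_of_mem (mem_univ _), Finset.card_univ,
            ← Nat.card_eq_fintype_card, h5, nsmul_eq_mul]
          · norm_num
          · obtain ⟨k, hk⟩ := isConj_iff.1 (isConj_of_card_five H hm hF he h5 hUmcent
              (by rw [hUmN]; rfl) hv hv1 w.2 fun h => (mem_erase.1 hw).1 (Subtype.ext h))
            rw [← hk]
            exact Chars.isClassFunction_irr χ v k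
        have hk' : (Cfsg.charDegree (χ : Sz F e → ℂ) : ℂ) + 4 * (χ : Sz F e → ℂ) v = 5 * (k : ℂ) := by
          rw [← hsum]
          rw [Chars.inner_def, h5] at hk
          simp only [Chars.principal_apply, map_one, mul_one] at hk
          push_cast at hk
          linear_combination 5 * hk
        have heq : (χ : Sz F e → ℂ) v =
            ((((5 * k : ℤ) - Cfsg.charDegree (χ : Sz F e → ℂ) : ℤ) : ℚ) / 4 : ℚ) := by
          push_cast; linear_combination hk' / 4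
        obtain ⟨z, hz⟩ := Chars.exists_int_of_isIntegral_rat _
          (heq ▸ Chars.char_isIntegral (Chars.isCharacter_of_irr χ.2) v)
        have hzv : (χ : Sz F e → ℂ) v = z := by rw [heq, hz]; norm_cast
        refine ⟨z, hzv, (k : ℤ) - z, ?_⟩
        apply Int.cast_injective (α := ℂ)
        push_cast
        linear_combination hk' - 4 * hzv
      choose z hzv hzd using hint
      have hone_z : z one = 1 := Int.cast_injective (α := ℂ) (by rw [← hzv, hone, Int.cast_one])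
      have hSt_z : z St = -1 := Int.cast_injective (α := ℂ) (by
        rw [← hzv, hStf v (hUmf v hv hv1)]; norm_num)
      have hz5 : ∑ χ, z χ * z χ = 5 := by
        apply Int.cast_injective (α := ℂ)
        push_cast
        have h := Chars.second_orthogonality v v
        rw [if_pos (IsConj.refl v), hUmcent v hv hv1, h5] at h
        push_cast at h
        rw [← h]
        exact Finset.sum_congr rfl fun χ _ => by rw [hzv, map_intCast]
      obtain ⟨s, hs4, hs1⟩ : ∃ s : Sz F e, s ^ 4 = 1 ∧ s ≠ 1 := by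
        refine ⟨sz H 1, ?_, fun h => ?_⟩
        · have h2 : sz H (1 : F) * sz H 1 = 1 := by rw [sz_mul, H.add_self, sz, su_zero]
          simp only [pow_succ, pow_zero, one_mul, mul_assoc, h2, mul_one]
        · exact one_ne_zero (su_inj H (h.trans (su_zero H).symm)).2
      have hStsconj : ∀ w : Sz F e, IsConj s w → (St : Sz F e → ℂ) w = 0 := fun w hw => by
        obtain ⟨k, rfl⟩ := isConj_iff.1 hw
        rw [Chars.isClassFunction_irr St s k, hSts s hs4 hs1]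
      have hno : ∀ Y : Finset (Cfsg.IrrCharacter (Sz F e)), Y.card = 3 → one ∉ Y → St ∉ Y →
          ∀ c : ℤ, (∀ χ ∈ Y, z χ = c) →
          (∀ χ ∈ Y, ∀ χ' ∈ Y, (χ : Sz F e → ℂ) s = (χ' : Sz F e → ℂ) s) → c = 0 := by
        intro Y hY h1Y hSY c hc hys
        by_contra hc0
        have hc1 : 1 ≤ c * c := Int.add_one_le_of_lt (mul_self_pos.2 hc0)
        obtain ⟨y, hy⟩ := Finset.card_pos.1 (show 0 < Y.card by omega)
        set S := insert one (insert St Y) with hS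
        have hS' : ∑ χ ∈ S, z χ * z χ = 2 + 3 * (c * c) := by
          rw [Finset.sum_insert (by simp [hne, h1Y]), Finset.sum_insert hSY, hone_z, hSt_z,
            Finset.sum_congr rfl (fun χ hχ => by rw [hc χ hχ] : ∀ χ ∈ Y, z χ * z χ = c * c),
            Finset.sum_const, hY, nsmul_eq_mul]
          push_cast; ring
        rw [← Finset.sum_sdiff (Finset.subset_univ S), hS'] at hz5
        have hrest0 : 0 ≤ ∑ χ ∈ univ \ S, z χ * z χ := Finset.sum_nonneg fun _ _ => mul_self_nonneg _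
        have hcc : c * c = 1 := by omega
        have hzero : ∀ χ ∈ univ \ S, z χ = 0 := fun χ hχ => mul_self_eq_zero.1
          ((Finset.sum_eq_zero_iff_of_nonneg fun _ _ => mul_self_nonneg _).1 (by omega) χ hχ)
        have h := Chars.second_orthogonality v s
        rw [if_neg fun hc' => by
            have := hStsconj v hc'
            rw [hStf v (hUmf v hv hv1)] at this
            norm_num at this,
          ← Finset.sum_sdiff (Finset.subset_univ S),
          Finset.sum_eq_zero (s := univ \ S) fun χ hχ => by rw [hzv, hzero χ hχ, Int.cast_zero, zero_mul],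
          Finset.sum_insert (by simp [hne, h1Y]), Finset.sum_insert hSY, hone, hone, hSts s hs4 hs1,
          map_one, map_zero, Finset.sum_congr rfl (fun χ hχ => by rw [hzv, hc χ hχ, hys χ hχ y hy] :
            ∀ χ ∈ Y, (χ : Sz F e → ℂ) v * conj ((χ : Sz F e → ℂ) s) =
              (c : ℂ) * conj ((y : Sz F e → ℂ) s)),
          Finset.sum_const, hY, nsmul_eq_mul] at h
        push_cast at h
        have hcC : (c : ℂ) * c = 1 := by exact_mod_cast hcc
        have hq : (y : Sz F e → ℂ) s⁻¹ = (((-c : ℤ) : ℚ) / 3 : ℚ) := by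
          rw [Chars.irr_inv]
          push_cast
          linear_combination (c : ℂ) / 3 * h - conj ((y : Sz F e → ℂ) s) * hcC
        obtain ⟨n, hn⟩ := Chars.exists_int_of_isIntegral_rat _
          (hq ▸ Chars.char_isIntegral (Chars.isCharacter_of_irr y.2) s⁻¹)
        have hn' : -c = 3 * n := by
          have : ((-c : ℤ) : ℚ) = 3 * (n : ℚ) := by linear_combination 3 * hn
          exact_mod_cast this
        rw [show c = -(3 * n) by omega] at hcc
        have : n * n * 9 = 1 := by linear_combination hcc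
        omega
      have hs0 : ∀ w ∈ tor H, w ≠ 1 → ¬ IsConj s w := by
        intro w hw hw1 hc
        obtain ⟨t, rfl⟩ := hw
        have h := hStsconj _ hc
        rw [hStt t fun h => hw1 (by rw [h, sh_one])] at h
        exact one_ne_zero h
      have hsp : ∀ w ∈ Up, w ≠ 1 → ¬ IsConj s w := by
        intro w hw hw1 hc
        have h := hStsconj _ hc
        rw [hStf w (hUpf w hw hw1)] at h
        norm_num at h
      have hzx : z x = 0 := by
        refine hno Fp.X ?_ (fun h => ((hR _).1 (hXpR h)).2.1 rfl) (fun h => ((hR _).1 (hXpR h)).2.2 rfl)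
          (z x) (fun χ hχ => Int.cast_injective (α := ℂ) ?_) (fun χ hχ χ' hχ' => Fp.agree s hsp χ hχ χ' hχ')
        · rw [hM2] at htp; omega
        · rw [← hzv, ← hzv]
          exact Fp.agree v (fun u hu hu1 hc => hnc u hu hu1 v hv hv1 hc.symm) χ hχ x hx
      have hdu : 5 ∣ u := by
        have h := hzd x
        rw [hzx, sub_zero, (hNf x (hXpR hx)).1, hXu x hx, hM2] at h
        omega
      rw [hM2] at hT hweight htp ⊢
      have htp' : Fp.X.card = 3 := by omega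
      rw [htp'] at hnorm hweight
      push_cast at hnorm hweight
      obtain ⟨hu', hrest, ⟨a, ha, ha2⟩, b, hb, hb13⟩ := DegreeArith.core_eight Nf Fp.a
        (fun i hi => (hNf i hi).2) hXpR htp' hXu hdu (by linarith only [hT]) Fp.sign
        (fun i hi => by
          have h := hdvdp i hi
          rw [hUpc, hkp, hM2] at h
          norm_num at h
          exact h) hnorm (by linarith only [hweight])
      let Xn := (R \ Fp.X).filter fun χ => Nf χ = 13
      have hsubn : Xn ⊆ R \ Fp.X := Finset.filter_subset _ _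
      have hWN : ∀ χ ∈ (R \ Fp.X) \ Xn, Nf χ = 2 := fun χ hχ => by
        obtain ⟨h1, h2⟩ := mem_sdiff.1 hχ
        exact (hrest χ h1).resolve_right fun h => h2 (mem_filter.2 ⟨h1, h⟩)
      have hXnN : ∀ χ ∈ Xn, Nf χ = 13 := fun χ hχ => (mem_filter.1 hχ).2
      have hT2 : Xn.card * 169 + ((R \ Fp.X) \ Xn).card * 4 = 177 := by
        have hs := hT
        rw [DegreeArith.eq_sdiff_union hXpR hsubn,
          Finset.sum_congr rfl (fun i hi => by rw [hXu i hi, hu'] : ∀ i ∈ Fp.X, Nf i ^ 2 = 5 ^ 2),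
          Finset.sum_congr rfl (fun i hi => by rw [hXnN i hi] : ∀ i ∈ Xn, Nf i ^ 2 = 13 ^ 2),
          Finset.sum_congr rfl (fun i hi => by rw [hWN i hi] : ∀ i ∈ (R \ Fp.X) \ Xn, Nf i ^ 2 = 2 ^ 2),
          Finset.sum_const, Finset.sum_const, Finset.sum_const, htp'] at hs
        simp only [nsmul_eq_mul] at hs
        push_cast at hs
        zify
        linarith only [hs]
      have hXnc : Xn.card = 1 := by omega
      have hWc : ((R \ Fp.X) \ Xn).card = 2 := by omega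
      have hap : (∀ χ ∈ Xn, Fp.a χ = 0) ∧ ∀ χ ∈ (R \ Fp.X) \ Xn, Fp.a χ = 1 := by
        have hb : ∀ χ ∈ R \ Fp.X, Fp.a χ * Fp.a χ ≤ 2 := fun χ hχ => by
          have := Finset.single_le_sum (f := fun i => Fp.a i * Fp.a i) (fun i _ => mul_self_nonneg _) hχ
          have hsh := Fp.shift_nonneg (by omega)
          rw [htp'] at hsh
          push_cast at hsh
          linarith only [this, hnorm, hsh]
        constructor
        · intro χ hχ
          have h := hdvdp χ (hsubn hχ)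
          rw [hUpc, hkp, hM2, hXnN χ hχ] at h
          norm_num at h
          have hb' := hb χ (hsubn hχ)
          have : -1 ≤ Fp.a χ ∧ Fp.a χ ≤ 1 := by constructor <;> nlinarith only [hb']
          omega
        · intro χ hχ
          have h := hdvdp χ (mem_sdiff.1 hχ).1
          rw [hUpc, hkp, hM2, hWN χ hχ] at h
          norm_num at h
          have hb' := hb χ (mem_sdiff.1 hχ).1
          have : -1 ≤ Fp.a χ ∧ Fp.a χ ≤ 1 := by constructor <;> nlinarith only [hb']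
          omega
      have hzd' : ∀ χ ∈ R, 5 ∣ 7 * Nf χ - z χ := fun χ hχ => by
        have h := hzd χ
        rw [(hNf χ hχ).1, hM2] at h
        norm_num at h
        exact h
      have hnn : ∀ (S : Finset (Cfsg.IrrCharacter (Sz F e))), 0 ≤ ∑ χ ∈ S, z χ * z χ := fun S =>
        Finset.sum_nonneg fun χ _ => mul_self_nonneg _
      have hzXn : ∀ χ ∈ Xn, 1 ≤ z χ * z χ := fun χ hχ => by
        have h := hzd' χ (mem_sdiff.1 (hsubn hχ)).1
        rw [hXnN χ hχ] at h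
        exact Int.add_one_le_of_lt (mul_self_pos.2 (by omega))
      have hzW : ∀ χ ∈ (R \ Fp.X) \ Xn, 1 ≤ z χ * z χ := fun χ hχ => by
        have h := hzd' χ (mem_sdiff.1 (mem_sdiff.1 hχ).1).1
        rw [hWN χ hχ] at h
        exact Int.add_one_le_of_lt (mul_self_pos.2 (by omega))
      have h5s := hz5
      rw [hsplit, hone_z, hSt_z, DegreeArith.eq_sdiff_union hXpR hsubn] at h5s
      have hlXn := Finset.card_nsmul_le_sum _ (fun χ => z χ * z χ) (1 : ℤ) hzXn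
      have hlW := Finset.card_nsmul_le_sum _ (fun χ => z χ * z χ) (1 : ℤ) hzW
      rw [hXnc, nsmul_eq_mul, Nat.cast_one, mul_one] at hlXn
      rw [hWc, nsmul_eq_mul, Nat.cast_ofNat, mul_one] at hlW
      have h0z : ∑ χ ∈ F0.X, z χ * z χ = 0 := by
        have := hnn F0.X
        have := hnn Fp.X
        linarith
      have hpz : ∑ χ ∈ Fp.X, z χ * z χ = 0 := by
        have := hnn F0.X
        have := hnn Fp.X
        linarith
      have hWz : ∀ χ ∈ (R \ Fp.X) \ Xn, z χ = -1 := fun χ hχ => by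
        have h2 : ∑ x ∈ (R \ Fp.X) \ Xn, z x * z x ≤ 2 := by
          linarith
        have h1 : z χ * z χ ≤ 1 := by
          rw [← Finset.add_sum_erase _ _ hχ] at h2
          have h3 := Finset.card_nsmul_le_sum _ (fun x => z x * z x) (1 : ℤ)
            fun x (hx : x ∈ ((R \ Fp.X) \ Xn).erase χ) => hzW x (mem_erase.1 hx).2
          rw [Finset.card_erase_of_mem hχ, hWc, nsmul_eq_mul] at h3
          push_cast at h3
          linarith only [h2, h3]
        have hb : -1 ≤ z χ ∧ z χ ≤ 1 := by constructor <;> nlinarith only [h1]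
        have h := hzd' χ (mem_sdiff.1 (mem_sdiff.1 hχ).1).1
        rw [hWN χ hχ] at h
        omega
      have hall5 : ∀ w ∈ Um, w ≠ 1 → ∀ χ : Cfsg.IrrCharacter (Sz F e),
          (χ : Sz F e → ℂ) w = (z χ : ℂ) := fun w hw hw1 χ => by
        obtain ⟨k, hk⟩ := isConj_iff.1 (isConj_of_card_five H hm hF he h5 hUmcent
          (by rw [hUmN]; rfl) hv hv1 hw hw1)
        rw [← hk, Chars.isClassFunction_irr χ v k, hzv]
      refine ⟨Xn, (R \ Fp.X) \ Xn, hsubn, rfl, fun χ hχ => by rw [hXu χ hχ, hu']; norm_num,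
        fun χ hχ => by rw [hXnN χ hχ]; norm_num, fun χ hχ => hWN χ hχ, by rw [hXnc]; norm_num, hWc,
        ?_, ?_, ?_, hap⟩
      · intro g _ χ hχ χ' hχ'
        rw [Finset.card_le_one.1 hXnc.le χ hχ χ' hχ']
      · intro w hw hw1 χ hχ
        rw [hall5 w hw hw1]
        have : z χ * z χ = 0 := by
          rcases mem_union.1 hχ with h | h
          · exact (Finset.sum_eq_zero_iff_of_nonneg fun i _ => mul_self_nonneg _).1 h0z χ h
          · exact (Finset.sum_eq_zero_iff_of_nonneg fun i _ => mul_self_nonneg _).1 hpz χ h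
        rw [mul_self_eq_zero.1 this, Int.cast_zero]
      · intro w hw hw1 χ hχ
        rw [hall5 w hw hw1, hWz χ hχ, Int.cast_neg, Int.cast_one]
  have hdegR : ∀ χ ∈ R, ∀ n : ℕ, Nf χ = n →
      Cfsg.charDegree (χ : Sz F e → ℂ) = (Fintype.card F - 1) * n := by
    intro χ hχ n hn
    apply Nat.cast_injective (R := ℤ)
    rw [(hNf χ hχ).1, hn, Nat.cast_mul, hQ1]
  have hWR : ∀ χ ∈ (R \ Fp.X) \ Xn, χ ∈ R := fun χ hχ => (mem_sdiff.1 (mem_sdiff.1 hχ).1).1
  have hXnR' : ∀ χ ∈ Xn, χ ∈ R := fun χ hχ => (mem_sdiff.1 (hXnR hχ)).1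
  have hW1 : ∀ χ ∈ (R \ Fp.X) \ Xn, χ ∉ Fp.X := fun χ hχ => (mem_sdiff.1 (mem_sdiff.1 hχ).1).2
  have hR0 : ∀ χ ∈ R, ∀ w ∈ tor H, w ≠ 1 → (χ : Sz F e → ℂ) w = 0 := fun χ hχ w hw hw1 => by
    obtain ⟨h0, h1, h2⟩ := (hR χ).1 hχ
    rw [F0.const χ h0 w hw hw1, ha0 χ h0 h1 h2, Int.cast_zero]
  refine ⟨{
    one := one, St := St, X0 := F0.X, Xp := Fp.X, Xn := Xn, W := (R \ Fp.X) \ Xn, Up := Up, Um := Um
    split := ?_, card0 := ?_, cardp := ?_, cardn := ?_, cardW := hWc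
    one_apply := hone, St_one := hStd, St_tor := hStt, St_fpf := hStf, St_four := hSts
    deg0 := ?_
    degp := fun χ hχ => hdegR χ (hXpR hχ) _ ((hXpN χ hχ).trans hkm.symm)
    degn := fun χ hχ => hdegR χ (hXnR' χ hχ) _ ((hXnN χ hχ).trans hkp.symm)
    degW := fun χ hχ => hdegR χ (hWR χ hχ) _ ((hWN χ hχ).trans (by rw [hMdef]; norm_num))
    natCard_Up := hUpc, natCard_Um := hUmc, fpf_Up := hUpf, fpf_Um := hUmf
    cent_Up := hUpcent, cent_Um := hUmcent
    normalizer_Up := hUpN, normalizer_Um := hUmN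
    agree0 := fun g hg => F0.agree g hg, agreep := fun g hg => Fp.agree g hg, agreen := hagn
    tor_zero := ?_, Up_zero := ?_, Up_W := ?_, Um_zero := hzeron, Um_W := hWn }⟩
  · intro β _ f
    have h2 : ({one, St} : Finset (Cfsg.IrrCharacter (Sz F e))) ⊆ univ \ F0.X := by
      intro x hx
      simp only [mem_insert, mem_singleton] at hx
      rcases hx with rfl | rfl <;> exact mem_sdiff.2 ⟨mem_univ _, by assumption⟩
    rw [← Finset.sum_sdiff (Finset.subset_univ F0.X), ← Finset.sum_sdiff h2, Finset.sum_pair hne]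
    change ∑ χ ∈ R, f χ + (f one + f St) + ∑ χ ∈ F0.X, f χ = _
    rw [← Finset.sum_sdiff hXpR, ← Finset.sum_sdiff hXnR]
    abel
  · have h' : (F0.X.card : ℤ) + 1 = ((4 ^ m : ℕ) : ℤ) := by
      push_cast; rw [ht0, hMdef, ← pow_mul, mul_comm m 2, pow_mul]; norm_num
    exact_mod_cast h'
  · have h' : (2 : ℤ) * Fp.X.card = ((4 ^ m + 2 ^ m : ℕ) : ℤ) := by
      push_cast; rw [htp, hMdef, ← pow_mul, mul_comm m 2, pow_mul]; norm_num
    exact_mod_cast h'
  · have h' : (2 : ℤ) * Xn.card + ((2 ^ m : ℕ) : ℤ) = ((4 ^ m : ℕ) : ℤ) := by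
      push_cast; rw [hXnc, hMdef, ← pow_mul, mul_comm m 2, pow_mul]; norm_num
    exact_mod_cast h'
  · intro χ hχ
    apply Nat.cast_injective (R := ℤ)
    rw [F0.deg χ hχ, hD0]
    push_cast
    rw [hQ]
  · intro w hw hw1 χ hχ
    refine hR0 χ ?_ w hw hw1
    rcases mem_union.1 hχ with h | h
    · rcases mem_union.1 h with h | h
      exacts [hXpR h, hXnR' χ h]
    · exact hWR χ h
  · intro u hu hu1 χ hχ
    rcases mem_union.1 hχ with h | h
    · rw [Fp.const χ (hvan0p χ h).1 u hu hu1, (hvan0p χ h).2, Int.cast_zero]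
    · rw [Fp.const χ (mem_sdiff.1 (hXnR h)).2 u hu hu1, hap0 χ h, Int.cast_zero]
  · intro u hu hu1 χ hχ
    rw [Fp.const χ (hW1 χ hχ) u hu hu1, hap1 χ hχ, Int.cast_one]

end CfsgLib.KnownA.Suzuki
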