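import Cfsg.Agent.Lib.KnownA.Suzuki.Facts
import Cfsg.Agent.Lib.KnownB.PSLAut.Out
import Cfsg.Agent.Lib.Base.Cores
import Cfsg.Prelude.Def_Transfer

/-!
The automorphism group of the Sylow `2`-subgroup of a Suzuki group.
-/

set_option autoImplicit false

namespace CfsgLib.KnownA.Suzuki

open Matrix Cfsg.Lie

variable {F : Type*} [Field F] [Finite F] {e : ℕ} (H : TitsField F e)

/-- Additive bijections preserving the squaring form are semilinear. -/
theorem semilinear_of_form (H : TitsField F e) {L M : F → F} (hL0 : ∀ a, L a = 0 → a = 0)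
    (hLadd : ∀ a c, L (a + c) = L a + L c) (hMadd : ∀ a c, M (a + c) = M a + M c)
    (hM : ∀ a, M (a ^ e * a) = L a ^ e * L a) (h1 : L 1 = 1) :
    ∃ τ : F ≃+* F, ∀ a, L a = τ a := by
  classical
  have hL00 : L 0 = 0 := by
    have := hLadd 0 0
    rw [add_zero] at this
    exact left_eq_add.1 this
  have hpow : Function.Injective fun a : F => a ^ e * a := by
    intro a c hac
    have h' : a ^ (e + 1) = c ^ (e + 1) := by rw [pow_succ, pow_succ]; exact hac
    by_cases hc : c = 0
    · rw [hc, zero_pow (Nat.succ_ne_zero e)] at h'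
      rw [hc]
      exact (pow_eq_zero_iff (Nat.succ_ne_zero e)).1 h'
    have := H.eq_one_of_pow_succ (t := a / c) (by rw [div_pow, h', div_self (pow_ne_zero _ hc)])
    exact eq_of_div_eq_one this
  have hsurj : Function.Surjective fun a : F => a ^ e * a := Finite.surjective_of_injective hpow
  have hM0 : M 0 = 0 := by
    have := hMadd 0 0
    rw [add_zero] at this
    exact left_eq_add.1 this
  have hM0' : ∀ y, M y = 0 → y = 0 := by
    intro y hy
    obtain ⟨a, rfl⟩ := hsurj y
    rw [hM, mul_eq_zero] at hy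
    have : L a = 0 := hy.elim (fun h => (pow_eq_zero_iff H.e_ne).1 h) id
    simp [hL0 a this, zero_pow H.e_ne]
  have hMinj : Function.Injective M := fun x y hxy => H.eq_of_add (hM0' _ (by rw [hMadd, hxy, H.add_self]))
  have hMsurj : Function.Surjective M := Finite.surjective_of_injective hMinj
  -- the hyperplane
  let T : AddSubgroup F :=
    { carrier := Set.range fun c : F => c ^ e + c
      zero_mem' := ⟨0, by simp [zero_pow H.e_ne]⟩
      add_mem' := by
        rintro _ _ ⟨a, rfl⟩ ⟨c, rfl⟩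
        exact ⟨a + c, by simp only [H.add_pow]; ring⟩
      neg_mem' := fun {a} h => by rwa [H.neg_eq] }
  have hidx : T.index = 2 := by
    let φ : F →+ F := AddMonoidHom.mk' (fun c : F => c ^ e + c) fun a c => by simp only [H.add_pow]; ring
    have hTr : T = φ.range := rfl
    have hk : (φ.ker : Set F) = {0, 1} := by
      ext c
      simp only [SetLike.mem_coe, AddMonoidHom.mem_ker, Set.mem_insert_iff, Set.mem_singleton_iff]
      constructor
      · intro hc
        have h2 : c ^ e = c := H.eq_of_add hc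
        have h3 : c * (c - 1) = 0 := by
          have h4 := H.sq c
          rw [h2, h2] at h4
          linear_combination -h4
        exact (mul_eq_zero.1 h3).imp_right sub_eq_zero.1
      · rintro (rfl | rfl)
        · show (0 : F) ^ e + 0 = 0
          simp [zero_pow H.e_ne]
        · show (1 : F) ^ e + 1 = 0
          rw [one_pow, H.add_self]
    have hk2 : Nat.card φ.ker = 2 := by
      rw [← SetLike.coe_sort_coe, Nat.card_coe_set_eq, hk, Set.ncard_pair zero_ne_one]
    have h5 := φ.ker.card_mul_index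
    rw [AddSubgroup.index_ker, hk2] at h5
    have h6 := T.card_mul_index
    rw [hTr] at h6 ⊢
    rw [← h5, mul_comm 2] at h6
    exact Nat.eq_of_mul_eq_mul_left Nat.card_pos h6
  have hadd2 : ∀ y z, y + z ∈ T ↔ (y ∈ T ↔ z ∈ T) := fun y z =>
    AddSubgroup.add_mem_iff_of_index_two hidx
  have hcomm : ∀ a c, M (a ^ e * c + c ^ e * a) = L a ^ e * L c + L c ^ e * L a := by
    intro a c
    have h := hM (a + c)
    rw [hLadd, H.add_pow, H.add_pow,
      show (a ^ e + c ^ e) * (a + c) = a ^ e * a + c ^ e * c + (a ^ e * c + c ^ e * a) by ring,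
      hMadd, hMadd, hM, hM] at h
    linear_combination h
  have hLsurj : Function.Surjective L :=
    Finite.surjective_of_injective fun x y hxy => H.eq_of_add (hL0 _ (by rw [hLadd, hxy, H.add_self]))
  have himg : ∀ a ≠ 0, ∀ y, y * (a ^ e * a)⁻¹ ∈ T ↔ ∃ c, y = a ^ e * c + c ^ e * a := by
    intro a ha y
    constructor
    · rintro ⟨d, hd⟩
      refine ⟨a * d, ?_⟩
      have h : d ^ e + d = y * (a ^ e * a)⁻¹ := hd
      rw [mul_pow]
      have hne : a ^ e * a ≠ 0 := mul_ne_zero (pow_ne_zero _ ha) ha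
      rw [eq_mul_inv_iff_mul_eq₀ hne] at h
      linear_combination -h
    · rintro ⟨c, rfl⟩
      refine ⟨c / a, ?_⟩
      show (c / a) ^ e + c / a = _
      have hne : a ^ e ≠ 0 := pow_ne_zero _ ha
      rw [div_pow]
      field_simp
      ring
  have hkey : ∀ y x, x ≠ 0 → (y * x⁻¹ ∈ T ↔ M y * (M x)⁻¹ ∈ T) := by
    intro y x hx
    obtain ⟨a, rfl⟩ := hsurj x
    have ha : a ≠ 0 := by rintro rfl; simp [zero_pow H.e_ne] at hx
    rw [hM, himg a ha, himg (L a) (fun h => ha (hL0 a h))]
    constructor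
    · rintro ⟨c, rfl⟩
      exact ⟨L c, hcomm a c⟩
    · rintro ⟨c', hc'⟩
      obtain ⟨c, rfl⟩ := hLsurj c'
      exact ⟨c, hMinj (by rw [hc', hcomm])⟩
  let N : F → F := fun u => (M u⁻¹)⁻¹
  have hkey' : ∀ y u, y * u ∈ T ↔ M y * N u ∈ T := by
    intro y u
    by_cases hu : u = 0
    · simp [N, hu, hM0]
    · simpa [N] using hkey y u⁻¹ (inv_ne_zero hu)
  have hNadd : ∀ u v, N (u + v) = N u + N v := by
    intro u v
    by_contra hne
    have hd : N (u + v) + (N u + N v) ≠ 0 := fun h => hne (H.eq_of_add h)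
    have hall : ∀ z, z * (N (u + v) + (N u + N v)) ∈ T := by
      intro z
      obtain ⟨y, rfl⟩ := hMsurj z
      rw [mul_add, hadd2, mul_add, hadd2, ← hkey', ← hkey', ← hkey', mul_add, hadd2]
    have htop : T = ⊤ := by
      rw [eq_top_iff]
      intro w _
      have := hall (w * (N (u + v) + (N u + N v))⁻¹)
      rwa [mul_assoc, inv_mul_cancel₀ hd, mul_one] at this
    rw [htop, AddSubgroup.index_top] at hidx
    exact absurd hidx (by norm_num)
  have hMone : M 1 = 1 := by simpa [h1] using hM 1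
  have hNone : N 1 = 1 := by simp [N, hMone]
  have hN0 : N 0 = 0 := by simp [N, hM0]
  have hNM : ∀ u, M u⁻¹ = (N u)⁻¹ := fun u => (inv_inv _).symm
  have hNinv : ∀ u, N u⁻¹ = (M u)⁻¹ := fun u => by simp [N]
  have hNne : ∀ u, N u = 0 → u = 0 := fun u h => by
    simpa using hM0' u⁻¹ (by rw [hNM, h, _root_.inv_zero])
  have hNsub : ∀ u v, N (u - v) = N u - N v := fun u v => by
    rw [sub_eq_add_neg, H.neg_eq, hNadd, sub_eq_add_neg, H.neg_eq]
  -- Hua's identity
  have hhua : ∀ a b, N (a * a * b) = N a * N a * M b := by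
    intro a b
    by_cases ha : a = 0
    · simp [ha, hN0]
    by_cases hb : b = 0
    · simp [hb, hN0, hM0]
    have hNa : N a ≠ 0 := fun h => ha (hNne a h)
    have hMb : M b ≠ 0 := fun h => hb (hM0' b h)
    by_cases hab : a * b = 1
    · have hb' : b = a⁻¹ := eq_inv_of_mul_eq_one_right hab
      rw [hb', hNM, mul_inv_cancel_right₀ ha, mul_inv_cancel_right₀ hNa]
    · have hd : b⁻¹ - a ≠ 0 := fun h => hab (by rw [← sub_eq_zero.1 h, inv_mul_cancel₀ hb])
      have e1 : a - a * a * b = (a⁻¹ + (b⁻¹ - a)⁻¹)⁻¹ := by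
        have hab' : 1 - a * b ≠ 0 := fun h => hab (sub_eq_zero.1 h).symm
        field_simp
        ring
      have e2 := congrArg N e1
      rw [hNinv, hMadd, hNM, hNM, hNsub, hNsub, hNinv] at e2
      have hd' : (M b)⁻¹ - N a ≠ 0 := fun h => hd (hNne _ (by rw [hNsub, hNinv, h]))
      have e3 : N a - N a * N a * M b = ((N a)⁻¹ + ((M b)⁻¹ - N a)⁻¹)⁻¹ := by
        have hab' : 1 - N a * M b ≠ 0 := fun h => hd' (by
          field_simp
          linear_combination h)
        field_simp
        ring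
      rw [← e3] at e2
      exact sub_right_injective e2
  have hNMeq : ∀ b, N b = M b := fun b => by simpa [hNone] using hhua 1 b
  have hsq : Function.Surjective fun a : F => a * a :=
    Finite.surjective_of_injective fun x y h => H.sq_inj (by rw [sq, sq]; exact h)
  have hmul : ∀ x b, M (x * b) = M x * M b := by
    intro x b
    obtain ⟨a, rfl⟩ := hsq x
    have h2 := hhua a 1
    have h3 := hhua a b
    rw [mul_one, hMone, mul_one, hNMeq, hNMeq] at h2
    rw [hNMeq, hNMeq] at h3
    rw [h3, h2]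
  let τ : F ≃+* F :=
    { Equiv.ofBijective M ⟨hMinj, hMsurj⟩ with map_mul' := hmul, map_add' := hMadd }
  refine ⟨τ, fun a => hpow ?_⟩
  show L a ^ e * L a = τ a ^ e * τ a
  rw [← hM, ← map_pow, ← map_mul]
  rfl

include H

/-- Elements of the standard Sylow subgroup. -/
abbrev uu (a b : F) : uni H := ⟨su H a b, a, b, rfl⟩

theorem uu_mul (a b c d : F) : uu H a b * uu H c d = uu H (a + c) (b + d + a ^ e * c) :=
  Subtype.ext (su_mul H a b c d)

theorem uu_surj (x : uni H) : ∃ a b, x = uu H a b := by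
  obtain ⟨_, a, b, rfl⟩ := x
  exact ⟨a, b, rfl⟩

theorem uu_inj {a b c d : F} (h : uu H a b = uu H c d) : a = c ∧ b = d :=
  su_inj H (congrArg Subtype.val h)

/-- The first coordinate. -/
noncomputable def fstU (x : uni H) : F := x.2.choose

theorem fstU_uu (a b : F) : fstU H (uu H a b) = a := by
  obtain ⟨d, hd⟩ := (uu H a b).2.choose_spec
  exact (su_inj H hd).1.symm

/-- The second coordinate. -/
noncomputable def sndU (x : uni H) : F := x.2.choose_spec.choose

theorem sndU_uu (a b : F) : sndU H (uu H a b) = b :=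
  (su_inj H (uu H a b).2.choose_spec.choose_spec).2.symm

theorem fstU_mul (x y : uni H) : fstU H (x * y) = fstU H x + fstU H y := by
  obtain ⟨a, b, rfl⟩ := uu_surj H x
  obtain ⟨c, d, rfl⟩ := uu_surj H y
  rw [uu_mul, fstU_uu, fstU_uu, fstU_uu]

theorem uu_sq (a b : F) : uu H a b * uu H a b = uu H 0 (a ^ e * a) := by
  rw [uu_mul, H.add_self, H.add_self, zero_add]

theorem exists_pow_succ (z : F) : ∃ a, a ^ e * a = z := by
  refine Finite.surjective_of_injective (f := fun a : F => a ^ e * a) (fun a c hac => ?_) z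
  have h' : a ^ (e + 1) = c ^ (e + 1) := by rw [pow_succ, pow_succ]; exact hac
  by_cases hc : c = 0
  · rw [hc, zero_pow (Nat.succ_ne_zero e)] at h'
    rw [hc]
    exact (pow_eq_zero_iff (Nat.succ_ne_zero e)).1 h'
  exact eq_of_div_eq_one (H.eq_one_of_pow_succ (t := a / c)
    (by rw [div_pow, h', div_self (pow_ne_zero _ hc)]))

theorem map_sz_fst (α : MulAut (uni H)) (z : F) : fstU H (α (uu H 0 z)) = 0 := by
  obtain ⟨a, rfl⟩ := exists_pow_succ H z
  rw [← uu_sq H a 0, map_mul, fstU_mul, H.add_self]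

theorem fst_map (α : MulAut (uni H)) (a b : F) : fstU H (α (uu H a b)) = fstU H (α (uu H a 0)) := by
  rw [show uu H a b = uu H a 0 * uu H 0 b by rw [uu_mul]; simp, map_mul, fstU_mul, map_sz_fst, add_zero]

/-- The action on the Frattini quotient. -/
noncomputable def linPart : MulAut (uni H) →* Equiv.Perm F where
  toFun α :=
    { toFun := fun a => fstU H (α (uu H a 0))
      invFun := fun a => fstU H (α.symm (uu H a 0))
      left_inv := fun a => by
        obtain ⟨c, d, h⟩ := uu_surj H (α (uu H a 0))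
        simp only [h, fstU_uu]
        rw [← fst_map H α.symm c d, ← h, MulEquiv.symm_apply_apply, fstU_uu]
      right_inv := fun a => by
        obtain ⟨c, d, h⟩ := uu_surj H (α.symm (uu H a 0))
        simp only [h, fstU_uu]
        rw [← fst_map H α c d, ← h, MulEquiv.apply_symm_apply, fstU_uu] }
  map_one' := Equiv.ext fun a => fstU_uu H a 0
  map_mul' α β := Equiv.ext fun a => by
    show fstU H (α (β (uu H a 0))) = fstU H (α (uu H (fstU H (β (uu H a 0))) 0))
    obtain ⟨c, d, h⟩ := uu_surj H (β (uu H a 0))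
    rw [h, fstU_uu, fst_map]

theorem linPart_apply (α : MulAut (uni H)) (a : F) : linPart H α a = fstU H (α (uu H a 0)) := rfl

theorem linPart_add (α : MulAut (uni H)) (a c : F) :
    linPart H α (a + c) = linPart H α a + linPart H α c := by
  rw [linPart_apply H, linPart_apply H, linPart_apply H,
    ← fst_map H α (a + c) (0 + 0 + a ^ e * c), ← uu_mul, map_mul, fstU_mul]

theorem exists_center_map (α : MulAut (uni H)) :
    ∃ M : F → F, (∀ z, α (uu H 0 z) = uu H 0 (M z)) ∧ (∀ a c, M (a + c) = M a + M c) ∧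
      ∀ a, M (a ^ e * a) = linPart H α a ^ e * linPart H α a := by
  have hz : ∀ z, ∃ z', α (uu H 0 z) = uu H 0 z' := by
    intro z
    obtain ⟨c, d, h⟩ := uu_surj H (α (uu H 0 z))
    have hc := map_sz_fst H α z
    rw [h, fstU_uu] at hc
    exact ⟨d, by rw [h, hc]⟩
  choose M hM using hz
  refine ⟨M, hM, fun a c => ?_, fun a => ?_⟩
  · have h := hM (a + c)
    rw [show uu H 0 (a + c) = uu H 0 a * uu H 0 c by rw [uu_mul]; simp [zero_pow H.e_ne],
      map_mul, hM, hM, uu_mul, zero_pow H.e_ne, zero_mul, add_zero, add_zero] at h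
    exact (uu_inj H h).2.symm
  · obtain ⟨c, d, h⟩ := uu_surj H (α (uu H a 0))
    have h' := hM (a ^ e * a)
    rw [← uu_sq H a 0, map_mul, h, uu_sq] at h'
    rw [← (uu_inj H h').2, linPart_apply H, h, fstU_uu]

/-- The central automorphism attached to an additive map. -/
noncomputable def centralAut (φ : F →+ F) : MulAut (uni H) where
  toFun x := x * uu H 0 (φ (fstU H x))
  invFun x := x * uu H 0 (φ (fstU H x))
  left_inv x := by
    obtain ⟨a, b, rfl⟩ := uu_surj H x
    simp only [fstU_uu, uu_mul, add_zero, mul_zero, add_assoc, H.add_self]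
  right_inv x := by
    obtain ⟨a, b, rfl⟩ := uu_surj H x
    simp only [fstU_uu, uu_mul, add_zero, mul_zero, add_assoc, H.add_self]
  map_mul' x y := by
    obtain ⟨a, b, rfl⟩ := uu_surj H x
    obtain ⟨c, d, rfl⟩ := uu_surj H y
    simp only [fstU_uu, uu_mul, add_zero, mul_zero, map_add]
    refine congrArg (uu H (a + c)) ?_
    ring

theorem centralAut_uu (φ : F →+ F) (a b : F) : centralAut H φ (uu H a b) = uu H a (b + φ a) := by
  show uu H a b * uu H 0 (φ (fstU H (uu H a b))) = _
  simp [fstU_uu, uu_mul]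

theorem centralAut_mul (φ ψ : F →+ F) : centralAut H φ * centralAut H ψ = centralAut H (φ + ψ) := by
  refine MulEquiv.ext fun x => ?_
  obtain ⟨a, b, rfl⟩ := uu_surj H x
  rw [MulAut.mul_apply, centralAut_uu, centralAut_uu, centralAut_uu, AddMonoidHom.add_apply,
    add_assoc, add_comm (ψ a)]

theorem centralAut_injective : Function.Injective (centralAut H : (F →+ F) → MulAut (uni H)) := by
  intro φ ψ h
  ext a
  have := congrArg (fun α : MulAut (uni H) => α (uu H a 0)) h
  simp only [centralAut_uu, zero_add] at this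
  exact (uu_inj H this).2

theorem mem_ker_linPart {α : MulAut (uni H)} :
    α ∈ (linPart H).ker ↔ ∃ φ, centralAut H φ = α := by
  constructor
  · intro hα
    have hL : ∀ a, fstU H (α (uu H a 0)) = a := fun a => by
      rw [← linPart_apply H, (MonoidHom.mem_ker).1 hα]
      rfl
    obtain ⟨M, hM, -, hMsq⟩ := exists_center_map H α
    have hMid : ∀ z, M z = z := fun z => by
      obtain ⟨a, rfl⟩ := exists_pow_succ H z
      rw [hMsq, linPart_apply H, hL]
    have hα0 : ∀ a, ∃ d, α (uu H a 0) = uu H a d := fun a => by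
      obtain ⟨c, d, h⟩ := uu_surj H (α (uu H a 0))
      have hc := hL a
      rw [h, fstU_uu] at hc
      exact ⟨d, by rw [h, hc]⟩
    choose f hf using hα0
    have hαuu : ∀ a b, α (uu H a b) = uu H a (b + f a) := fun a b => by
      rw [show uu H a b = uu H a 0 * uu H 0 b by rw [uu_mul]; simp, map_mul, hf, hM, hMid, uu_mul]
      simp [add_comm]
    refine ⟨AddMonoidHom.mk' f fun a c => ?_, MulEquiv.ext fun x => ?_⟩
    · have h1 : α (uu H a 0 * uu H c 0) = uu H a (f a) * uu H c (f c) := by rw [map_mul, hf, hf]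
      rw [uu_mul, hαuu, uu_mul] at h1
      linear_combination (uu_inj H h1).2
    · obtain ⟨a, b, rfl⟩ := uu_surj H x
      rw [centralAut_uu, hαuu]
      rfl
  · rintro ⟨φ, rfl⟩
    refine MonoidHom.mem_ker.2 (Equiv.ext fun a => ?_)
    rw [linPart_apply H, centralAut_uu, fstU_uu]
    rfl

/-- The automorphism attached to a scalar and a field automorphism. -/
noncomputable def semiAut (c : Fˣ) (τ : F ≃+* F) : MulAut (uni H) :=
  MulEquiv.ofBijective
    (MonoidHom.mk'
      (fun x => uu H ((c : F) * τ (fstU H x)) ((c : F) ^ e * (c : F) * τ (sndU H x)))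
      (fun x y => by
        obtain ⟨a, b, rfl⟩ := uu_surj H x
        obtain ⟨a', b', rfl⟩ := uu_surj H y
        simp only [uu_mul, fstU_uu, sndU_uu, map_add, map_mul, map_pow]
        congr 1
        · ring
        · rw [mul_pow]; ring))
    (Finite.injective_iff_bijective.1 (fun x y h => by
      obtain ⟨a, b, rfl⟩ := uu_surj H x
      obtain ⟨a', b', rfl⟩ := uu_surj H y
      simp only [MonoidHom.mk'_apply, fstU_uu, sndU_uu] at h
      obtain ⟨h1, h2⟩ := uu_inj H h
      have hc : (c : F) ≠ 0 := c.ne_zero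
      rw [τ.injective (mul_left_cancel₀ hc h1),
        τ.injective (mul_left_cancel₀ (mul_ne_zero (pow_ne_zero _ hc) hc) h2)]))

theorem linPart_semiAut (c : Fˣ) (τ : F ≃+* F) (a : F) :
    linPart H (semiAut H c τ) a = (c : F) * τ a := by
  rw [linPart_apply H]
  show fstU H (uu H ((c : F) * τ (fstU H (uu H a 0))) _) = _
  rw [fstU_uu, fstU_uu]

theorem linPart_eq (α : MulAut (uni H)) :
    ∃ (c : Fˣ) (τ : F ≃+* F), ∀ a, linPart H α a = (c : F) * τ a := by
  obtain ⟨M, -, hMadd, hMsq⟩ := exists_center_map H α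
  have h0 : linPart H α 0 = 0 := by
    have := linPart_add H α 0 0
    rw [add_zero] at this
    exact left_eq_add.1 this
  have hne : ∀ a, linPart H α a = 0 → a = 0 := fun a h => (linPart H α).injective (h.trans h0.symm)
  have hc : linPart H α 1 ≠ 0 := fun h => one_ne_zero (hne 1 h)
  set c := linPart H α 1 with hcdef
  obtain ⟨τ, hτ⟩ := semilinear_of_form H (L := fun a => c⁻¹ * linPart H α a)
    (M := fun z => (c⁻¹) ^ e * c⁻¹ * M z)
    (fun a h => hne a ((mul_eq_zero.1 h).resolve_left (inv_ne_zero hc)))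
    (fun a a' => by show c⁻¹ * linPart H α (a + a') = _; rw [linPart_add H, mul_add])
    (fun a a' => by show c⁻¹ ^ e * c⁻¹ * M (a + a') = _; rw [hMadd, mul_add])
    (fun a => by show c⁻¹ ^ e * c⁻¹ * M (a ^ e * a) = _; rw [hMsq, mul_pow]; ring)
    (inv_mul_cancel₀ hc)
  refine ⟨Units.mk0 c hc, τ, fun a => ?_⟩
  rw [← hτ a, Units.val_mk0, mul_inv_cancel_left₀ hc]

theorem natCard_addMonoidHom {N : ℕ} (hF : Nat.card F = 2 ^ N) :
    Nat.card (F →+ F) = 2 ^ N ^ 2 := by
  haveI := H.charP
  letI : Algebra (ZMod 2) F := ZMod.algebra F 2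
  haveI := Fact.mk Nat.prime_two
  have hfr : Module.finrank (ZMod 2) F = N := by
    have h := Module.natCard_eq_pow_finrank (K := ZMod 2) (V := F)
    rw [Nat.card_zmod, hF] at h
    exact Nat.pow_right_injective le_rfl h.symm
  rw [Nat.card_congr (AddMonoidHom.toZModLinearMapEquiv 2 (M := F) (M₁ := F)).toEquiv,
    Module.natCard_eq_pow_finrank (K := ZMod 2), Nat.card_zmod, Module.finrank_linearMap, hfr, sq]

theorem mulAut_uni_structure [Fintype F] {m : ℕ} (hF : Fintype.card F = 2 ^ (2 * m + 1)) :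
    Cfsg.IsElementaryAbelian 2 (Cfsg.pCore 2 (MulAut (uni H))) ∧
      Nat.card (Cfsg.pCore 2 (MulAut (uni H))) = 2 ^ ((2 * m + 1) ^ 2) ∧
      Nat.card (MulAut (uni H)) =
        2 ^ ((2 * m + 1) ^ 2) * ((2 * m + 1) * (2 ^ (2 * m + 1) - 1)) := by
  haveI := Fact.mk Nat.prime_two
  have hq : Nat.card F = 2 ^ (2 * m + 1) := by rw [Nat.card_eq_fintype_card, hF]
  have hker : Nat.card (linPart H).ker = 2 ^ ((2 * m + 1) ^ 2) := by
    rw [← natCard_addMonoidHom H hq]
    exact (Nat.card_eq_of_bijective (fun φ : F →+ F =>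
      (⟨centralAut H φ, (mem_ker_linPart H).2 ⟨φ, rfl⟩⟩ : (linPart H).ker))
      ⟨fun φ ψ h => centralAut_injective H (congrArg Subtype.val h),
        fun ⟨α, hα⟩ => by
          obtain ⟨φ, hφ⟩ := (mem_ker_linPart H).1 hα
          exact ⟨φ, Subtype.ext hφ⟩⟩).symm
  have hran : Nat.card (linPart H).range = (2 * m + 1) * (2 ^ (2 * m + 1) - 1) := by
    have hg := CfsgLib.KnownB.PSLAut.card_gal (F := F) (p := 2) (f := 2 * m + 1) (by omega) hF
    rw [← hq, ← Nat.card_units, ← hg, ← Nat.card_prod]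
    refine (Nat.card_eq_of_bijective (fun x : (F ≃+* F) × Fˣ =>
      (⟨linPart H (semiAut H x.2 x.1), _, rfl⟩ : (linPart H).range)) ⟨?_, ?_⟩).symm
    · rintro ⟨τ, c⟩ ⟨τ', c'⟩ h
      have hfun : ∀ a, (c : F) * τ a = (c' : F) * τ' a := fun a => by
        rw [← linPart_semiAut H, ← linPart_semiAut H]
        exact congrArg (fun π : (linPart H).range => (π : Equiv.Perm F) a) h
      have hcc : c = c' := Units.ext (by simpa using hfun 1)
      subst hcc
      exact Prod.ext (RingEquiv.ext fun a => mul_left_cancel₀ c.ne_zero (hfun a)) rfl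
    · rintro ⟨_, α, rfl⟩
      obtain ⟨c, τ, hct⟩ := linPart_eq H α
      exact ⟨(τ, c), Subtype.ext (Equiv.ext fun a => by rw [linPart_semiAut H, hct])⟩
  have hcard : Nat.card (MulAut (uni H)) =
      2 ^ ((2 * m + 1) ^ 2) * ((2 * m + 1) * (2 ^ (2 * m + 1) - 1)) := by
    rw [← (linPart H).ker.card_mul_index, Subgroup.index_ker, hker, hran]
  have hp : IsPGroup 2 (linPart H).ker := IsPGroup.of_card hker
  have hcore : Cfsg.pCore 2 (MulAut (uni H)) = (linPart H).ker := by
    refine le_antisymm ?_ (CfsgLib.Base.le_pCore hp)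
    have hsy : Nat.card (linPart H).ker = 2 ^ (Nat.card (MulAut (uni H))).factorization 2 := by
      have hodd : ¬ 2 ∣ (2 * m + 1) * (2 ^ (2 * m + 1) - 1) := by
        rw [Nat.Prime.dvd_mul Nat.prime_two]
        have : 2 ∣ 2 ^ (2 * m + 1) := dvd_pow_self 2 (by omega)
        have : 0 < 2 ^ (2 * m + 1) := by positivity
        omega
      rw [hker, hcard, Nat.factorization_mul (pow_ne_zero _ two_ne_zero) (fun h => hodd (by rw [h]; exact dvd_zero 2)),
        Finsupp.add_apply, Nat.prime_two.factorization_pow, Nat.factorization_eq_zero_of_not_dvd hodd]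
      simp
    exact CfsgLib.Base.pCore_le_sylow (Sylow.ofCard (linPart H).ker hsy)
  refine ⟨?_, by rw [hcore, hker], hcard⟩
  rw [hcore]
  refine ⟨⟨⟨?_⟩⟩, ?_⟩
  · rintro ⟨x, hx⟩ ⟨y, hy⟩
    obtain ⟨φ, rfl⟩ := (mem_ker_linPart H).1 hx
    obtain ⟨ψ, rfl⟩ := (mem_ker_linPart H).1 hy
    apply Subtype.ext
    show centralAut H φ * centralAut H ψ = centralAut H ψ * centralAut H φ
    rw [centralAut_mul, centralAut_mul, add_comm]
  · intro x hx
    obtain ⟨φ, rfl⟩ := (mem_ker_linPart H).1 hx
    rw [sq, centralAut_mul]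
    refine MulEquiv.ext fun x => ?_
    obtain ⟨a, b, rfl⟩ := uu_surj H x
    rw [centralAut_uu, AddMonoidHom.add_apply, H.add_self, add_zero, MulAut.one_apply]

end CfsgLib.KnownA.Suzuki
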