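import Cfsg.Agent.Lib.KnownA.Suzuki.Classes
import Cfsg.Agent.Lib.Chars.TwoConjugates

/-!
# Estimates for the character values of a Suzuki group
-/

set_option autoImplicit false
set_option linter.unusedSectionVars false

namespace CfsgLib.KnownA.Suzuki

open Cfsg.Lie CfsgLib Finset
open scoped ComplexConjugate

variable {F : Type*} [Field F] [Fintype F] {e m : ℕ} (H : TitsField F e) (hm : 1 ≤ m)
  (hF : Fintype.card F = 2 ^ (2 * m + 1)) (he : e = 2 ^ (m + 1))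
  [Fintype (Sz F e)] [Fintype (Cfsg.IrrCharacter (Sz F e))] (T : CharTable H m)

/-- The sum of the squared absolute values at `g` over a set of characters. -/
noncomputable def normSum (X : Finset (Cfsg.IrrCharacter (Sz F e))) (g : Sz F e) : ℝ :=
  ∑ χ ∈ X, Complex.normSq ((χ : Sz F e → ℂ) g)

theorem normSum_nonneg (X : Finset (Cfsg.IrrCharacter (Sz F e))) (g : Sz F e) : 0 ≤ normSum X g :=
  Finset.sum_nonneg fun _ _ => Complex.normSq_nonneg _

theorem normSq_le_normSum {X : Finset (Cfsg.IrrCharacter (Sz F e))}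
    {χ : Cfsg.IrrCharacter (Sz F e)} (hχ : χ ∈ X) (g : Sz F e) :
    Complex.normSq ((χ : Sz F e → ℂ) g) ≤ normSum X g :=
  Finset.single_le_sum (f := fun ψ : Cfsg.IrrCharacter (Sz F e) => Complex.normSq ((ψ : Sz F e → ℂ) g))
    (fun _ _ => Complex.normSq_nonneg _) hχ

theorem normSum_of_agree {X : Finset (Cfsg.IrrCharacter (Sz F e))} {g : Sz F e}
    (ha : ∀ χ ∈ X, ∀ χ' ∈ X, (χ : Sz F e → ℂ) g = (χ' : Sz F e → ℂ) g)
    {χ : Cfsg.IrrCharacter (Sz F e)} (hχ : χ ∈ X) :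
    normSum X g = X.card * Complex.normSq ((χ : Sz F e → ℂ) g) := by
  rw [normSum, Finset.sum_congr rfl fun ψ hψ => by rw [ha ψ hψ χ hχ], Finset.sum_const, nsmul_eq_mul]

include T in
theorem orth_split (g : Sz F e) :
    1 + Complex.normSq ((T.St : Sz F e → ℂ) g) + normSum T.X0 g + normSum T.Xp g + normSum T.Xn g +
      normSum T.W g = Nat.card (Subgroup.centralizer ({g} : Set (Sz F e))) := by
  rw [← Chars.sum_normSq g, T.split, T.one_apply, map_one]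
  rfl

include H hm hF he T

theorem table_reals : (2 : ℝ) ≤ 2 ^ m ∧ (Fintype.card F : ℝ) = 2 * (2 ^ m) ^ 2 ∧
    (kp m : ℝ) = 2 * (2 ^ m) ^ 2 + 2 * 2 ^ m + 1 ∧ (km m : ℝ) = 2 * (2 ^ m) ^ 2 - 2 * 2 ^ m + 1 ∧
    (T.X0.card : ℝ) = (2 ^ m) ^ 2 - 1 ∧ 2 * (T.Xp.card : ℝ) = (2 ^ m) ^ 2 + 2 ^ m ∧
    2 * (T.Xn.card : ℝ) = (2 ^ m) ^ 2 - 2 ^ m := by
  have h0 : (T.X0.card : ℝ) + 1 = (4 : ℝ) ^ m := by exact_mod_cast T.card0
  have hp : 2 * (T.Xp.card : ℝ) = (4 : ℝ) ^ m + 2 ^ m := by exact_mod_cast T.cardp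
  have hn : 2 * (T.Xn.card : ℝ) + 2 ^ m = (4 : ℝ) ^ m := by exact_mod_cast T.cardn
  have h4 : (4 : ℝ) ^ m = (2 ^ m) ^ 2 := by rw [← pow_mul, mul_comm m 2, pow_mul]; norm_num
  refine ⟨le_self_pow₀ (by norm_num) (by omega), ?_, ?_, ?_, by linarith, by linarith, by linarith⟩
  · rw [hF]; push_cast; ring
  · simp only [kp]; push_cast; ring
  · simp only [km]; push_cast [Nat.cast_sub (pow_succ_le m)]; ring

theorem deg_reals :
    (∀ χ ∈ T.X0, (χ : Sz F e → ℂ) 1 = ((4 * ((2 : ℝ) ^ m) ^ 4 + 1 : ℝ) : ℂ)) ∧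
    (∀ χ ∈ T.Xp, (χ : Sz F e → ℂ) 1 =
      (((2 * ((2 : ℝ) ^ m) ^ 2 - 1) * (2 * (2 ^ m) ^ 2 - 2 * 2 ^ m + 1) : ℝ) : ℂ)) ∧
    (∀ χ ∈ T.Xn, (χ : Sz F e → ℂ) 1 =
      (((2 * ((2 : ℝ) ^ m) ^ 2 - 1) * (2 * (2 ^ m) ^ 2 + 2 * 2 ^ m + 1) : ℝ) : ℂ)) ∧
    ∀ χ ∈ T.W, (χ : Sz F e → ℂ) 1 = (((2 * ((2 : ℝ) ^ m) ^ 2 - 1) * 2 ^ m : ℝ) : ℂ) := by
  obtain ⟨-, hq, hkp, hkm, -⟩ := table_reals H hm hF he T
  have hq1 : ((Fintype.card F - 1 : ℕ) : ℝ) = 2 * (2 ^ m) ^ 2 - 1 := by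
    rw [Nat.cast_sub Fintype.card_pos, hq, Nat.cast_one]
  refine ⟨fun χ hχ => ?_, fun χ hχ => ?_, fun χ hχ => ?_, fun χ hχ => ?_⟩ <;>
    rw [CharApps.deg_eq, ← Complex.ofReal_natCast] <;> congr 1
  · rw [T.deg0 χ hχ, Nat.cast_add, Nat.cast_pow, hq, Nat.cast_one]; ring
  · rw [T.degp χ hχ, Nat.cast_mul, hq1, hkm]
  · rw [T.degn χ hχ, Nat.cast_mul, hq1, hkp]
  · rw [T.degW χ hχ, Nat.cast_mul, hq1, Nat.cast_pow, Nat.cast_ofNat]

theorem normSum_tor {w : Sz F e} (hw : w ∈ tor H) (hw1 : w ≠ 1) :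
    (T.St : Sz F e → ℂ) w = 1 ∧ normSum T.X0 w = 2 * ((2 : ℝ) ^ m) ^ 2 - 3 := by
  obtain ⟨t, rfl⟩ := hw
  have ht : t ≠ 1 := fun h => hw1 (by rw [h, sh_one])
  refine ⟨T.St_tor t ht, ?_⟩
  have h := orth_split H T (sh H t)
  rw [T.St_tor t ht, map_one, centralizer_sh H ht, natCard_tor H, Nat.card_eq_fintype_card,
    Nat.cast_sub Fintype.card_pos, (table_reals H hm hF he T).2.1] at h
  have hz : ∀ X ⊆ T.Xp ∪ T.Xn ∪ T.W, normSum X (sh H t) = 0 := fun X hX =>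
    Finset.sum_eq_zero fun χ hχ => by rw [T.tor_zero _ ⟨t, rfl⟩ hw1 χ (hX hχ), map_zero]
  rw [hz T.Xp fun χ h => by simp [h], hz T.Xn fun χ h => by simp [h],
    hz T.W fun χ h => by simp [h]] at h
  push_cast at h
  linarith

theorem normSum_Up {u : Sz F e} (hu : u ∈ T.Up) (hu1 : u ≠ 1) :
    normSum T.Xp u = 2 * ((2 : ℝ) ^ m) ^ 2 + 2 * 2 ^ m - 3 ∧ normSum T.W u = 2 := by
  have hW : normSum T.W u = 2 := by
    rw [normSum, Finset.sum_congr rfl fun χ hχ => by rw [T.Up_W u hu hu1 χ hχ, map_one],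
      Finset.sum_const, T.cardW]
    norm_num
  refine ⟨?_, hW⟩
  have h := orth_split H T u
  rw [T.St_fpf u (T.fpf_Up u hu hu1), map_neg_normSq, T.cent_Up u hu hu1, T.natCard_Up,
    (table_reals H hm hF he T).2.2.1, hW] at h
  have hz : ∀ X ⊆ T.X0 ∪ T.Xn, normSum X u = 0 := fun X hX =>
    Finset.sum_eq_zero fun χ hχ => by rw [T.Up_zero u hu hu1 χ (hX hχ), map_zero]
  rw [hz T.X0 fun χ h => by simp [h], hz T.Xn fun χ h => by simp [h]] at h
  linarith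
where
  map_neg_normSq : Complex.normSq (-1) = 1 := by rw [Complex.normSq_neg, map_one]

theorem normSum_Um {v : Sz F e} (hv : v ∈ T.Um) (hv1 : v ≠ 1) :
    normSum T.Xn v = 2 * ((2 : ℝ) ^ m) ^ 2 - 2 * 2 ^ m - 3 ∧ normSum T.W v = 2 := by
  have hW : normSum T.W v = 2 := by
    rw [normSum, Finset.sum_congr rfl fun χ hχ => by
      rw [T.Um_W v hv hv1 χ hχ, Complex.normSq_neg, map_one],
      Finset.sum_const, T.cardW]
    norm_num
  refine ⟨?_, hW⟩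
  have h := orth_split H T v
  rw [T.St_fpf v (T.fpf_Um v hv hv1), Complex.normSq_neg, map_one, T.cent_Um v hv hv1, T.natCard_Um,
    (table_reals H hm hF he T).2.2.2.1, hW] at h
  have hz : ∀ X ⊆ T.X0 ∪ T.Xp, normSum X v = 0 := fun X hX =>
    Finset.sum_eq_zero fun χ hχ => by rw [T.Um_zero v hv hv1 χ (hX hχ), map_zero]
  rw [hz T.X0 fun χ h => by simp [h], hz T.Xp fun χ h => by simp [h]] at h
  linarith

theorem not_isConj_four {g : Sz F e} (hg : g ^ 4 = 1) :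
    (∀ w ∈ T.Up, w ≠ 1 → ¬ IsConj g w) ∧ ∀ w ∈ T.Um, w ≠ 1 → ¬ IsConj g w := by
  have h : ∀ w, Fpf H w → ¬ IsConj g w := by
    intro w hw hc
    obtain ⟨k, rfl⟩ := isConj_iff.1 hc
    exact fpf_pow_four H hF hw (by rw [conj_pow, hg, mul_one, mul_inv_cancel])
  exact ⟨fun w h1 h2 => h w (T.fpf_Up w h1 h2), fun w h1 h2 => h w (T.fpf_Um w h1 h2)⟩

theorem one_le_normSq_four {g : Sz F e} (hg : g ^ 4 = 1) {χ : Cfsg.IrrCharacter (Sz F e)}
    (hχ : χ ∈ T.X0 ∪ T.Xp ∪ T.Xn) : 1 ≤ Complex.normSq ((χ : Sz F e → ℂ) g) := by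
  have h2 : 2 ∣ Fintype.card F := by rw [hF]; exact dvd_pow_self 2 (by omega)
  have hodd1 : Odd (Fintype.card F - 1) := by
    obtain ⟨j, hj⟩ := h2
    have := Fintype.card_pos (α := F)
    exact ⟨j - 1, by omega⟩
  have hk : Odd (kp m) ∧ Odd (km m) := by
    have h := kp_mul_km m
    have hodd : Odd ((2 ^ (2 * m + 1)) ^ 2 + 1) :=
      (Nat.even_pow.2 ⟨Nat.even_pow.2 ⟨even_two, by omega⟩, two_ne_zero⟩).add_one
    rw [← h] at hodd
    exact Nat.odd_mul.1 hodd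
  have hdeg : Odd (Cfsg.charDegree (χ : Sz F e → ℂ)) := by
    rcases mem_union.1 hχ with hχ | hχ
    · rcases mem_union.1 hχ with hχ | hχ
      · rw [T.deg0 χ hχ]
        exact (Nat.even_pow.2 ⟨even_iff_two_dvd.2 h2, two_ne_zero⟩).add_one
      · rw [T.degp χ hχ]; exact hodd1.mul hk.2
    · rw [T.degn χ hχ]; exact hodd1.mul hk.1
  obtain ⟨a, b, hab, k, hk1, hpar⟩ := Chars.exists_gauss (Chars.isCharacter_of_irr χ.2) hg
  have hkd : k = Cfsg.charDegree (χ : Sz F e → ℂ) := by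
    rw [CharApps.deg_eq] at hk1; exact_mod_cast hk1.symm
  have hab0 : 1 ≤ a * a + b * b := by
    by_contra hlt
    have ha : a = 0 := by nlinarith only [hlt, mul_self_nonneg a, mul_self_nonneg b]
    have hb : b = 0 := by nlinarith only [hlt, mul_self_nonneg a, mul_self_nonneg b]
    obtain ⟨j, hj⟩ := hdeg
    omega
  rw [hab, Complex.normSq_apply]
  simp only [Complex.add_re, Complex.add_im, Complex.mul_re, Complex.mul_im, Complex.intCast_re,
    Complex.intCast_im, Complex.I_re, Complex.I_im, mul_zero, mul_one, zero_sub, neg_zero, add_zero,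
    zero_add, sub_zero]
  exact_mod_cast hab0

/-- The budget for an element of order two or four. -/
theorem normSum_four {g : Sz F e} (hg : g ^ 4 = 1) (hg1 : g ≠ 1) :
    normSum T.X0 g + normSum T.Xp g + normSum T.Xn g + normSum T.W g =
        Nat.card (Subgroup.centralizer ({g} : Set (Sz F e))) - 1 ∧
      (T.X0.card : ℝ) ≤ normSum T.X0 g ∧ (T.Xp.card : ℝ) ≤ normSum T.Xp g ∧
      (T.Xn.card : ℝ) ≤ normSum T.Xn g := by
  refine ⟨?_, ?_, ?_, ?_⟩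
  · have h := orth_split H T g
    rw [T.St_four g hg hg1, map_zero] at h
    linarith
  all_goals
    rw [normSum, Finset.cast_card]
    exact Finset.sum_le_sum fun χ hχ => one_le_normSq_four H hm hF he T hg (by simp [hχ])

/-- The values on the standard involution are integers, congruent to the degree modulo `q`. -/
theorem exists_int_involution (χ : Cfsg.IrrCharacter (Sz F e)) :
    ∃ z : ℤ, (χ : Sz F e → ℂ) (sz H 1) = z ∧
      (Fintype.card F : ℤ) ∣ z - Cfsg.charDegree (χ : Sz F e → ℂ) := by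
  classical
  have hs2 : sz H (1 : F) * sz H 1 = 1 := by rw [sz_mul, H.add_self, sz, su_zero]
  obtain ⟨a, b, hab, -⟩ := Chars.exists_gauss (Chars.isCharacter_of_irr χ.2)
    (x := sz H 1) (by simp only [pow_succ, pow_zero, one_mul, hs2])
  have hb : b = 0 := by
    have h := Chars.irr_inv χ (sz H 1)
    rw [inv_eq_of_mul_eq_one_right hs2, hab] at h
    have h' := congrArg Complex.im h
    simp at h'
    have : (b : ℝ) = 0 := by linarith
    exact_mod_cast this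
  have hz : (χ : Sz F e → ℂ) (sz H 1) = a := by rw [hab, hb]; simp
  refine ⟨a, hz, ?_⟩
  haveI : Fintype (Multiplicative F) := Fintype.ofFinite _
  let φ : Multiplicative F →* Sz F e := MonoidHom.mk' (fun b => sz H (Multiplicative.toAdd b))
    fun b d => by rw [toAdd_mul, sz_mul]
  obtain ⟨k, hk⟩ := Chars.inner_irr_right_nat
    (Chars.isCharacter_comp φ (Chars.isCharacter_of_irr χ.2)) (Chars.principal (Multiplicative F))
  have hsum : ∑ b : Multiplicative F, (χ : Sz F e → ℂ) (φ b) =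
      (Cfsg.charDegree (χ : Sz F e → ℂ) : ℂ) + ((Fintype.card F - 1 : ℕ) : ℂ) * a := by
    rw [← Finset.add_sum_erase _ _ (mem_univ (1 : Multiplicative F)), map_one, CharApps.deg_eq,
      Finset.sum_congr rfl (fun w hw => ?_ : ∀ w ∈ univ.erase (1 : Multiplicative F),
        (χ : Sz F e → ℂ) (φ w) = (a : ℂ)),
      Finset.sum_const, Finset.card_erase_of_mem (mem_univ _), Finset.card_univ, nsmul_eq_mul,
      Fintype.card_congr Multiplicative.toAdd]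
    have hw1 : φ w ≠ 1 := fun h => (mem_erase.1 hw).1 <| by
      have := (su_inj H (h.trans (su_zero H).symm)).2
      exact Multiplicative.toAdd.injective this
    obtain ⟨l, hl⟩ := exists_conj_involution H hF (w := φ w)
      (by show sz H _ * sz H _ = 1; rw [sz_mul, H.add_self, sz, su_zero]) hw1
    rw [← hl, ← hz]
    simpa using Chars.isClassFunction_irr χ (sz H 1) l⁻¹
  rw [Chars.inner_def] at hk
  simp only [Chars.principal_apply, map_one, mul_one, Function.comp_apply] at hk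
  rw [Nat.card_eq_fintype_card, Fintype.card_congr Multiplicative.toAdd, hsum,
    Nat.cast_sub Fintype.card_pos, Nat.cast_one] at hk
  refine ⟨a - k, ?_⟩
  apply Int.cast_injective (α := ℂ)
  push_cast
  have hq0 : (Fintype.card F : ℂ) ≠ 0 := Nat.cast_ne_zero.2 Fintype.card_ne_zero
  field_simp at hk
  linear_combination -hk

/-- The values on the standard involution. -/
theorem values_involution :
    (∀ χ ∈ T.Xp, (χ : Sz F e → ℂ) (sz H 1) = ((2 * (2 : ℝ) ^ m - 1 : ℝ) : ℂ)) ∧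
    (∀ χ ∈ T.W, (χ : Sz F e → ℂ) (sz H 1) = ((-(2 : ℝ) ^ m : ℝ) : ℂ)) ∧
    ∀ χ ∈ T.Xn, Complex.normSq ((χ : Sz F e → ℂ) (sz H 1)) ≤ (2 * (2 : ℝ) ^ m + 1) ^ 2 := by
  classical
  have hs4 : (sz H (1 : F)) ^ 4 = 1 := by
    have hs2 : sz H (1 : F) * sz H 1 = 1 := by rw [sz_mul, H.add_self, sz, su_zero]
    simp only [pow_succ, pow_zero, one_mul, hs2]
  have hs1 : sz H (1 : F) ≠ 1 := fun h => one_ne_zero (su_inj H (h.trans (su_zero H).symm)).2
  obtain ⟨hnup, hnum⟩ := not_isConj_four H hm hF he T hs4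
  choose z hz hzd using exists_int_involution H hm hF he T
  obtain ⟨hbud, h0, -⟩ := normSum_four H hm hF he T hs4 hs1
  obtain ⟨hM2, hq, hkp, hkm, ht0, htp, htn⟩ := table_reals H hm hF he T
  have hC : (Nat.card (Subgroup.centralizer ({sz H (1 : F)} : Set (Sz F e))) : ℝ) ≤
      4 * ((2 : ℝ) ^ m) ^ 4 := by
    refine (Nat.cast_le.2 (natCard_centralizer_su_le H hF hs1)).trans (le_of_eq ?_)
    rw [Nat.cast_pow, hq]; ring
  have hns : ∀ χ : Cfsg.IrrCharacter (Sz F e), Complex.normSq ((χ : Sz F e → ℂ) (sz H 1)) = (z χ : ℝ) ^ 2 := fun χ => by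
    rw [hz χ, sq, ← Complex.normSq_ofReal, Complex.ofReal_intCast]
  set M : ℤ := 2 ^ m with hM
  have hMr : (M : ℝ) = (2 : ℝ) ^ m := by rw [hM]; push_cast; ring
  have hM2' : 2 ≤ M := le_self_pow₀ (by norm_num) (by omega)
  have hqz : (Fintype.card F : ℤ) = 2 * M ^ 2 := by rw [hF, hM]; push_cast; ring
  have hq1 : ((Fintype.card F - 1 : ℕ) : ℤ) = 2 * M ^ 2 - 1 := by
    rw [Nat.cast_sub Fintype.card_pos, hqz]; norm_num
  have hkpz : (kp m : ℤ) = 2 * M ^ 2 + 2 * M + 1 := by rw [hM]; simp only [kp]; push_cast; ring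
  have hkmz : (km m : ℤ) = 2 * M ^ 2 - 2 * M + 1 := by
    rw [hM]; simp only [km]; push_cast [Nat.cast_sub (pow_succ_le m)]; ring
  have hres : ∀ (χ : Cfsg.IrrCharacter (Sz F e)) (r : ℤ) (d : ℤ), (Cfsg.charDegree (χ : Sz F e → ℂ) : ℤ) = r + 2 * M ^ 2 * d →
      ∃ k : ℤ, z χ = r + 2 * M ^ 2 * k := by
    intro χ r d hd
    obtain ⟨c, hc⟩ := hzd χ
    rw [hqz] at hc
    exact ⟨c + d, by linear_combination hc + hd⟩
  have hfar : ∀ A y : ℤ, 0 ≤ A → A ≤ y ∨ y ≤ -A → A ^ 2 ≤ y ^ 2 := by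
    rintro A y hA (h | h)
    · exact pow_le_pow_left₀ hA h 2
    · rw [← neg_sq y]; exact pow_le_pow_left₀ hA (le_neg.1 h) 2
  have hMM : 2 * M ≤ M ^ 2 := by rw [sq]; exact mul_le_mul_of_nonneg_right hM2' (by omega)
  have hup : ∀ k : ℤ, 0 < k → 2 * M ^ 2 ≤ 2 * M ^ 2 * k := fun k hk =>
    le_mul_of_one_le_right (by linarith only [sq_nonneg M]) hk
  have hdown : ∀ k : ℤ, k < 0 → 2 * M ^ 2 * k ≤ -(2 * M ^ 2) := fun k hk => by
    have := hup (-k) (neg_pos.2 hk); linarith only [this]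
  have hp : ∀ χ ∈ T.Xp, z χ = 2 * M - 1 ∨ (2 * M ^ 2 - 2 * M + 1) ^ 2 ≤ z χ ^ 2 := by
    intro χ hχ
    obtain ⟨k, hk⟩ := hres χ (2 * M - 1) (2 * M ^ 2 - 2 * M)
      (by rw [T.degp χ hχ, Nat.cast_mul, hq1, hkmz]; ring)
    have hA : 0 ≤ 2 * M ^ 2 - 2 * M + 1 := by linarith only [hMM, hM2']
    rcases lt_trichotomy k 0 with hk0 | hk0 | hk0
    · exact Or.inr (hfar _ _ hA (Or.inr (by linarith only [hk, hdown k hk0])))
    · left; rw [hk, hk0]; ring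
    · exact Or.inr (hfar _ _ hA (Or.inl (by linarith only [hk, hup k hk0, hM2'])))
  have hn : ∀ χ ∈ T.Xn, (2 * M + 1) ^ 2 ≤ z χ ^ 2 ∨ (M = 2 ∧ 9 ≤ z χ ^ 2) := by
    intro χ hχ
    obtain ⟨k, hk⟩ := hres χ (-(2 * M + 1)) (2 * M ^ 2 + 2 * M)
      (by rw [T.degn χ hχ, Nat.cast_mul, hq1, hkpz]; ring)
    rcases lt_trichotomy k 0 with hk0 | hk0 | hk0
    · exact Or.inl (hfar _ _ (by omega) (Or.inr (by linarith only [hk, hdown k hk0, sq_nonneg M])))
    · left; rw [hk, hk0]; exact le_of_eq (by ring)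
    · rcases (le_or_gt 3 M) with h3 | h3
      · have h33 : 3 * M ≤ M ^ 2 := by rw [sq]; exact mul_le_mul_of_nonneg_right h3 (by omega)
        exact Or.inl (hfar _ _ (by omega) (Or.inl (by linarith only [hk, hup k hk0, h33, h3])))
      · right
        have h2 : M = 2 := by omega
        rw [h2] at hk
        exact ⟨h2, by nlinarith only [hk, Int.add_one_le_of_lt hk0]⟩
  have hw : ∀ χ ∈ T.W, z χ = -M ∨ (2 * M ^ 2 - M) ^ 2 ≤ z χ ^ 2 := by
    intro χ hχ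
    obtain ⟨k, hk⟩ := hres χ (-M) M
      (by rw [T.degW χ hχ, Nat.cast_mul, hq1, hM]; push_cast; ring)
    have hA : 0 ≤ 2 * M ^ 2 - M := by linarith only [hMM, hM2']
    rcases lt_trichotomy k 0 with hk0 | hk0 | hk0
    · exact Or.inr (hfar _ _ hA (Or.inr (by linarith only [hk, hdown k hk0, hM2'])))
    · left; rw [hk, hk0]; ring
    · exact Or.inr (hfar _ _ hA (Or.inl (by linarith only [hk, hup k hk0])))
  have hp0 : ∀ χ ∈ T.Xp, (2 * M - 1) ^ 2 ≤ z χ ^ 2 := fun χ hχ => by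
    rcases hp χ hχ with h | h
    · rw [h]
    · exact le_trans (pow_le_pow_left₀ (by omega) (by linarith only [hMM, hM2']) 2) h
  have hw0 : ∀ χ ∈ T.W, M ^ 2 ≤ z χ ^ 2 := fun χ hχ => by
    rcases hw χ hχ with h | h
    · rw [h, neg_sq]
    · exact le_trans (pow_le_pow_left₀ (by omega) (by linarith only [hMM, hM2']) 2) h
  have hSp : (T.Xp.card : ℝ) * (2 * 2 ^ m - 1) ^ 2 ≤ normSum T.Xp (sz H 1) := by
    rw [normSum, ← nsmul_eq_mul]
    refine Finset.card_nsmul_le_sum _ _ _ fun χ hχ => ?_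
    rw [hns, ← hMr]; exact_mod_cast hp0 χ hχ
  have hSn : (T.Xn.card : ℝ) * (2 * 2 ^ m + 1) ^ 2 - 16 ≤ normSum T.Xn (sz H 1) := by
    by_cases h2 : M = 2
    · have hm2 : (2 : ℝ) ^ m = 2 := by rw [← hMr, h2]; norm_num
      rw [hm2] at htn ⊢
      have hc1 : (T.Xn.card : ℝ) = 1 := by linarith
      have h9 : (T.Xn.card : ℝ) * 9 ≤ normSum T.Xn (sz H 1) := by
        rw [normSum, ← nsmul_eq_mul]
        refine Finset.card_nsmul_le_sum _ _ _ fun χ hχ => ?_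
        rw [hns]
        rcases hn χ hχ with h | ⟨-, h⟩
        · rw [h2] at h
          have : (25 : ℝ) ≤ (z χ : ℝ) ^ 2 := by exact_mod_cast h
          linarith
        · exact_mod_cast h
      rw [hc1] at h9 ⊢
      linarith
    · have h25 : (T.Xn.card : ℝ) * (2 * 2 ^ m + 1) ^ 2 ≤ normSum T.Xn (sz H 1) := by
        rw [normSum, ← nsmul_eq_mul]
        refine Finset.card_nsmul_le_sum _ _ _ fun χ hχ => ?_
        rw [hns, ← hMr]
        rcases hn χ hχ with h | ⟨h, -⟩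
        · exact_mod_cast h
        · exact absurd h h2
      linarith
  have hSW : ∀ χ ∈ T.W, (z χ : ℝ) ^ 2 + (2 ^ m) ^ 2 ≤ normSum T.W (sz H 1) := by
    intro χ hχ
    obtain ⟨ψ, hψ, hne⟩ : ∃ ψ ∈ T.W, ψ ≠ χ :=
      Finset.exists_mem_ne (by rw [T.cardW]; norm_num) χ
    have h := Finset.sum_le_sum_of_subset_of_nonneg
      (f := fun ψ : Cfsg.IrrCharacter (Sz F e) => Complex.normSq ((ψ : Sz F e → ℂ) (sz H 1)))
      (show ({χ, ψ} : Finset _) ⊆ T.W by simp [Finset.insert_subset_iff, hχ, hψ])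
      (fun _ _ _ => Complex.normSq_nonneg _)
    rw [Finset.sum_pair (Ne.symm hne), hns, hns] at h
    refine le_trans (add_le_add le_rfl ?_) h
    rw [← hMr]; exact_mod_cast hw0 ψ hψ
  obtain ⟨w₀, hw₀⟩ := Finset.card_pos.1 (show 0 < T.W.card by rw [T.cardW]; norm_num)
  have hW2 : 2 * ((2 : ℝ) ^ m) ^ 2 ≤ normSum T.W (sz H 1) := by
    have h1 : ((2 : ℝ) ^ m) ^ 2 ≤ (z w₀ : ℝ) ^ 2 := by rw [← hMr]; exact_mod_cast hw0 w₀ hw₀
    linarith [hSW w₀ hw₀]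
  have hval : ∀ (χ : Cfsg.IrrCharacter (Sz F e)) (r : ℤ) (v : ℝ), z χ = r → (r : ℝ) = v →
      (χ : Sz F e → ℂ) (sz H 1) = (v : ℂ) := by
    intro χ r v h1 h2
    rw [hz χ, h1, ← h2, Complex.ofReal_intCast]
  refine ⟨fun χ hχ => ?_, fun χ hχ => ?_, fun χ hχ => ?_⟩
  · refine hval χ (2 * M - 1) _ ?_ (by push_cast [hMr]; ring)
    refine (hp χ hχ).resolve_right fun hbig => ?_
    have hbig' : (2 * ((2 : ℝ) ^ m) ^ 2 - 2 * 2 ^ m + 1) ^ 2 ≤ (z χ : ℝ) ^ 2 := by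
      rw [← hMr]; exact_mod_cast hbig
    have h := normSum_of_agree (T.agreep _ hnup) hχ
    rw [hns] at h
    nlinarith [mul_le_mul_of_nonneg_left hbig' (Nat.cast_nonneg (α := ℝ) T.Xp.card),
      mul_le_mul hM2 hM2 zero_le_two (by linarith : (0 : ℝ) ≤ 2 ^ m),
      mul_nonneg (sub_nonneg.2 hM2) (sub_nonneg.2 hM2)]
  · refine hval χ (-M) _ ?_ (by push_cast [hMr]; ring)
    refine (hw χ hχ).resolve_right fun hbig => ?_
    have hbig' : (2 * ((2 : ℝ) ^ m) ^ 2 - 2 ^ m) ^ 2 ≤ (z χ : ℝ) ^ 2 := by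
      rw [← hMr]; exact_mod_cast hbig
    nlinarith [hSW χ hχ, mul_le_mul hM2 hM2 zero_le_two (by linarith : (0 : ℝ) ≤ 2 ^ m),
      mul_nonneg (sub_nonneg.2 hM2) (sub_nonneg.2 hM2)]
  · have h := normSum_of_agree (T.agreen _ hnum) hχ
    have hpos : (0 : ℝ) < T.Xn.card := Nat.cast_pos.2 (Finset.card_pos.2 ⟨χ, hχ⟩)
    refine le_of_mul_le_mul_left ?_ hpos
    rw [← h]
    nlinarith

end CfsgLib.KnownA.Suzuki
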